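/-
The unipotent radical of a point stabiliser of the symplectic group, coordinate free.
-/
import Cfsg.Agent.Lib.Transvec.Alt

set_option autoImplicit false

namespace Cfsg.Agent.SpMin

open Matrix Cfsg.Agent.Transvec

variable {ι : Type} [Fintype ι] [DecidableEq ι] {F : Type*} [Field F]

/-- The isometry group of a form. -/
abbrev Isom (f : (ι → F) → (ι → F) → F) : Subgroup (GL ι F) := preserving (Units.coeHom (Matrix ι ι F)) f

variable {f : (ι → F) → (ι → F) → F} (hf : Geo.IsSymplecticForm f)
include hf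

theorem mem_isom {g : GL ι F} : g ∈ Isom f ↔ ∀ u v, f (mv g u) (mv g v) = f u v := Iff.rfl

/-- The map z ↦ z + f(z,x) v + f(z,v) x + c f(z,x) x as a linear map. -/
def qLin (x v : ι → F) (c : F) : (ι → F) →ₗ[F] (ι → F) :=
  LinearMap.id + (formR hf x).smulRight v + (formR hf v).smulRight x + (c • formR hf x).smulRight x

theorem qLin_apply (x v : ι → F) (c : F) (z : ι → F) :
    qLin hf x v c z = z + f z x • v + f z v • x + (c * f z x) • x := rfl

theorem qLin_comp {x v w : ι → F} (hv : f v x = 0) (hw : f w x = 0) (c d : F) (z : ι → F) :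
    qLin hf x v c (qLin hf x w d z) = qLin hf x (v + w) (c + d + f w v) z := by
  have hxv : f x v = 0 := (f_eq_zero_comm hf).1 hv
  simp only [qLin_apply, hf.bilinear.add_left, hf.bilinear.add_right, hf.bilinear.smul_left,
    hf.alternating, hw, hxv, mul_zero, add_zero]
  simp only [smul_add, add_smul, add_mul, mul_comm (f z x) (f w v)]
  abel

theorem qLin_zero (x : ι → F) (z : ι → F) : qLin hf x 0 0 z = z := by
  simp [qLin_apply, f_zero_right hf]

open scoped Classical in
/-- The element of the unipotent radical at x. -/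
noncomputable def qel (x v : ι → F) (c : F) : GL ι F :=
  if hv : f v x = 0 then
    { val := LinearMap.toMatrix' (qLin hf x v c)
      inv := LinearMap.toMatrix' (qLin hf x (-v) (-c))
      val_inv := by
        rw [← LinearMap.toMatrix'_comp, ← LinearMap.toMatrix'_id]
        congr 1
        refine LinearMap.ext fun z => ?_
        rw [LinearMap.comp_apply, qLin_comp hf hv (by rw [f_neg_left hf, hv, neg_zero]), add_neg_cancel,
          f_neg_left hf, hf.alternating, neg_zero, add_zero, add_neg_cancel, qLin_zero hf, LinearMap.id_apply]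
      inv_val := by
        rw [← LinearMap.toMatrix'_comp, ← LinearMap.toMatrix'_id]
        congr 1
        refine LinearMap.ext fun z => ?_
        rw [LinearMap.comp_apply, qLin_comp hf (by rw [f_neg_left hf, hv, neg_zero]) hv, neg_add_cancel,
          f_neg_right hf, hf.alternating, neg_zero, add_zero, neg_add_cancel, qLin_zero hf, LinearMap.id_apply] }
  else 1

theorem mv_qel {x v : ι → F} (hv : f v x = 0) (c : F) (z : ι → F) :
    mv (qel hf x v c) z = z + f z x • v + f z v • x + (c * f z x) • x := by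
  simp only [qel, dif_pos hv, mv, LinearMap.toMatrix'_mulVec, qLin_apply]

theorem qel_fix {x v : ι → F} (hv : f v x = 0) (c : F) : mv (qel hf x v c) x = x := by
  rw [mv_qel hf hv, hf.alternating, (f_eq_zero_comm hf).1 hv]; simp

theorem qel_mul {x v w : ι → F} (hv : f v x = 0) (hw : f w x = 0) (c d : F) :
    qel hf x v c * qel hf x w d = qel hf x (v + w) (c + d + f w v) := by
  refine ext_mv fun z => ?_
  rw [mv_mul, mv_qel hf hw, mv_qel hf hv, mv_qel hf (by rw [hf.bilinear.add_left, hv, hw, add_zero])]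
  exact qLin_comp hf hv hw c d z

theorem qel_zero (x : ι → F) (c : F) : qel hf x 0 c = stv hf x c := by
  refine ext_mv fun z => ?_
  rw [mv_qel hf (f_zero_left hf x), mv_stv, f_zero_right hf]
  simp

theorem qel_one (x : ι → F) : qel hf x 0 0 = 1 := by rw [qel_zero, stv_zero]

theorem qel_inv {x v : ι → F} (hv : f v x = 0) (c : F) : (qel hf x v c)⁻¹ = qel hf x (-v) (-c) := by
  rw [inv_eq_iff_mul_eq_one, qel_mul hf hv (by rw [f_neg_left hf, hv, neg_zero]), add_neg_cancel,
    f_neg_left hf, hf.alternating, neg_zero, add_zero, add_neg_cancel, qel_one]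

theorem qel_shift {x v : ι → F} (hv : f v x = 0) (c e : F) :
    qel hf x (v + e • x) c = qel hf x v (c + 2 * e) := by
  refine ext_mv fun z => ?_
  rw [mv_qel hf hv, mv_qel hf (by rw [hf.bilinear.add_left, hv, hf.bilinear.smul_left, hf.alternating,
    mul_zero, add_zero]), hf.bilinear.add_right, hf.bilinear.smul_right]
  simp only [smul_add, add_smul, smul_smul, add_mul, two_mul, mul_comm (f z x) e]
  abel

theorem qel_mem {x v : ι → F} (hv : f v x = 0) (c : F) : qel hf x v c ∈ Isom f := by
  show ∀ a b, f (mv (qel hf x v c) a) (mv (qel hf x v c) b) = f a b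
  intro a b
  simp only [mv_qel hf hv, hf.bilinear.add_left, hf.bilinear.add_right, hf.bilinear.smul_left,
    hf.bilinear.smul_right, hf.alternating, hv, (f_eq_zero_comm hf).1 hv, hf.skew x b, hf.skew v b]
  ring

theorem qel_conj {g : GL ι F} (hg : g ∈ Isom f) {x v : ι → F} (hv : f v x = 0) (c : F) :
    g * qel hf x v c * g⁻¹ = qel hf (mv g x) (mv g v) c := by
  have hg' : ∀ a b, f (mv g a) (mv g b) = f a b := hg
  refine ext_mv fun z => ?_
  obtain ⟨y, rfl⟩ : ∃ y, z = mv g y := ⟨mv g⁻¹ z, (mv_mv_inv g z).symm⟩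
  rw [mv_mul, mv_mul, mv_inv_mv, mv_qel hf hv, mv_qel hf (by rw [hg', hv]), hg', hg', mv_add, mv_add, mv_add,
    mv_smul, mv_smul, mv_smul]

theorem qel_scale {x v : ι → F} (hv : f v x = 0) (t c : F) :
    qel hf (t • x) v c = qel hf x (t • v) (t ^ 2 * c) := by
  refine ext_mv fun z => ?_
  rw [mv_qel hf (by rw [hf.bilinear.smul_right, hv, mul_zero]), mv_qel hf (by rw [hf.bilinear.smul_left, hv, mul_zero]),
    hf.bilinear.smul_right, hf.bilinear.smul_right]
  simp only [smul_smul]
  congr 1
  · congr 1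
    · congr 2; ring
    · congr 1; ring
  · congr 1; ring

/-- The product of two transvections with centres on an isotropic line. -/
theorem stv_mul_stv {x u : ι → F} (hu : f u x = 0) (a e e' : F) :
    stv hf (u + e • x) a * stv hf (u + e' • x) (-a) = qel hf x ((a * (e - e')) • u) (a * (e ^ 2 - e' ^ 2)) := by
  refine ext_mv fun z => ?_
  have hxu : f x u = 0 := (f_eq_zero_comm hf).1 hu
  rw [mv_mul, mv_stv, mv_stv, mv_qel hf (by rw [hf.bilinear.smul_left, hu, mul_zero])]
  simp only [hf.bilinear.add_left, hf.bilinear.add_right, hf.bilinear.smul_left, hf.bilinear.smul_right,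
    hf.alternating, hu, hxu, mul_zero, add_zero, smul_add, add_smul, smul_smul]
  match_scalars <;> ring

theorem f_add_line {x v w : ι → F} (hv : f v x = 0) (hw : f w x = 0) : f (v + w) x = 0 := by
  rw [hf.bilinear.add_left, hv, hw, add_zero]

/-- The unipotent radical at x. -/
def radQ (x : ι → F) : Subgroup (GL ι F) where
  carrier := {g | ∃ v c, f v x = 0 ∧ g = qel hf x v c}
  one_mem' := ⟨0, 0, f_zero_left hf x, (qel_one hf x).symm⟩
  mul_mem' := by
    rintro _ _ ⟨v, c, hv, rfl⟩ ⟨w, d, hw, rfl⟩
    exact ⟨_, _, f_add_line hf hv hw, qel_mul hf hv hw c d⟩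
  inv_mem' := by
    rintro _ ⟨v, c, hv, rfl⟩
    exact ⟨_, _, by rw [f_neg_left hf, hv, neg_zero], qel_inv hf hv c⟩

theorem radQ_le (x : ι → F) : radQ hf x ≤ Isom f := by
  rintro _ ⟨v, c, hv, rfl⟩
  exact qel_mem hf hv c

theorem qel_mem_radQ {x v : ι → F} (hv : f v x = 0) (c : F) : qel hf x v c ∈ radQ hf x := ⟨v, c, hv, rfl⟩

/-- A partner of a non-zero vector. -/
theorem exists_pair {x : ι → F} (hx : x ≠ 0) : ∃ y, f x y = 1 := by
  obtain ⟨y, hy⟩ := (hf.nondegenerate x hx).1
  have hy' : f x y ≠ 0 := fun h => hy ((f_eq_zero_comm hf).1 h)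
  exact ⟨(f x y)⁻¹ • y, by rw [hf.bilinear.smul_right, inv_mul_cancel₀ hy']⟩



/-- The coordinates of an element of the radical are unique modulo x. -/
theorem qel_inj {x v w : ι → F} (hx : x ≠ 0) (hv : f v x = 0) (hw : f w x = 0) {c d : F}
    (h : qel hf x v c = qel hf x w d) : ∃ e, v = w + e • x ∧ d = c + 2 * e := by
  obtain ⟨y, hy⟩ := exists_pair hf hx
  have hyx : f y x = -1 := by rw [hf.skew, hy]
  have h1 := congrArg (fun g => mv g y) h
  simp only [mv_qel hf hv, mv_qel hf hw, hyx] at h1
  have hvw : v = w + (f y v - c - (f y w - d)) • x := by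
    simp only [neg_smul, one_smul, mul_neg, mul_one] at h1
    rw [sub_smul, sub_smul, sub_smul]
    linear_combination (norm := abel) -h1
  refine ⟨_, hvw, ?_⟩
  have := congrArg (f y) hvw
  rw [hf.bilinear.add_right, hf.bilinear.smul_right, hyx] at this
  linear_combination -this

end Cfsg.Agent.SpMin
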