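/-
The data of a subgroup at a point: centres, radical part, indices and orbits.
-/
import Cfsg.Agent.Lib.SpMinIndex.Elem
import Mathlib.LinearAlgebra.Projectivization.Cardinality

set_option autoImplicit false

namespace Cfsg.Agent.SpMin

open Matrix Cfsg.Agent.Transvec

/-- A map whose fibres are the left cosets of a subgroup has range of size the index. -/
theorem card_range_eq_index {G β : Type*} [Group G] (P : Subgroup G) (φ : G → β)
    (h : ∀ a b, φ a = φ b ↔ a⁻¹ * b ∈ P) : Nat.card (Set.range φ) = P.index := by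
  let e : G ⧸ P → Set.range φ := fun c => Quotient.liftOn' c (fun a => ⟨φ a, a, rfl⟩) fun a b hab =>
    Subtype.ext ((h a b).2 (QuotientGroup.leftRel_apply.1 hab))
  refine (Nat.card_congr (Equiv.ofBijective e ⟨?_, ?_⟩)).symm
  · intro c d hcd
    induction c using QuotientGroup.induction_on with
    | H a =>
      induction d using QuotientGroup.induction_on with
      | H b => exact QuotientGroup.eq.2 ((h a b).1 (congrArg Subtype.val hcd))
  · rintro ⟨-, a, rfl⟩
    exact ⟨(a : G ⧸ P), rfl⟩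

variable {ι : Type} [Fintype ι] [DecidableEq ι] {F : Type*} [Field F]
variable {f : (ι → F) → (ι → F) → F} (hf : Geo.IsSymplecticForm f)
include hf

/-- The vectors orthogonal to x. -/
def perp (x : ι → F) : Submodule F (ι → F) := LinearMap.ker (formR hf x)

theorem mem_perp {x v : ι → F} : v ∈ perp hf x ↔ f v x = 0 := Iff.rfl

theorem self_mem_perp (x : ι → F) : x ∈ perp hf x := hf.alternating x

theorem perp_smul {x : ι → F} {t : F} (ht : t ≠ 0) : perp hf (t • x) = perp hf x := by
  ext v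
  rw [mem_perp, mem_perp, hf.bilinear.smul_right, mul_eq_zero, or_iff_right ht]

/-- The parameters of the transvections at x inside H. -/
def sPar (H : Subgroup (GL ι F)) (x : ι → F) : AddSubgroup F where
  carrier := {c | stv hf x c ∈ H}
  zero_mem' := by show stv hf x 0 ∈ H; rw [stv_zero]; exact H.one_mem
  add_mem' {a b} ha hb := by show stv hf x (a + b) ∈ H; rw [← stv_add]; exact H.mul_mem ha hb
  neg_mem' {a} ha := by
    show stv hf x (-a) ∈ H
    rw [show stv hf x (-a) = (stv hf x a)⁻¹ from eq_inv_of_mul_eq_one_left (by rw [stv_add, neg_add_cancel, stv_zero])]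
    exact H.inv_mem ha

theorem mem_sPar {H : Subgroup (GL ι F)} {x : ι → F} {c : F} : c ∈ sPar hf H x ↔ stv hf x c ∈ H := Iff.rfl

/-- The vectors of the radical elements at x inside H. -/
def kPar (H : Subgroup (GL ι F)) (x : ι → F) : AddSubgroup (ι → F) where
  carrier := {v | f v x = 0 ∧ ∃ c, qel hf x v c ∈ H}
  zero_mem' := ⟨f_zero_left hf x, 0, by rw [qel_one]; exact H.one_mem⟩
  add_mem' := by
    rintro v w ⟨hv, c, hc⟩ ⟨hw, d, hd⟩
    exact ⟨f_add_line hf hv hw, _, qel_mul hf hv hw c d ▸ H.mul_mem hc hd⟩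
  neg_mem' := by
    rintro v ⟨hv, c, hc⟩
    exact ⟨by rw [f_neg_left hf, hv, neg_zero], _, qel_inv hf hv c ▸ H.inv_mem hc⟩

theorem mem_kPar {H : Subgroup (GL ι F)} {x v : ι → F} :
    v ∈ kPar hf H x ↔ f v x = 0 ∧ ∃ c, qel hf x v c ∈ H := Iff.rfl

theorem smul_self_mem_kPar (H : Subgroup (GL ι F)) (x : ι → F) (e : F) : e • x ∈ kPar hf H x := by
  refine ⟨by rw [hf.bilinear.smul_left, hf.alternating, mul_zero], -(2 * e), ?_⟩
  have := qel_shift hf (f_zero_left hf x) (-(2 * e)) e
  rw [zero_add] at this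
  rw [this, neg_add_cancel, qel_one]
  exact H.one_mem

theorem kPar_add_line {H : Subgroup (GL ι F)} {x v : ι → F} (hv : v ∈ kPar hf H x) (e : F) :
    v + e • x ∈ kPar hf H x := add_mem hv (smul_self_mem_kPar hf H x e)

/-- The stabiliser of the line of x in the isometry group. -/
def pStab (f : (ι → F) → (ι → F) → F) (x : ι → F) : Subgroup (GL ι F) := Isom f ⊓ Geo.subspaceStabilizer (Submodule.span F {x})

theorem mem_pStab {x : ι → F} (hx : x ≠ 0) {g : GL ι F} :
    g ∈ pStab f x ↔ g ∈ Isom f ∧ ∃ t : F, t ≠ 0 ∧ mv g x = t • x := by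
  constructor
  · rintro ⟨hg, hs⟩
    obtain ⟨t, ht⟩ := Submodule.mem_span_singleton.1
      (mv_mem_of_mem_stab hs (Submodule.mem_span_singleton_self x))
    refine ⟨hg, t, fun h => hx ?_, ht.symm⟩
    rw [h, zero_smul] at ht
    exact mv_inj g (ht.symm.trans (mv_zero g).symm)
  · rintro ⟨hg, t, -, ht⟩
    refine ⟨hg, mem_subspaceStabilizer_of_le fun v hv => ?_⟩
    obtain ⟨a, rfl⟩ := Submodule.mem_span_singleton.1 hv
    rw [mv_smul, ht, smul_smul]
    exact Submodule.smul_mem _ _ (Submodule.mem_span_singleton_self x)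

theorem radQ_le_pStab {x : ι → F} (hx : x ≠ 0) : radQ hf x ≤ pStab f x := by
  rintro _ ⟨v, c, hv, rfl⟩
  exact (mem_pStab hf hx).2 ⟨qel_mem hf hv c, 1, one_ne_zero, by rw [qel_fix hf hv, one_smul]⟩

theorem conj_mem_radQ {x : ι → F} (hx : x ≠ 0) {g u : GL ι F} (hg : g ∈ pStab f x) (hu : u ∈ radQ hf x) :
    g * u * g⁻¹ ∈ radQ hf x := by
  obtain ⟨hgi, t, ht, htx⟩ := (mem_pStab hf hx).1 hg
  obtain ⟨v, c, hv, rfl⟩ := hu
  rw [qel_conj hf hgi hv, htx]
  have : f (mv g v) x = 0 := by
    have h : f (mv g v) (mv g x) = 0 := (hgi v x).trans hv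
    rw [htx, hf.bilinear.smul_right] at h
    exact (mul_eq_zero.1 h).resolve_left ht
  rw [qel_scale hf this]
  exact qel_mem_radQ hf (by rw [hf.bilinear.smul_left, this, mul_zero]) _

/-! ### Orbits of lines and indices -/

open scoped LinearAlgebra.Projectivization

/-- The image of the line of x. -/
def linePt {x : ι → F} (hx : x ≠ 0) (g : GL ι F) : ℙ F (ι → F) :=
  Projectivization.mk F (mv g x) fun h => hx (mv_inj g (h.trans (mv_zero g).symm))

/-- The lines in the orbit of the line of x. -/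
def lineOrbit {x : ι → F} (hx : x ≠ 0) (H : Subgroup (GL ι F)) : Set (ℙ F (ι → F)) :=
  Set.range fun h : H => linePt hx (h : GL ι F)

theorem linePt_eq_iff {x : ι → F} (hx : x ≠ 0) {a b : GL ι F} :
    linePt hx a = linePt hx b ↔ ∃ t : F, t ≠ 0 ∧ mv (a⁻¹ * b) x = t • x := by
  rw [linePt, linePt, Projectivization.mk_eq_mk_iff']
  constructor
  · rintro ⟨t, ht⟩
    have ht0 : t ≠ 0 := fun h => hx (mv_inj a (by rw [← ht, h, zero_smul, mv_zero]))
    refine ⟨t⁻¹, inv_ne_zero ht0, ?_⟩
    rw [mv_mul, show mv b x = t⁻¹ • mv a x by rw [← ht, smul_smul, inv_mul_cancel₀ ht0, one_smul], mv_smul, mv_inv_mv]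
  · rintro ⟨t, ht, h⟩
    refine ⟨t⁻¹, ?_⟩
    rw [mv_mul] at h
    have h' := congrArg (mv a) h
    rw [mv_mv_inv, mv_smul] at h'
    rw [h', smul_smul, inv_mul_cancel₀ ht, one_smul]

theorem card_lineOrbit {x : ι → F} (hx : x ≠ 0) {H : Subgroup (GL ι F)} (hH : H ≤ Isom f) :
    Nat.card (lineOrbit hx H) = (pStab f x).relIndex H := by
  refine card_range_eq_index _ _ fun a b => ?_
  rw [linePt_eq_iff hf, Subgroup.mem_subgroupOf, mem_pStab hf hx]
  refine ⟨fun h => ⟨hH (a⁻¹ * b).2, h⟩, fun h => h.2⟩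

/-- The comparison of the two indices. -/
theorem relIndex_identity {x : ι → F} (hx : x ≠ 0) {H : Subgroup (GL ι F)} (hH : H ≤ Isom f) :
    H.relIndex (pStab f x) * Nat.card (lineOrbit hx (Isom f)) =
      Nat.card (lineOrbit hx H) * H.relIndex (Isom f) := by
  rw [card_lineOrbit hf hx hH, card_lineOrbit hf hx le_rfl, ← Subgroup.inf_relIndex_right H,
    Subgroup.relIndex_mul_relIndex (H ⊓ pStab f x) (pStab f x) (Isom f) inf_le_right inf_le_left,
    ← Subgroup.relIndex_mul_relIndex _ _ _ inf_le_left hH, Subgroup.inf_relIndex_left]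

theorem exists_isom_map {x y : ι → F} (hx : x ≠ 0) (hy : y ≠ 0) : ∃ g ∈ Isom f, mv g x = y := by
  obtain ⟨g, hg, h, -⟩ := exists_move_nondeg hf (nondeg_top hf) (K := Isom f) (fun v _ c => stv_mem hf v c)
    Submodule.mem_top Submodule.mem_top hx hy
  exact ⟨g, hg, h⟩

theorem lineOrbit_isom {x : ι → F} (hx : x ≠ 0) : lineOrbit hx (Isom f) = Set.univ := by
  refine Set.eq_univ_of_forall fun p => ?_
  induction p using Projectivization.ind with
  | h y hy =>
    obtain ⟨g, hg, h⟩ := exists_isom_map hf hx hy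
    exact ⟨⟨g, hg⟩, by simp only [linePt, h]⟩

variable [Finite F]

theorem card_lines_mul (n : ℕ) (hn : Fintype.card ι = n) :
    Nat.card (ℙ F (ι → F)) * (Nat.card F - 1) + 1 = Nat.card F ^ n := by
  rw [← Projectivization.card', Nat.card_fun, Nat.card_eq_fintype_card (α := ι), hn]

theorem card_perp_mul {x : ι → F} (hx : x ≠ 0) :
    Nat.card (perp hf x) * Nat.card F = Nat.card F ^ Fintype.card ι := by
  have hsurj : Function.Surjective (formR hf x) := fun c => by
    obtain ⟨y, hy⟩ := exists_pair hf hx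
    exact ⟨(-c) • y, by rw [formR_apply, hf.bilinear.smul_left, hf.skew y x, hy]; ring⟩
  have h := AddSubgroup.card_eq_card_quotient_mul_card_addSubgroup (perp hf x).toAddSubgroup
  rw [show Nat.card ((ι → F) ⧸ (perp hf x).toAddSubgroup) = Nat.card F from
    Nat.card_congr ((LinearMap.quotKerEquivOfSurjective _ hsurj).toEquiv), Nat.card_fun,
    Nat.card_eq_fintype_card (α := ι)] at h
  rw [h, mul_comm]
  rfl

/-- The size of the part of H in the radical. -/
theorem card_inf_radQ {x : ι → F} (hx : x ≠ 0) (H : Subgroup (GL ι F)) :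
    Nat.card (H ⊓ radQ hf x : Subgroup (GL ι F)) * Nat.card F = Nat.card (kPar hf H x) * Nat.card (sPar hf H x) := by
  classical
  obtain ⟨y, hy⟩ := exists_pair hf hx
  have hyx : f y x = -1 := by rw [hf.skew, hy]
  choose c₀ hc₀ using fun v : kPar hf H x => v.2.2
  let φ : kPar hf H x × sPar hf H x → (H ⊓ radQ hf x : Subgroup (GL ι F)) × F := fun p =>
    (⟨qel hf x p.1 (c₀ p.1 + p.2), by
      refine ⟨?_, qel_mem_radQ hf p.1.2.1 _⟩
      have := H.mul_mem (hc₀ p.1) (show qel hf x 0 (p.2 : F) ∈ H by rw [qel_zero]; exact p.2.2)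
      rwa [qel_mul hf p.1.2.1 (f_zero_left hf x), add_zero, f_zero_left hf, add_zero] at this⟩, f y p.1)
  have hinj : Function.Injective φ := by
    rintro ⟨v, s⟩ ⟨w, t⟩ h
    obtain ⟨h1, h2⟩ := Prod.mk.inj h
    obtain ⟨e, he, he'⟩ := qel_inj hf hx v.2.1 w.2.1 (congrArg Subtype.val h1)
    have : e = 0 := by
      simp only [] at h2
      rw [he, hf.bilinear.add_right, hf.bilinear.smul_right, hyx] at h2
      linear_combination -h2
    rw [this, zero_smul, add_zero] at he
    obtain rfl : v = w := Subtype.ext he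
    simp only [this, mul_zero, add_zero, add_right_inj] at he'
    rw [Subtype.ext he']
  have hsur : Function.Surjective φ := by
    rintro ⟨⟨g, hg, v, c, hv, rfl⟩, d⟩
    set e := f y v - d
    have hve : f (v + e • x) x = 0 := by
      rw [hf.bilinear.add_left, hv, hf.bilinear.smul_left, hf.alternating, mul_zero, add_zero]
    have hq : qel hf x (v + e • x) (c - 2 * e) = qel hf x v c := by rw [qel_shift hf hv]; congr 1; ring
    have hgH : qel hf x (v + e • x) (c - 2 * e) ∈ H := hq ▸ hg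
    let v' : kPar hf H x := ⟨v + e • x, hve, _, hgH⟩
    have hs : c - 2 * e - c₀ v' ∈ sPar hf H x := by
      rw [mem_sPar, ← qel_zero]
      have := H.mul_mem (H.inv_mem (hc₀ v')) hgH
      rw [qel_inv hf v'.2.1, qel_mul hf (by rw [f_neg_left hf, v'.2.1, neg_zero]) hve, neg_add_cancel,
        f_neg_right hf, hf.alternating, neg_zero, add_zero] at this
      exact (show c - 2 * e - c₀ v' = -c₀ v' + (c - 2 * e) by ring) ▸ this
    refine ⟨(v', ⟨_, hs⟩), Prod.ext (Subtype.ext ?_) ?_⟩
    · show qel hf x (v + e • x) (c₀ v' + (c - 2 * e - c₀ v')) = qel hf x v c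
      rw [add_sub_cancel, hq]
    · show f y (v + e • x) = d
      rw [hf.bilinear.add_right, hf.bilinear.smul_right, hyx]; ring
  rw [← Nat.card_prod, ← Nat.card_prod, Nat.card_congr (Equiv.ofBijective φ ⟨hinj, hsur⟩)]

theorem card_radQ {x : ι → F} (hx : x ≠ 0) : Nat.card (radQ hf x) = Nat.card (perp hf x) := by
  have h := card_inf_radQ hf hx (Isom f)
  rw [inf_eq_right.2 (radQ_le hf x)] at h
  have h1 : sPar hf (Isom f) x = ⊤ := eq_top_iff.2 fun c _ => stv_mem hf x c
  have h2 : (kPar hf (Isom f) x : Set (ι → F)) = perp hf x := Set.ext fun v =>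
    ⟨fun h => h.1, fun h => ⟨h, 0, qel_mem hf h 0⟩⟩
  rw [h1, AddSubgroup.card_top, show Nat.card (kPar hf (Isom f) x) = Nat.card (perp hf x) from
    Nat.card_congr (Equiv.setCongr h2)] at h
  exact Nat.eq_of_mul_eq_mul_right Nat.card_pos h

end Cfsg.Agent.SpMin
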