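/-
Duality, the double count at a point, and the comparison of orbits.
-/
import Cfsg.Agent.Lib.SpMinIndex.Setup
import Mathlib.LinearAlgebra.Dual.Lemmas
import Mathlib.FieldTheory.Finite.Basic

set_option autoImplicit false

namespace Cfsg.Agent.SpMin

open Matrix Cfsg.Agent.Transvec
open scoped LinearAlgebra.Projectivization

variable {ι : Type} [Fintype ι] [DecidableEq ι] {F : Type*} [Field F] [Finite F]

/-! ### A fixed non-zero functional to the prime field -/

/-- A non-zero additive map to the prime field. -/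
noncomputable def psi (F : Type*) [Field F] : F →+ ZMod (ringChar F) :=
  Classical.epsilon fun φ => φ ≠ 0

theorem psi_ne : psi F ≠ 0 := by
  haveI : Fact (ringChar F).Prime := ⟨CharP.char_is_prime F _⟩
  letI : Module (ZMod (ringChar F)) F := (ZMod.algebra F (ringChar F)).toModule
  refine Classical.epsilon_spec (p := fun φ : F →+ ZMod (ringChar F) => φ ≠ 0) ?_
  obtain ⟨φ, hφ⟩ := Submodule.exists_le_ker_of_lt_top (⊥ : Submodule (ZMod (ringChar F)) F) bot_lt_top
  exact ⟨φ.toAddMonoidHom, fun h => hφ.1 (LinearMap.ext fun a => DFunLike.congr_fun h a)⟩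

theorem exists_psi_ne : ∃ t : F, psi F t ≠ 0 := by
  by_contra h
  push Not at h
  exact psi_ne (F := F) (AddMonoidHom.ext h)

theorem eq_zero_of_psi {a : F} (h : ∀ t : F, psi F (t * a) = 0) : a = 0 := by
  by_contra ha
  obtain ⟨t, ht⟩ := exists_psi_ne (F := F)
  exact ht (by rw [← h (t / a), div_mul_cancel₀ _ ha])

variable {f : (ι → F) → (ι → F) → F} (hf : Geo.IsSymplecticForm f)
include hf

omit [Finite F] in
/-- The vectors whose pairing with all of K lies in the kernel of psi. -/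
noncomputable def dualOf (K : AddSubgroup (ι → F)) : AddSubgroup (ι → F) where
  carrier := {r | ∀ v ∈ K, psi F (f r v) = 0}
  zero_mem' v _ := by rw [f_zero_left hf, map_zero]
  add_mem' {a b} ha hb v hv := by rw [hf.bilinear.add_left, map_add, ha v hv, hb v hv, add_zero]
  neg_mem' {a} ha v hv := by rw [f_neg_left hf, map_neg, ha v hv, neg_zero]

theorem mem_dualOf {K : AddSubgroup (ι → F)} {r : ι → F} :
    r ∈ dualOf hf K ↔ ∀ v ∈ K, psi F (f r v) = 0 := Iff.rfl

theorem dual_main (K : AddSubgroup (ι → F)) :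
    Nat.card (dualOf hf K) * Nat.card K = Nat.card (ι → F) ∧
      ∀ φ : K →+ ZMod (ringChar F), ∃ r, ∀ v : K, psi F (f r v) = φ v := by
  haveI : Fact (ringChar F).Prime := ⟨CharP.char_is_prime F _⟩
  letI : Algebra (ZMod (ringChar F)) F := ZMod.algebra F (ringChar F)
  let Ks : Submodule (ZMod (ringChar F)) (ι → F) := AddSubgroup.toZModSubmodule _ K
  let B : (ι → F) →ₗ[ZMod (ringChar F)] Module.Dual (ZMod (ringChar F)) (ι → F) :=
    AddMonoidHom.toZModLinearMap (ringChar F)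
      (AddMonoidHom.mk' (fun r => AddMonoidHom.toZModLinearMap (ringChar F)
          (AddMonoidHom.mk' (fun v => psi F (f r v)) fun a b => by rw [hf.bilinear.add_right, map_add]))
        fun a b => LinearMap.ext fun v => by
          show psi F (f (a + b) v) = psi F (f a v) + psi F (f b v)
          rw [hf.bilinear.add_left, map_add])
  have hB : Function.Injective B := by
    rw [injective_iff_map_eq_zero]
    intro r hr
    by_contra hr0
    obtain ⟨v, hv⟩ := exists_pair hf hr0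
    obtain ⟨t, ht⟩ := exists_psi_ne (F := F)
    have := LinearMap.congr_fun hr (t • v)
    change psi F (f r (t • v)) = 0 at this
    rw [hf.bilinear.smul_right, hv, mul_one] at this
    exact ht this
  have hBs : Function.Surjective B :=
    (LinearMap.injective_iff_surjective_of_finrank_eq_finrank Subspace.dual_finrank_eq.symm).1 hB
  have hR : Function.Surjective (Ks.dualRestrict.comp B) :=
    (Subspace.dualRestrict_surjective).comp hBs
  refine ⟨?_, fun φ => ?_⟩
  · have h := AddSubgroup.card_eq_card_quotient_mul_card_addSubgroup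
      (LinearMap.ker (Ks.dualRestrict.comp B)).toAddSubgroup
    rw [show Nat.card ((ι → F) ⧸ (LinearMap.ker (Ks.dualRestrict.comp B)).toAddSubgroup) = Nat.card K from
      (Nat.card_congr (LinearMap.quotKerEquivOfSurjective _ hR).toEquiv).trans
        (by rw [Module.natCard_eq_pow_finrank (K := ZMod (ringChar F)), Subspace.dual_finrank_eq,
          ← Module.natCard_eq_pow_finrank (K := ZMod (ringChar F))]; rfl)] at h
    rw [h, mul_comm]
    congr 1
    refine Nat.card_congr (Equiv.setCongr (Set.ext fun r => ?_))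
    simp only [SetLike.mem_coe, Submodule.mem_toAddSubgroup, LinearMap.mem_ker, LinearMap.ext_iff]
    exact ⟨fun h v => h v.1 v.2, fun h v hv => h ⟨v, hv⟩⟩
  · obtain ⟨r, hr⟩ := hR (AddMonoidHom.toZModLinearMap (ringChar F)
      (AddMonoidHom.mk' (fun v : Ks => φ ⟨v.1, v.2⟩) fun a b => φ.map_add ⟨a.1, a.2⟩ ⟨b.1, b.2⟩))
    exact ⟨r, fun v => LinearMap.congr_fun hr ⟨v.1, v.2⟩⟩

/-- The square of the order of the field times this is the number of vectors. -/
noncomputable abbrev bigM (ι : Type) [Fintype ι] (F : Type*) : ℕ := Nat.card F ^ (Fintype.card ι - 2)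

theorem card_vec (h4 : 4 ≤ Fintype.card ι) : Nat.card (ι → F) = Nat.card F ^ 2 * bigM ι F := by
  rw [Nat.card_fun, Nat.card_eq_fintype_card (α := ι), bigM, ← pow_add]
  congr 1; omega

theorem card_lines (h4 : 4 ≤ Fintype.card ι) :
    Nat.card (ℙ F (ι → F)) * (Nat.card F - 1) + 1 = Nat.card F ^ 2 * bigM ι F := by
  rw [← card_vec hf h4, ← Projectivization.card' F (ι → F)]

theorem card_perp (h4 : 4 ≤ Fintype.card ι) {x : ι → F} (hx : x ≠ 0) :
    Nat.card (perp hf x) = Nat.card F * bigM ι F := by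
  have h := card_perp_mul hf hx
  rw [show Nat.card F ^ Fintype.card ι = Nat.card F * bigM ι F * Nat.card F by
    rw [bigM, ← pow_succ', ← pow_succ]; congr 1; omega] at h
  exact Nat.eq_of_mul_eq_mul_right Nat.card_pos h

theorem card_dual (h4 : 4 ≤ Fintype.card ι) (K : AddSubgroup (ι → F)) :
    Nat.card (dualOf hf K) * Nat.card K = Nat.card F ^ 2 * bigM ι F :=
  (dual_main hf K).1.trans (card_vec hf h4)

omit [Finite F] in
theorem orth_eq_dual (U : Submodule F (ι → F)) [Finite F] :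
    ((orth hf U : Submodule F (ι → F)) : Set (ι → F)) = dualOf hf U.toAddSubgroup := by
  ext r
  refine ⟨fun h v hv => by rw [(f_eq_zero_comm hf).1 (h v hv), map_zero], fun h u hu => ?_⟩
  refine (f_eq_zero_comm hf).1 (eq_zero_of_psi fun t => ?_)
  rw [← hf.bilinear.smul_right]
  exact h _ (U.smul_mem t hu)

theorem card_orth (h4 : 4 ≤ Fintype.card ι) (U : Submodule F (ι → F)) :
    Nat.card (orth hf U) * Nat.card U = Nat.card F ^ 2 * bigM ι F := by
  rw [← card_dual hf h4 U.toAddSubgroup]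
  congr 1
  exact Nat.card_congr (Equiv.setCongr (orth_eq_dual hf U))

theorem bigM_ge (h4 : 4 ≤ Fintype.card ι) : Nat.card F ^ 2 ≤ bigM ι F :=
  Nat.pow_le_pow_right Nat.card_pos (by omega)

/-! ### Conjugates -/

/-- The conjugate subgroup. -/
def cjg (g : GL ι F) (H : Subgroup (GL ι F)) : Subgroup (GL ι F) := H.comap (MulAut.conj g⁻¹).toMonoidHom

theorem mem_cjg {g a : GL ι F} {H : Subgroup (GL ι F)} : a ∈ cjg g H ↔ g⁻¹ * a * g ∈ H := by
  simp [cjg]

theorem cjg_mul (g k : GL ι F) (H : Subgroup (GL ι F)) : cjg (g * k) H = cjg g (cjg k H) := by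
  ext a
  simp only [mem_cjg hf, _root_.mul_inv_rev, mul_assoc]

theorem cjg_self {g : GL ι F} {H : Subgroup (GL ι F)} (hg : g ∈ H) : cjg g H = H := by
  ext a
  rw [mem_cjg hf, H.mul_mem_cancel_right hg, H.mul_mem_cancel_left (H.inv_mem hg)]

theorem cjg_one (H : Subgroup (GL ι F)) : cjg (1 : GL ι F) H = H := cjg_self hf H.one_mem

theorem kPar_cjg {x : ι → F} {g : GL ι F} (hg : g ∈ Isom f) {t : F} (ht : t ≠ 0) (hgx : mv g x = t • x)
    {H : Subgroup (GL ι F)} {v : ι → F} (hv : v ∈ kPar hf H x) : t • mv g v ∈ kPar hf (cjg g H) x := by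
  obtain ⟨hvx, c, hc⟩ := hv
  have h0 : f (mv g v) x = 0 := by
    have h : f (mv g v) (mv g x) = 0 := (hg v x).trans hvx
    rw [hgx, hf.bilinear.smul_right] at h
    exact (mul_eq_zero.1 h).resolve_left ht
  refine ⟨by rw [hf.bilinear.smul_left, h0, mul_zero], t ^ 2 * c, ?_⟩
  rw [mem_cjg hf, ← qel_scale hf h0, ← hgx, ← qel_conj hf hg hvx]
  simpa [mul_assoc] using hc

theorem sPar_cjg {x : ι → F} {g : GL ι F} (hg : g ∈ Isom f) {t : F} (hgx : mv g x = t • x)
    {H : Subgroup (GL ι F)} {c : F} (hc : c ∈ sPar hf H x) : t * t * c ∈ sPar hf (cjg g H) x := by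
  rw [mem_sPar, mem_cjg hf, ← stv_smul, ← hgx,
    show stv hf (mv g x) c = g * stv hf x c * g⁻¹ by
      rw [stv_conj hf one_ne_zero (fun a b => by rw [one_mul]; exact hg a b), div_one]]
  simpa [mul_assoc] using (mem_sPar hf).1 hc

theorem inv_pStab {x : ι → F} {g : GL ι F} {t : F} (ht : t ≠ 0) (hgx : mv g x = t • x) :
    mv g⁻¹ x = t⁻¹ • x := by
  have := congrArg (mv g⁻¹) hgx
  rw [mv_inv_mv, mv_smul] at this
  conv_rhs => rw [this, smul_smul, inv_mul_cancel₀ ht, one_smul]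

theorem qel_conj_qel {x u v : ι → F} (hu : f u x = 0) (hv : f v x = 0) (d c : F) :
    qel hf x u d * qel hf x v c * (qel hf x u d)⁻¹ = qel hf x v (c + 2 * f v u) := by
  rw [qel_inv hf hu, qel_mul hf hu hv, qel_mul hf (f_add_line hf hu hv) (by rw [f_neg_left hf, hu, neg_zero])]
  congr 1
  · abel
  · rw [f_neg_left hf, hf.bilinear.add_right, hf.alternating, hf.skew u v]
    ring

theorem kPar_radQ {x : ι → F} {u : GL ι F} (hu : u ∈ radQ hf x) (H : Subgroup (GL ι F)) :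
    kPar hf (cjg u H) x = kPar hf H x := by
  have key : ∀ (u : GL ι F), u ∈ radQ hf x → ∀ H : Subgroup (GL ι F), kPar hf H x ≤ kPar hf (cjg u H) x := by
    rintro _ ⟨w, d, hw, rfl⟩ H v ⟨hv, c, hc⟩
    refine ⟨hv, c + 2 * f v w, ?_⟩
    rw [mem_cjg hf, ← qel_conj_qel hf hw hv d]
    simpa [mul_assoc] using hc
  refine le_antisymm ?_ (key u hu H)
  have := key u⁻¹ (inv_mem hu) (cjg u H)
  rwa [← cjg_mul hf, inv_mul_cancel, cjg_one hf] at this

/-- The dual of the radical part at x. -/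
noncomputable def aSet (H : Subgroup (GL ι F)) (x : ι → F) : AddSubgroup (ι → F) := dualOf hf (kPar hf H x)

theorem aSet_cjg {x : ι → F} {g : GL ι F} (hg : g ∈ Isom f) {t : F} (ht : t ≠ 0) (hgx : mv g x = t • x)
    {H : Subgroup (GL ι F)} {r : ι → F} (hr : r ∈ aSet hf H x) : t⁻¹ • mv g r ∈ aSet hf (cjg g H) x := by
  intro v hv
  have hw := kPar_cjg hf (inv_mem hg) (inv_ne_zero ht) (inv_pStab hf ht hgx) hv
  rw [← cjg_mul hf, inv_mul_cancel, cjg_one hf] at hw
  have := hr _ hw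
  have hsplit : f r (t⁻¹ • mv g⁻¹ v) = f (t⁻¹ • mv g r) v := by
    rw [hf.bilinear.smul_right, hf.bilinear.smul_left]
    congr 1
    rw [← hg r (mv g⁻¹ v)]
    show f (mv g r) (mv g (mv g⁻¹ v)) = _
    rw [mv_mv_inv]
  rwa [hsplit] at this

theorem smul_self_mem_aSet (H : Subgroup (GL ι F)) (x : ι → F) (e : F) : e • x ∈ aSet hf H x := fun v hv => by
  rw [hf.bilinear.smul_left, (f_eq_zero_comm hf).1 hv.1, mul_zero, map_zero]

theorem aSet_le_perp {H : Subgroup (GL ι F)} {x r : ι → F} (hr : r ∈ aSet hf H x) : f r x = 0 :=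
  eq_zero_of_psi fun t => by rw [← hf.bilinear.smul_right]; exact hr _ (smul_self_mem_kPar hf H x t)

/-! ### The subgroup generated by H and the radical inside the point stabiliser -/

theorem conj_inv_mem_radQ {x : ι → F} (hx : x ≠ 0) {g u : GL ι F} (hg : g ∈ pStab f x) (hu : u ∈ radQ hf x) :
    g⁻¹ * u * g ∈ radQ hf x := by
  simpa using conj_mem_radQ hf hx (inv_mem hg) hu

/-- (H ∩ P) Q. -/
def rq {x : ι → F} (hx : x ≠ 0) (H : Subgroup (GL ι F)) : Subgroup (GL ι F) where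
  carrier := {g | ∃ h ∈ H ⊓ pStab f x, ∃ u ∈ radQ hf x, g = h * u}
  one_mem' := ⟨1, one_mem _, 1, one_mem _, (one_mul 1).symm⟩
  mul_mem' := by
    rintro _ _ ⟨h, hh, u, hu, rfl⟩ ⟨h', hh', u', hu', rfl⟩
    exact ⟨h * h', mul_mem hh hh', h'⁻¹ * u * h' * u', mul_mem (conj_inv_mem_radQ hf hx hh'.2 hu) hu', by group⟩
  inv_mem' := by
    rintro _ ⟨h, hh, u, hu, rfl⟩
    exact ⟨h⁻¹, inv_mem hh, h * u⁻¹ * h⁻¹, conj_mem_radQ hf hx hh.2 (inv_mem hu), by group⟩

theorem rq_le {x : ι → F} (hx : x ≠ 0) (H : Subgroup (GL ι F)) : rq hf hx H ≤ pStab f x := by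
  rintro _ ⟨h, hh, u, hu, rfl⟩
  exact mul_mem hh.2 (radQ_le_pStab hf hx hu)

theorem kPar_rq {x : ι → F} (hx : x ≠ 0) {H : Subgroup (GL ι F)} {k : GL ι F} (hk : k ∈ rq hf hx H) :
    kPar hf (cjg k H) x = kPar hf H x := by
  obtain ⟨h, hh, u, hu, rfl⟩ := hk
  rw [show h * u = h * u * h⁻¹ * h by group, cjg_mul hf, cjg_self hf hh.1,
    kPar_radQ hf (conj_mem_radQ hf hx hh.2 hu)]

theorem aSet_cjg_mul {x : ι → F} (hx : x ≠ 0) {H : Subgroup (GL ι F)} {g k : GL ι F} (hg : g ∈ pStab f x)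
    (hk : k ∈ rq hf hx H) : aSet hf (cjg (g * k) H) x = aSet hf (cjg g H) x := by
  obtain ⟨hgi, t, ht, hgx⟩ := (mem_pStab hf hx).1 hg
  suffices kPar hf (cjg (g * k) H) x = kPar hf (cjg g H) x by rw [aSet, this, aSet]
  have key : ∀ H₁ H₂ : Subgroup (GL ι F), kPar hf H₁ x ≤ kPar hf H₂ x →
      kPar hf (cjg g H₁) x ≤ kPar hf (cjg g H₂) x := by
    intro H₁ H₂ h12 v hv
    have h1 := kPar_cjg hf (inv_mem hgi) (inv_ne_zero ht) (inv_pStab hf ht hgx) hv
    rw [← cjg_mul hf, inv_mul_cancel, cjg_one hf] at h1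
    have h2 := kPar_cjg hf hgi ht hgx (h12 h1)
    rwa [mv_smul, mv_mv_inv, smul_smul, mul_inv_cancel₀ ht, one_smul] at h2
  rw [cjg_mul hf]
  exact le_antisymm (key _ _ (kPar_rq hf hx hk).le) (key _ _ (kPar_rq hf hx hk).ge)

/-- The index of (H ∩ P) Q in P. -/
noncomputable def aIdx {x : ι → F} (hx : x ≠ 0) (H : Subgroup (GL ι F)) : ℕ :=
  (rq hf hx H).relIndex (pStab f x)

/-- The index of the radical part. -/
noncomputable def sIdx (H : Subgroup (GL ι F)) (x : ι → F) : ℕ :=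
  (kPar hf H x).relIndex (perp hf x).toAddSubgroup

/-- The index of the centre part. -/
noncomputable def zIdx (H : Subgroup (GL ι F)) (x : ι → F) : ℕ := (sPar hf H x).index

theorem kPar_le (H : Subgroup (GL ι F)) (x : ι → F) : kPar hf H x ≤ (perp hf x).toAddSubgroup := fun _ h => h.1

theorem card_kPar_mul (h4 : 4 ≤ Fintype.card ι) {x : ι → F} (hx : x ≠ 0) (H : Subgroup (GL ι F)) :
    Nat.card (kPar hf H x) * sIdx hf H x = Nat.card F * bigM ι F := by
  rw [← card_perp hf h4 hx, sIdx, AddSubgroup.relIndex,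
    ← Nat.card_congr (AddSubgroup.addSubgroupOfEquivOfLe (kPar_le hf H x)).toEquiv]
  exact AddSubgroup.card_mul_index _

theorem card_sPar_mul (H : Subgroup (GL ι F)) (x : ι → F) :
    Nat.card (sPar hf H x) * zIdx hf H x = Nat.card F := AddSubgroup.card_mul_index _

theorem sIdx_pos (h4 : 4 ≤ Fintype.card ι) {x : ι → F} (hx : x ≠ 0) (H : Subgroup (GL ι F)) :
    0 < sIdx hf H x := by
  rcases Nat.eq_zero_or_pos (sIdx hf H x) with h | h
  · have := card_kPar_mul hf h4 hx H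
    rw [h, mul_zero] at this
    exact absurd this.symm (Nat.mul_pos Nat.card_pos (pow_pos Nat.card_pos _)).ne'
  · exact h

theorem zIdx_pos (H : Subgroup (GL ι F)) (x : ι → F) : 0 < zIdx hf H x :=
  Nat.pos_of_ne_zero AddSubgroup.index_ne_zero_of_finite

theorem aIdx_pos {x : ι → F} (hx : x ≠ 0) (H : Subgroup (GL ι F)) : 0 < aIdx hf hx H :=
  Nat.pos_of_ne_zero Subgroup.index_ne_zero_of_finite

theorem card_aSet (h4 : 4 ≤ Fintype.card ι) {x : ι → F} (hx : x ≠ 0) (H : Subgroup (GL ι F)) :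
    Nat.card (aSet hf H x) = Nat.card F * sIdx hf H x := by
  refine Nat.eq_of_mul_eq_mul_right (Nat.card_pos (α := kPar hf H x)) ?_
  rw [aSet, card_dual hf h4, mul_assoc, mul_comm (sIdx hf H x), card_kPar_mul hf h4 hx]
  ring

/-- The index of H at the point. -/
theorem omega_eq (h4 : 4 ≤ Fintype.card ι) {x : ι → F} (hx : x ≠ 0) (H : Subgroup (GL ι F)) :
    H.relIndex (pStab f x) = aIdx hf hx H * (zIdx hf H x * sIdx hf H x) := by
  rw [← Subgroup.inf_relIndex_right, ← Subgroup.relIndex_mul_relIndex (H ⊓ pStab f x) (rq hf hx H) (pStab f x)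
    (fun h hh => ⟨h, hh, 1, one_mem _, (mul_one h).symm⟩) (rq_le hf hx H), mul_comm, aIdx]
  congr 1
  have h1 : (H ⊓ pStab f x).relIndex (rq hf hx H) = (H ⊓ radQ hf x).relIndex (radQ hf x) := by
    have e1 := card_range_eq_index ((H ⊓ pStab f x).subgroupOf (rq hf hx H))
      (fun g : rq hf hx H => ((g : GL ι F) : GL ι F ⧸ (H ⊓ pStab f x)))
      (fun a b => by rw [QuotientGroup.eq]; rfl)
    have e2 := card_range_eq_index ((H ⊓ pStab f x).subgroupOf (radQ hf x))
      (fun g : radQ hf x => ((g : GL ι F) : GL ι F ⧸ (H ⊓ pStab f x)))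
      (fun a b => by rw [QuotientGroup.eq]; rfl)
    rw [Subgroup.relIndex, ← e1, Subgroup.relIndex]
    have e3 : (H ⊓ radQ hf x).subgroupOf (radQ hf x) = (H ⊓ pStab f x).subgroupOf (radQ hf x) := by
      ext u
      simp only [Subgroup.mem_subgroupOf, Subgroup.mem_inf]
      exact ⟨fun h => ⟨h.1, radQ_le_pStab hf hx h.2⟩, fun h => ⟨h.1, u.2⟩⟩
    rw [e3, ← e2]
    refine Nat.card_congr (Equiv.setCongr (Set.ext fun c => ⟨?_, ?_⟩))
    · rintro ⟨⟨_, h, hh, u, hu, rfl⟩, rfl⟩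
      refine ⟨⟨h * u * h⁻¹, conj_mem_radQ hf hx hh.2 hu⟩, QuotientGroup.eq.2 ?_⟩
      simpa [mul_assoc] using hh
    · rintro ⟨⟨u, hu⟩, rfl⟩
      exact ⟨⟨u, 1, one_mem _, u, hu, (one_mul u).symm⟩, rfl⟩
  rw [h1]
  refine Nat.eq_of_mul_eq_mul_right (Nat.card_pos (α := (H ⊓ radQ hf x : Subgroup (GL ι F)))) ?_
  have e4 : (H ⊓ radQ hf x).relIndex (radQ hf x) * Nat.card (H ⊓ radQ hf x : Subgroup (GL ι F)) =
      Nat.card (radQ hf x) := by
    rw [Subgroup.relIndex, mul_comm, ← Nat.card_congr (Subgroup.subgroupOfEquivOfLe inf_le_right).toEquiv]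
    exact Subgroup.card_mul_index _
  rw [e4, card_radQ hf hx]
  refine Nat.eq_of_mul_eq_mul_right (Nat.card_pos (α := F)) ?_
  rw [mul_assoc, card_inf_radQ hf hx, card_perp hf h4 hx]
  calc Nat.card F * bigM ι F * Nat.card F
      = (Nat.card (kPar hf H x) * sIdx hf H x) * (Nat.card (sPar hf H x) * zIdx hf H x) := by
        rw [card_kPar_mul hf h4 hx, card_sPar_mul]
    _ = _ := by ring

/-! ### Transitivity of the point stabiliser -/

theorem mem_line_of_perp {x u : ι → F} (hx : x ≠ 0) (h : ∀ z, f z x = 0 → f u z = 0) :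
    u ∈ Submodule.span F {x} := by
  obtain ⟨y, hy⟩ := exists_pair hf hx
  refine Submodule.mem_span_singleton.2 ⟨f u y, ?_⟩
  by_contra hne
  obtain ⟨z, hz⟩ := exists_pair hf (sub_ne_zero.2 (Ne.symm hne))
  have hz' : f (z + f z x • y) x = 0 := by
    rw [hf.bilinear.add_left, hf.bilinear.smul_left, hf.skew y x, hy]
    ring
  have h1 := h _ hz'
  rw [hf.bilinear.add_right, hf.bilinear.smul_right] at h1
  rw [f_sub_left hf, hf.bilinear.smul_left, hf.skew x z] at hz
  exact zero_ne_one (show (0 : F) = 1 by rw [← hz, ← h1]; ring)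

theorem exists_avoid₂ {W U₁ U₂ : Submodule F (ι → F)} (h1 : ¬ W ≤ U₁) (h2 : ¬ W ≤ U₂) :
    ∃ w ∈ W, w ∉ U₁ ∧ w ∉ U₂ := by
  obtain ⟨a, ha, ha1⟩ := SetLike.not_le_iff_exists.1 h1
  obtain ⟨b, hb, hb2⟩ := SetLike.not_le_iff_exists.1 h2
  by_cases ha2 : a ∈ U₂
  · by_cases hb1 : b ∈ U₁
    · exact ⟨a + b, W.add_mem ha hb, fun h => ha1 ((U₁.add_mem_iff_left hb1).1 h),
        fun h => hb2 ((U₂.add_mem_iff_right ha2).1 h)⟩
    · exact ⟨b, hb, hb1, hb2⟩
  · exact ⟨a, ha, ha1, ha2⟩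

theorem exists_common {x u w : ι → F} (hx : x ≠ 0) (hu : u ∉ Submodule.span F {x})
    (hw : w ∉ Submodule.span F {x}) : ∃ z ∈ perp hf x, f u z ≠ 0 ∧ f w z ≠ 0 := by
  obtain ⟨z, hz, h1, h2⟩ := exists_avoid₂ hf (W := perp hf x) (U₁ := perp hf u) (U₂ := perp hf w)
    (fun h => hu (mem_line_of_perp hf hx fun z hz => (f_eq_zero_comm hf).1 (h hz)))
    (fun h => hw (mem_line_of_perp hf hx fun z hz => (f_eq_zero_comm hf).1 (h hz)))
  exact ⟨z, hz, fun h => h1 ((f_eq_zero_comm hf).1 h), fun h => h2 ((f_eq_zero_comm hf).1 h)⟩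

theorem exists_fix_move {x u w : ι → F} (hx : x ≠ 0) (hu : f u x = 0) (hu' : u ∉ Submodule.span F {x})
    (hw : f w x = 0) (hw' : w ∉ Submodule.span F {x}) :
    ∃ g ∈ Isom f, mv g x = x ∧ mv g u = w := by
  obtain ⟨g, hg, hgu, hfix⟩ := exists_move hf (K := Isom f) (X := perp hf x) (fun v _ c => stv_mem hf v c)
    hu hw (Or.inr (exists_common hf hx hu' hw'))
  exact ⟨g, hg, hfix x fun z hz => (f_eq_zero_comm hf).1 hz, hgu⟩

/-! ### The double count -/

/-- The cosets whose conjugate has r in its dual. -/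
def bSet {x : ι → F} (hx : x ≠ 0) (H : Subgroup (GL ι F)) (r : ι → F) :
    Set (pStab f x ⧸ (rq hf hx H).subgroupOf (pStab f x)) :=
  {c | r ∈ aSet hf (cjg ((Quotient.out c : pStab f x) : GL ι F) H) x}

theorem mk_mem_bSet {x : ι → F} (hx : x ≠ 0) {H : Subgroup (GL ι F)} {r : ι → F} (g : pStab f x) :
    (g : pStab f x ⧸ (rq hf hx H).subgroupOf (pStab f x)) ∈ bSet hf hx H r ↔
      r ∈ aSet hf (cjg (g : GL ι F) H) x := by
  obtain ⟨k, hk⟩ := QuotientGroup.mk_out_eq_mul ((rq hf hx H).subgroupOf (pStab f x)) g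
  rw [bSet, Set.mem_setOf_eq, hk, Subgroup.coe_mul,
    aSet_cjg_mul hf hx g.2 (k := ((k : pStab f x) : GL ι F)) (Subgroup.mem_subgroupOf.1 k.2)]

theorem bSet_move {x : ι → F} (hx : x ≠ 0) {H : Subgroup (GL ι F)} {r : ι → F} (σ : pStab f x) {t : F}
    (ht : t ≠ 0) (hσ : mv (σ : GL ι F) x = t • x) {c : pStab f x ⧸ (rq hf hx H).subgroupOf (pStab f x)}
    (hc : c ∈ bSet hf hx H r) : σ • c ∈ bSet hf hx H (t⁻¹ • mv (σ : GL ι F) r) := by
  induction c using QuotientGroup.induction_on with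
  | H g =>
    rw [MulAction.Quotient.smul_coe, smul_eq_mul, mk_mem_bSet hf hx, Subgroup.coe_mul, cjg_mul hf]
    exact aSet_cjg hf σ.2.1 ht hσ ((mk_mem_bSet hf hx g).1 hc)

theorem bSet_card_le {x : ι → F} (hx : x ≠ 0) (H : Subgroup (GL ι F)) {r r' : ι → F}
    (hr : f r x = 0) (hr' : r ∉ Submodule.span F {x})
    (hs : f r' x = 0) (hs' : r' ∉ Submodule.span F {x}) :
    Nat.card (bSet hf hx H r) ≤ Nat.card (bSet hf hx H r') := by
  obtain ⟨g, hg, hgx, hgr⟩ := exists_fix_move hf hx hr hr' hs hs'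
  let σ : pStab f x := ⟨g, (mem_pStab hf hx).2 ⟨hg, 1, one_ne_zero, by rw [hgx, one_smul]⟩⟩
  refine Nat.card_le_card_of_injective (fun c => (⟨σ • c.1, ?_⟩ : bSet hf hx H r')) ?_
  · have := bSet_move hf hx σ one_ne_zero (show mv g x = (1 : F) • x by rw [hgx, one_smul]) c.2
    rwa [inv_one, one_smul, show mv (σ : GL ι F) r = r' from hgr] at this
  · intro c d h
    exact Subtype.ext (MulAction.injective σ (congrArg Subtype.val h))

omit [DecidableEq ι] in
theorem card_span_singleton {x : ι → F} (hx : x ≠ 0) :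
    Nat.card (Submodule.span F {x}) = Nat.card F :=
  (Nat.card_congr (LinearEquiv.toSpanNonzeroSingleton F _ x hx).toEquiv).symm

theorem count_eq (h4 : 4 ≤ Fintype.card ι) {x : ι → F} (hx : x ≠ 0) (H : Subgroup (GL ι F))
    {r : ι → F} (hr : f r x = 0) (hr' : r ∉ Submodule.span F {x}) :
    aIdx hf hx H * (sIdx hf H x - 1) = (bigM ι F - 1) * Nat.card (bSet hf hx H r) := by
  classical
  let X : Set (ι → F) := {v | f v x = 0 ∧ v ∉ Submodule.span F {x}}
  let Cst := pStab f x ⧸ (rq hf hx H).subgroupOf (pStab f x)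
  haveI : Fintype X := Fintype.ofFinite _
  haveI : Fintype Cst := Fintype.ofFinite _
  have e : (Σ c : Cst, {v : X // c ∈ bSet hf hx H v.1}) ≃ (Σ v : X, bSet hf hx H v.1) :=
    { toFun := fun p => ⟨p.2.1, p.1, p.2.2⟩
      invFun := fun p => ⟨p.2.1, p.1, p.2.2⟩
      left_inv := fun _ => rfl
      right_inv := fun _ => rfl }
  have h := Nat.card_congr e
  rw [Nat.card_sigma, Nat.card_sigma] at h
  have hcard : ∀ (S : Set (ι → F)), (∀ e : F, e • x ∈ S) →
      Nat.card {v : ι → F // v ∈ S ∧ v ∉ Submodule.span F {x}} = Nat.card S - Nat.card F := by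
    intro S hS
    have hsub : (Submodule.span F {x} : Set (ι → F)) ⊆ S := fun v hv => by
      obtain ⟨a, rfl⟩ := Submodule.mem_span_singleton.1 hv
      exact hS a
    have := Set.ncard_sdiff hsub (Set.toFinite _)
    rw [← Nat.card_coe_set_eq, ← Nat.card_coe_set_eq, ← Nat.card_coe_set_eq] at this
    rw [show Nat.card (Submodule.span F {x} : Set (ι → F)) = Nat.card F from card_span_singleton hf hx] at this
    exact (Nat.card_congr (Equiv.setCongr (Set.ext fun v => Iff.rfl))).trans this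
  have hA : ∀ c : Cst, Nat.card {v : X // c ∈ bSet hf hx H v.1} = Nat.card F * (sIdx hf H x - 1) := by
    intro c
    obtain ⟨g, rfl⟩ := QuotientGroup.mk_surjective c
    have e' : {v : X // (g : Cst) ∈ bSet hf hx H v.1} ≃
        {v : ι → F // v ∈ (aSet hf (cjg (g : GL ι F) H) x : Set (ι → F)) ∧ v ∉ Submodule.span F {x}} :=
      { toFun := fun v => ⟨v.1.1, (mk_mem_bSet hf hx g).1 v.2, v.1.2.2⟩
        invFun := fun v => ⟨⟨v.1, aSet_le_perp hf v.2.1, v.2.2⟩, (mk_mem_bSet hf hx g).2 v.2.1⟩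
        left_inv := fun _ => rfl
        right_inv := fun _ => rfl }
    rw [Nat.card_congr e', hcard _ (smul_self_mem_aSet hf _ x)]
    rw [show Nat.card (aSet hf (cjg (g : GL ι F) H) x : Set (ι → F)) = Nat.card (aSet hf H x) from ?_,
      card_aSet hf h4 hx, Nat.mul_sub, mul_one]
    obtain ⟨hgi, t, ht, hgx⟩ := (mem_pStab hf hx).1 g.2
    refine le_antisymm (Nat.card_le_card_of_injective (fun v => (⟨t • mv (g : GL ι F)⁻¹ v.1, ?_⟩ :
      aSet hf H x)) ?_) (Nat.card_le_card_of_injective (fun v => (⟨t⁻¹ • mv (g : GL ι F) v.1,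
      aSet_cjg hf hgi ht hgx v.2⟩ : (aSet hf (cjg (g : GL ι F) H) x : Set (ι → F)))) ?_)
    · have := aSet_cjg hf (inv_mem hgi) (inv_ne_zero ht) (inv_pStab hf ht hgx) v.2
      rwa [← cjg_mul hf, inv_mul_cancel, cjg_one hf, inv_inv] at this
    · intro v w h
      exact Subtype.ext (mv_inj _ (smul_right_injective _ ht (congrArg Subtype.val h)))
    · intro v w h
      exact Subtype.ext (mv_inj _ (smul_right_injective _ (inv_ne_zero ht) (congrArg Subtype.val h)))
  have hb : ∀ v : X, Nat.card (bSet hf hx H v.1) = Nat.card (bSet hf hx H r) := fun v =>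
    le_antisymm (bSet_card_le hf hx H v.2.1 v.2.2 hr hr') (bSet_card_le hf hx H hr hr' v.2.1 v.2.2)
  rw [Finset.sum_congr rfl fun c _ => hA c, Finset.sum_congr rfl fun v _ => hb v, Finset.sum_const,
    Finset.sum_const, smul_eq_mul, smul_eq_mul, Finset.card_univ, Finset.card_univ,
    ← Nat.card_eq_fintype_card, ← Nat.card_eq_fintype_card] at h
  have hX : Nat.card X = Nat.card F * bigM ι F - Nat.card F := by
    rw [← card_perp hf h4 hx]
    exact hcard (perp hf x) fun e => (perp hf x).smul_mem e (self_mem_perp hf x)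
  rw [hX, show Nat.card Cst = aIdx hf hx H from rfl] at h
  refine Nat.eq_of_mul_eq_mul_left (Nat.card_pos (α := F)) ?_
  rw [← mul_left_comm, h, ← mul_assoc, Nat.mul_sub, mul_one]

theorem one_lt_bigM (h4 : 4 ≤ Fintype.card ι) : 1 < bigM ι F :=
  Nat.one_lt_pow (by omega) Finite.one_lt_card

theorem exists_indep_perp (h4 : 4 ≤ Fintype.card ι) {x : ι → F} (hx : x ≠ 0) :
    ∃ r, f r x = 0 ∧ r ∉ Submodule.span F {x} := by
  by_contra h
  push Not at h
  have := Nat.card_mono (Set.toFinite _) (show (perp hf x : Set (ι → F)) ⊆ Submodule.span F {x} from h)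
  rw [show Nat.card (perp hf x : Set (ι → F)) = _ from card_perp hf h4 hx,
    show Nat.card (Submodule.span F {x} : Set (ι → F)) = _ from card_span_singleton hf hx] at this
  have h1 := one_lt_bigM hf h4 (F := F)
  have := Nat.le_of_mul_le_mul_left (this.trans (mul_one _).ge) Nat.card_pos
  omega

/-- A point whose radical part is proper has large index. -/
theorem bigM_le_of_sIdx (h4 : 4 ≤ Fintype.card ι) {x : ι → F} (hx : x ≠ 0) (H : Subgroup (GL ι F))
    (hs : 2 ≤ sIdx hf H x) : bigM ι F - 1 + aIdx hf hx H ≤ aIdx hf hx H * sIdx hf H x := by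
  obtain ⟨r, hr, hr'⟩ := exists_indep_perp hf h4 hx
  have h := count_eq hf h4 hx H hr hr'
  have hb : 0 < Nat.card (bSet hf hx H r) := by
    rcases Nat.eq_zero_or_pos (Nat.card (bSet hf hx H r)) with h0 | h0
    · rw [h0, mul_zero] at h
      rcases Nat.mul_eq_zero.1 h with h1 | h1
      · exact absurd h1 (aIdx_pos hf hx H).ne'
      · omega
    · exact h0
  have h2 : bigM ι F - 1 ≤ aIdx hf hx H * (sIdx hf H x - 1) := h ▸ Nat.le_mul_of_pos_right _ hb
  rw [Nat.mul_sub, mul_one] at h2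
  have := one_lt_bigM hf h4 (F := F)
  omega

theorem zM_le_omega (h4 : 4 ≤ Fintype.card ι) {x : ι → F} (hx : x ≠ 0) (H : Subgroup (GL ι F))
    (hs : 2 ≤ sIdx hf H x) : zIdx hf H x * bigM ι F ≤ H.relIndex (pStab f x) := by
  have h := bigM_le_of_sIdx hf h4 hx H hs
  have := aIdx_pos hf hx H
  rw [omega_eq hf h4 hx, mul_left_comm]
  exact Nat.mul_le_mul_left _ (by omega)

/-! ### Orbits -/

theorem omega_mul {x : ι → F} (hx : x ≠ 0) {H : Subgroup (GL ι F)} (hH : H ≤ Isom f) :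
    H.relIndex (pStab f x) * Nat.card (ℙ F (ι → F)) = Nat.card (lineOrbit hx H) * H.relIndex (Isom f) := by
  rw [← relIndex_identity hf hx hH, lineOrbit_isom hf hx, Nat.card_congr (Equiv.Set.univ _)]

theorem omega_lt {x : ι → F} (hx : x ≠ 0) {H : Subgroup (GL ι F)} (hH : H ≤ Isom f)
    (hi : H.relIndex (Isom f) < Nat.card (ℙ F (ι → F))) :
    H.relIndex (pStab f x) < Nat.card (lineOrbit hx H) := by
  refine Nat.lt_of_mul_lt_mul_right (a := Nat.card (ℙ F (ι → F))) ?_
  rw [omega_mul hf hx hH]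
  haveI : Nonempty (lineOrbit hx H) := ⟨⟨_, ⟨1, rfl⟩⟩⟩
  exact Nat.mul_lt_mul_of_pos_left hi Nat.card_pos

theorem omega_le {x : ι → F} (hx : x ≠ 0) {H : Subgroup (GL ι F)} (hH : H ≤ Isom f) :
    H.relIndex (pStab f x) ≤ H.relIndex (Isom f) := by
  haveI : Nonempty (ℙ F (ι → F)) := ⟨Projectivization.mk F x hx⟩
  refine Nat.le_of_mul_le_mul_right (a := H.relIndex (pStab f x)) (c := Nat.card (ℙ F (ι → F))) ?_ Nat.card_pos
  rw [omega_mul hf hx hH, mul_comm]
  exact Nat.mul_le_mul_left _ (Finite.card_subtype_le _)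

theorem same_orbit {x y : ι → F} (hx : x ≠ 0) (hy : y ≠ 0) {H : Subgroup (GL ι F)} {p : ℙ F (ι → F)}
    (h1 : p ∈ lineOrbit hx H) (h2 : p ∈ lineOrbit hy H) : ∃ h ∈ H, ∃ t : F, t ≠ 0 ∧ mv h x = t • y := by
  obtain ⟨a, ha⟩ := h1
  obtain ⟨b, hb⟩ := h2
  have := ha.trans hb.symm
  simp only [linePt, Projectivization.mk_eq_mk_iff'] at this
  obtain ⟨t, ht⟩ := this
  have ht0 : t ≠ 0 := fun h => hx (mv_inj _ (by rw [← ht, h, zero_smul, mv_zero]))
  refine ⟨(b : GL ι F)⁻¹ * a, H.mul_mem (H.inv_mem b.2) a.2, t, ht0, ?_⟩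
  rw [mv_mul, ← ht, mv_smul, mv_inv_mv]

theorem orbit_add {x y : ι → F} (hx : x ≠ 0) (hy : y ≠ 0) {H : Subgroup (GL ι F)}
    (hne : ¬ ∃ h ∈ H, ∃ t : F, t ≠ 0 ∧ mv h x = t • y) :
    Nat.card (lineOrbit hx H) + Nat.card (lineOrbit hy H) ≤ Nat.card (ℙ F (ι → F)) := by
  rw [Nat.card_coe_set_eq, Nat.card_coe_set_eq, ← Set.ncard_union_eq (Set.disjoint_left.2 fun p h1 h2 =>
    hne (same_orbit hf hx hy h1 h2)) (Set.toFinite _) (Set.toFinite _)]
  exact Set.ncard_le_card _

theorem omega_add {x y : ι → F} (hx : x ≠ 0) (hy : y ≠ 0) {H : Subgroup (GL ι F)} (hH : H ≤ Isom f)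
    (hne : ¬ ∃ h ∈ H, ∃ t : F, t ≠ 0 ∧ mv h x = t • y) :
    H.relIndex (pStab f x) + H.relIndex (pStab f y) ≤ H.relIndex (Isom f) := by
  haveI : Nonempty (ℙ F (ι → F)) := ⟨Projectivization.mk F x hx⟩
  refine Nat.le_of_mul_le_mul_right (c := Nat.card (ℙ F (ι → F))) ?_ Nat.card_pos
  rw [add_mul, omega_mul hf hx hH, omega_mul hf hy hH, ← add_mul, mul_comm (H.relIndex (Isom f))]
  exact Nat.mul_le_mul_right _ (orbit_add hf hx hy hne)

theorem lines_bound {P : Set (ℙ F (ι → F))} {T : Set (ι → F)} (h0 : (0 : ι → F) ∈ T)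
    (hP : ∀ p ∈ P, ∀ t : F, t • p.rep ∈ T) : Nat.card P * (Nat.card F - 1) + 1 ≤ Nat.card T := by
  classical
  have hinj : Function.Injective fun z : P × Fˣ => (z.2 : F) • z.1.1.rep := by
    rintro ⟨p, a⟩ ⟨p', b⟩ h
    simp only [] at h
    have hp : p.1 = p'.1 := by
      rw [← p.1.mk_rep, ← p'.1.mk_rep, Projectivization.mk_eq_mk_iff']
      exact ⟨(a : F)⁻¹ * b, by rw [mul_smul, ← h, smul_smul, inv_mul_cancel₀ a.ne_zero, one_smul]⟩
    obtain rfl := Subtype.ext hp
    rw [Prod.mk.injEq]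
    exact ⟨rfl, Units.ext (smul_left_injective _ p.1.rep_nonzero h)⟩
  have hsub : Set.range (fun z : P × Fˣ => (z.2 : F) • z.1.1.rep) ⊆ T \ {0} := by
    rintro _ ⟨z, rfl⟩
    exact ⟨hP _ z.1.2 _, fun h => by
      rcases smul_eq_zero.1 h with h | h
      · exact z.2.ne_zero h
      · exact z.1.1.rep_nonzero h⟩
  have h1 := Set.ncard_le_ncard hsub (Set.toFinite _)
  rw [Set.ncard_range_of_injective hinj, Nat.card_prod, Nat.card_units,
    Set.ncard_sdiff_singleton_of_mem h0] at h1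
  have h2 : 0 < T.ncard := (Set.ncard_pos (Set.toFinite _)).2 ⟨0, h0⟩
  rw [Nat.card_coe_set_eq T]
  omega

theorem orbit_rep {x : ι → F} (hx : x ≠ 0) {H : Subgroup (GL ι F)} {p : ℙ F (ι → F)}
    (hp : p ∈ lineOrbit hx H) : ∃ h ∈ H, ∃ t : F, p.rep = t • mv h x := by
  obtain ⟨h, rfl⟩ := hp
  obtain ⟨t, ht⟩ := Projectivization.exists_smul_eq_mk_rep F (mv (h : GL ι F) x)
    (fun e => hx (mv_inj _ (e.trans (mv_zero _).symm)))
  exact ⟨h, h.2, t, ht.symm⟩

/-- An invariant totally isotropic subspace gives index at least the number of points. -/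
theorem lines_le_of_isotropic (h4 : 4 ≤ Fintype.card ι) {H : Subgroup (GL ι F)} (hH : H ≤ Isom f)
    {W : Submodule F (ι → F)} (hW0 : W ≠ ⊥) (hiso : ∀ u ∈ W, ∀ v ∈ W, f u v = 0)
    (hinv : ∀ h ∈ H, ∀ w ∈ W, mv h w ∈ W) : Nat.card (ℙ F (ι → F)) ≤ H.relIndex (Isom f) := by
  classical
  obtain ⟨x, hxW, hx⟩ := Submodule.exists_mem_ne_zero_of_ne_bot hW0
  set q := Nat.card F with hq
  set O := orth hf W
  have hWO : W ≤ O := fun v hv u hu => hiso u hu v hv
  have hOp : O ≤ perp hf x := fun v hv => (f_eq_zero_comm hf).1 (hv x hxW)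
  -- the orbit of W under the point stabiliser
  let img : pStab f x → Set (ι → F) := fun g => mv (g : GL ι F) '' W
  let St : Subgroup (GL ι F) := Isom f ⊓ Geo.subspaceStabilizer W
  have hHS : H ≤ St := fun h hh => ⟨hH hh, mem_subspaceStabilizer_of_le (hinv h hh)⟩
  have himg : Nat.card (Set.range img) = St.relIndex (pStab f x) := by
    refine card_range_eq_index _ img fun a b => ?_
    rw [Subgroup.mem_subgroupOf, Subgroup.coe_mul, Subgroup.coe_inv]
    refine ⟨fun h => ⟨(Isom f).mul_mem ((Isom f).inv_mem a.2.1) b.2.1, mem_subspaceStabilizer_of_le fun w hw => ?_⟩, fun h => ?_⟩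
    · have h0 : mv (b : GL ι F) w ∈ img b := ⟨w, hw, rfl⟩
      rw [← h] at h0
      obtain ⟨w', hw', he⟩ := h0
      rw [mv_mul, ← he, mv_inv_mv]
      exact hw'
    · refine Set.ext fun v => ⟨?_, ?_⟩
      · rintro ⟨w, hw, rfl⟩
        refine ⟨mv ((a : GL ι F)⁻¹ * b)⁻¹ w, mv_mem_of_mem_stab (inv_mem h.2) hw, ?_⟩
        rw [_root_.mul_inv_rev, inv_inv, mv_mul, mv_mv_inv]
      · rintro ⟨w, hw, rfl⟩
        exact ⟨mv ((a : GL ι F)⁻¹ * b) w, mv_mem_of_mem_stab h.2 hw, by rw [mv_mul, mv_mv_inv]⟩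
  -- many images
  let D : Set (ι → F) := (perp hf x : Set (ι → F)) \ O
  have hw₁ : ∀ u : D, ∃ w ∈ W, f w u.1 = 1 := by
    rintro ⟨u, -, hu⟩
    obtain ⟨w, hw, hwu⟩ : ∃ w ∈ W, f w u ≠ 0 := by
      by_contra h
      push Not at h
      exact hu h
    exact ⟨(f w u)⁻¹ • w, W.smul_mem _ hw, by rw [hf.bilinear.smul_left, inv_mul_cancel₀ hwu]⟩
  choose w₁ hw₁W hw₁ using hw₁
  let el : D × F → pStab f x := fun p =>
    if p.2 = 0 then ⟨stv hf (w₁ p.1 + p.1.1) (-1), (mem_pStab hf hx).2 ⟨stv_mem hf _ _, 1, one_ne_zero, by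
      rw [one_smul, stv_fix hf _ _ (by rw [hf.bilinear.add_right, hiso x hxW _ (hw₁W p.1),
        (f_eq_zero_comm hf).1 p.1.2.1, add_zero])]⟩⟩
    else ⟨stv hf p.1.1 p.2⁻¹, (mem_pStab hf hx).2 ⟨stv_mem hf _ _, 1, one_ne_zero, by
      rw [one_smul, stv_fix hf _ _ ((f_eq_zero_comm hf).1 p.1.2.1)]⟩⟩
  -- the image contains the vector t w + u and is spanned by it modulo W
  have hel : ∀ p : D × F, p.2 • w₁ p.1 + p.1.1 ∈ img (el p) ∧
      ∀ v ∈ img (el p), ∃ l : F, v - l • (p.2 • w₁ p.1 + p.1.1) ∈ W ∧ f (v - l • (p.2 • w₁ p.1 + p.1.1)) p.1.1 = 0 := by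
    rintro ⟨u, t⟩
    have hsplit : ∀ w ∈ W, w - f w u.1 • w₁ u ∈ W ∧ f (w - f w u.1 • w₁ u) u.1 = 0 := fun w hw =>
      ⟨W.sub_mem hw (W.smul_mem _ (hw₁W u)), by rw [f_sub_left hf, hf.bilinear.smul_left, hw₁, mul_one, sub_self]⟩
    by_cases ht : t = 0
    · subst ht
      simp only [el, if_pos, zero_smul, zero_add, img, Set.mem_image, SetLike.mem_coe]
      refine ⟨⟨-w₁ u, W.neg_mem (hw₁W u), ?_⟩, ?_⟩
      · rw [mv_stv, hf.bilinear.add_right, f_neg_left hf, f_neg_left hf, hf.alternating, hw₁]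
        module
      · rintro _ ⟨w, hw, rfl⟩
        refine ⟨-f w u.1, ?_⟩
        rw [mv_stv, hf.bilinear.add_right, hiso w hw _ (hw₁W u), zero_add,
          show w + ((-1 : F) * f w u.1) • (w₁ u + u.1) - (-f w u.1) • u.1 = w - f w u.1 • w₁ u by module]
        exact hsplit w hw
    · simp only [el, if_neg ht, img, Set.mem_image, SetLike.mem_coe]
      refine ⟨⟨t • w₁ u, W.smul_mem _ (hw₁W u), ?_⟩, ?_⟩
      · rw [mv_stv, hf.bilinear.smul_left, hw₁, mul_one, inv_mul_cancel₀ ht, one_smul]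
      · rintro _ ⟨w, hw, rfl⟩
        refine ⟨t⁻¹ * f w u.1, ?_⟩
        rw [mv_stv, smul_add, smul_smul, mul_right_comm, inv_mul_cancel₀ ht, one_mul,
          show w + (t⁻¹ * f w u.1) • u.1 - (f w u.1 • w₁ u + (t⁻¹ * f w u.1) • u.1) = w - f w u.1 • w₁ u by abel]
        exact hsplit w hw
  have hne : ∀ p, img (el p) ≠ W := by
    rintro ⟨u, t⟩ h
    have := (hel (u, t)).1
    rw [h] at this
    exact u.2.2 (hWO (((W.add_mem_iff_right (W.smul_mem t (hw₁W u))).1 this)))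
  let Φ : D × F → (Set.range img \ {(W : Set (ι → F))} : Set (Set (ι → F))) :=
    fun p => ⟨img (el p), ⟨_, rfl⟩, hne p⟩
  have hfib : ∀ y, Nat.card {p : D × F // Φ p = y} ≤ Nat.card (Fˣ × O) := by
    intro y
    rcases isEmpty_or_nonempty {p : D × F // Φ p = y} with h | ⟨⟨p₀, hp₀⟩⟩
    · simp
    have hl : ∀ p : {p : D × F // Φ p = y}, ∃ z : Fˣ × O, p.1.1.1 = (z.1 : F) • p₀.1.1 + (z.2 : ι → F) := by
      rintro ⟨p, hp⟩
      have h1 : p.2 • w₁ p.1 + p.1.1 ∈ img (el p₀) := by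
        rw [show img (el p₀) = img (el p) from congrArg Subtype.val (hp₀.trans hp.symm)]
        exact (hel p).1
      obtain ⟨l, hl, -⟩ := (hel p₀).2 _ h1
      have hmem : p.1.1 - l • p₀.1.1 ∈ O := by
        have : p.1.1 - l • p₀.1.1 = (p.2 • w₁ p.1 + p.1.1 - l • (p₀.2 • w₁ p₀.1 + p₀.1.1)) -
            p.2 • w₁ p.1 + (l * p₀.2) • w₁ p₀.1 := by module
        rw [this]
        exact hWO (W.add_mem (W.sub_mem hl (W.smul_mem _ (hw₁W _))) (W.smul_mem _ (hw₁W _)))
      have hl0 : l ≠ 0 := fun h => p.1.2.2 (by rwa [h, zero_smul, sub_zero] at hmem)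
      exact ⟨(Units.mk0 l hl0, ⟨_, hmem⟩), (add_sub_cancel _ _).symm⟩
    choose z hz using hl
    refine Nat.card_le_card_of_injective z ?_
    rintro ⟨⟨u, t⟩, hp⟩ ⟨⟨u', t'⟩, hp'⟩ h
    obtain rfl : u = u' := Subtype.ext ((hz ⟨(u, t), hp⟩).trans (by rw [h]; exact (hz ⟨(u', t'), hp'⟩).symm))
    have h1 : t • w₁ u + u.1 ∈ img (el (u, t')) := by
      rw [show img (el (u, t')) = img (el (u, t)) from congrArg Subtype.val (hp'.trans hp.symm)]
      exact (hel (u, t)).1
    obtain ⟨l, hl, hlu⟩ := (hel (u, t')).2 _ h1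
    have hl1 : l = 1 := by
      by_contra hl1
      have : (1 - l) • u.1 ∈ W := by
        rw [show (1 - l) • u.1 = (t • w₁ u + u.1 - l • (t' • w₁ u + u.1)) - (t - l * t') • w₁ u by module]
        exact W.sub_mem hl (W.smul_mem _ (hw₁W u))
      exact u.2.2 (hWO ((W.smul_mem_iff (sub_ne_zero.2 (Ne.symm hl1))).1 this))
    have ht : t = t' := by
      rw [hl1, one_smul, show t • w₁ u + u.1 - (t' • w₁ u + u.1) = (t - t') • w₁ u by module,
        hf.bilinear.smul_left, hw₁, mul_one] at hlu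
      exact sub_eq_zero.1 hlu
    subst ht
    rfl
  haveI : Fintype (Set.range img \ {(W : Set (ι → F))} : Set (Set (ι → F))) := Fintype.ofFinite _
  have hcount : Nat.card D * q ≤ (St.relIndex (pStab f x) - 1) * ((q - 1) * Nat.card O) := by
    rw [hq, ← Nat.card_prod, Nat.card_congr (Equiv.sigmaFiberEquiv Φ).symm, Nat.card_sigma]
    refine (Finset.sum_le_sum fun y _ => hfib y).trans ?_
    rw [Finset.sum_const, smul_eq_mul, Finset.card_univ, ← Nat.card_eq_fintype_card, Nat.card_prod,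
      Nat.card_units, Nat.card_coe_set_eq, Set.ncard_sdiff_singleton_of_mem
        (show (W : Set (ι → F)) ∈ Set.range img from ⟨1, by show mv (1 : GL ι F) '' _ = _; simp only [mv_one, Set.image_id']⟩), ← Nat.card_coe_set_eq, himg]
  have hD : Nat.card D + Nat.card O = q * bigM ι F := by
    rw [hq, ← card_perp hf h4 hx, Nat.card_coe_set_eq]
    exact Set.ncard_sdiff_add_ncard_of_subset hOp (Set.toFinite _)
  have hOW : Nat.card O * Nat.card W = q ^ 2 * bigM ι F := card_orth hf h4 W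
  have hWle : Nat.card W ≤ (q - 1) * St.relIndex (pStab f x) + 1 := by
    have hO : 0 < Nat.card O := Nat.card_pos
    have hpos : 0 < St.relIndex (pStab f x) := Nat.pos_of_ne_zero Subgroup.index_ne_zero_of_finite
    have hq1 : 1 ≤ q := Nat.card_pos
    refine Nat.le_of_mul_le_mul_left ?_ hO
    obtain ⟨a, ha⟩ : ∃ a, St.relIndex (pStab f x) = a + 1 := ⟨_, (Nat.succ_pred_eq_of_pos hpos).symm⟩
    obtain ⟨r, hr⟩ : ∃ r, q = r + 1 := ⟨_, (Nat.succ_pred_eq_of_pos hq1).symm⟩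
    rw [ha, Nat.add_sub_cancel, hr, Nat.add_sub_cancel] at hcount
    rw [hOW, ha, hr, Nat.add_sub_cancel]
    rw [hr] at hD
    calc (r + 1) ^ 2 * bigM ι F = Nat.card D * (r + 1) + Nat.card O * (r + 1) := by rw [← add_mul, hD]; ring
      _ ≤ a * (r * Nat.card O) + Nat.card O * (r + 1) := Nat.add_le_add_right hcount _
      _ = _ := by ring
  have horb : Nat.card (lineOrbit hx H) * (q - 1) + 1 ≤ Nat.card W := by
    refine lines_bound hf W.zero_mem fun p hp t => ?_
    obtain ⟨h, hh, s, hs⟩ := orbit_rep hf hx hp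
    rw [hs]
    exact W.smul_mem _ (W.smul_mem _ (hinv h hh x hxW))
  have hle : Nat.card (lineOrbit hx H) ≤ H.relIndex (pStab f x) := by
    have h1 : St.relIndex (pStab f x) ≤ H.relIndex (pStab f x) :=
      Subgroup.relIndex_le_of_le_left hHS Subgroup.index_ne_zero_of_finite
    have h2 : 1 < q := Finite.one_lt_card
    refine (Nat.le_of_mul_le_mul_right ?_ (by omega : 0 < q - 1)).trans h1
    rw [mul_comm (St.relIndex _)]
    omega
  refine Nat.le_of_mul_le_mul_left ?_ (show 0 < Nat.card (lineOrbit hx H) from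
    @Nat.card_pos _ ⟨⟨_, ⟨1, rfl⟩⟩⟩ _)
  rw [← omega_mul hf hx hH]
  exact Nat.mul_le_mul_right _ hle

/-- Some vector in the orbit of x is not orthogonal to x, unless the index is large. -/
theorem exists_nonperp_orbit (h4 : 4 ≤ Fintype.card ι) {x : ι → F} (hx : x ≠ 0) {H : Subgroup (GL ι F)}
    (hH : H ≤ Isom f) (hi : H.relIndex (Isom f) < Nat.card (ℙ F (ι → F))) :
    ∃ h ∈ H, f x (mv h x) ≠ 0 := by
  by_contra hcon
  push Not at hcon
  let W : Submodule F (ι → F) := Submodule.span F (Set.range fun h : H => mv (h : GL ι F) x)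
  refine absurd (lines_le_of_isotropic hf h4 hH (W := W) ?_ ?_ ?_) (not_le.2 hi)
  · exact fun h => hx (by
      have : x ∈ W := Submodule.subset_span ⟨1, mv_one x⟩
      rwa [h, Submodule.mem_bot] at this)
  · intro u hu v hv
    induction hu using Submodule.span_induction with
    | mem u hu =>
      obtain ⟨a, rfl⟩ := hu
      induction hv using Submodule.span_induction with
      | mem v hv =>
        obtain ⟨b, rfl⟩ := hv
        have := hcon ((a : GL ι F)⁻¹ * b) (H.mul_mem (H.inv_mem a.2) b.2)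
        rw [← hH a.2 x] at this
        change f (mv (a : GL ι F) x) (mv (a : GL ι F) (mv ((a : GL ι F)⁻¹ * b) x)) = 0 at this
        rwa [← mv_mul, mul_inv_cancel_left] at this
      | zero => exact f_zero_right hf _
      | add a b _ _ ha hb => rw [hf.bilinear.add_right, ha, hb, add_zero]
      | smul c a _ ha => rw [hf.bilinear.smul_right, ha, mul_zero]
    | zero => exact f_zero_left hf _
    | add a b _ _ ha hb => rw [hf.bilinear.add_left, ha, hb, add_zero]
    | smul c a _ ha => rw [hf.bilinear.smul_left, ha, mul_zero]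
  · intro h hh w hw
    induction hw using Submodule.span_induction with
    | mem u hu =>
      obtain ⟨a, rfl⟩ := hu
      exact Submodule.subset_span ⟨⟨h * a, H.mul_mem hh a.2⟩, mv_mul h a x⟩
    | zero => rw [mv_zero]; exact W.zero_mem
    | add a b _ _ ha hb => rw [mv_add]; exact W.add_mem ha hb
    | smul c a _ ha => rw [mv_smul]; exact W.smul_mem c ha

end Cfsg.Agent.SpMin
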