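/-
Points with the full centre, and the closure of the set of such points.
-/
import Cfsg.Agent.Lib.SpMinIndex.Count

set_option autoImplicit false

namespace Cfsg.Agent.SpMin

open Matrix Cfsg.Agent.Transvec
open scoped LinearAlgebra.Projectivization

variable {ι : Type} [Fintype ι] [DecidableEq ι] {F : Type*} [Field F] [Finite F]
variable {f : (ι → F) → (ι → F) → F} (hf : Geo.IsSymplecticForm f)
include hf

/-- All transvections with centre x lie in H. -/
def Ctr (H : Subgroup (GL ι F)) (x : ι → F) : Prop := ∀ c, stv hf x c ∈ H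

theorem ctr_smul {H : Subgroup (GL ι F)} {x : ι → F} (hx : Ctr hf H x) (t : F) : Ctr hf H (t • x) := fun c => by
  rw [stv_smul]; exact hx _

theorem ctr_conj {H : Subgroup (GL ι F)} {h : GL ι F} (hh : h ∈ H) (hi : h ∈ Isom f) {x : ι → F}
    (hx : Ctr hf H x) : Ctr hf H (mv h x) := fun c => by
  have h1 := stv_conj hf (g := h) one_ne_zero (fun a b => by rw [one_mul]; exact hi a b) x c
  rw [div_one] at h1
  rw [← h1]
  exact H.mul_mem (H.mul_mem hh (hx c)) (H.inv_mem hh)

theorem ctr_line {H : Subgroup (GL ι F)} {x y : ι → F} (hx : Ctr hf H x) (hy : Ctr hf H y) (hxy : f x y ≠ 0)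
    (d : F) : Ctr hf H (x + d • y) := by
  have h := ctr_conj hf (hy (d / f x y)) (stv_mem hf _ _) hx
  rwa [mv_stv, div_mul_cancel₀ _ hxy] at h

theorem eq_isom_of_ctr {H : Subgroup (GL ι F)} (hH : H ≤ Isom f) (h : ∀ x, x ≠ 0 → Ctr hf H x) : H = Isom f :=
  le_antisymm hH (preserving_le hf fun v c => by
    by_cases hv : v = 0
    · rw [hv, ← zero_smul F (0 : ι → F), stv_smul, mul_zero, zero_mul, stv_zero]
      exact H.one_mem
    · exact h v hv c)

/-- Two non-orthogonal points with the whole radical generate everything. -/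
theorem eq_isom_of_two_full {H : Subgroup (GL ι F)} (hH : H ≤ Isom f) {x y : ι → F}
    (hxy : f y x ≠ 0) (hx : radQ hf x ≤ H) (hy : radQ hf y ≤ H) : H = Isom f := by
  have hxne : x ≠ 0 := fun h => hxy (by rw [h, f_zero_right hf])
  -- a point not orthogonal to x is, up to a scalar, the image of y
  have move : ∀ z, f z x ≠ 0 → ∃ g ∈ H, ∃ t : F, t ≠ 0 ∧ mv g y = t • z ∧ mv g x = x := by
    intro z hz
    set t := f y x / f z x with ht
    set v := (f y x)⁻¹ • (t • z - y)
    have hv : f v x = 0 := by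
      rw [hf.bilinear.smul_left, f_sub_left hf, hf.bilinear.smul_left, ht, div_mul_cancel₀ _ hz, sub_self, mul_zero]
    refine ⟨qel hf x v (-(f y v) / f y x), hx (qel_mem_radQ hf hv _), t, div_ne_zero hxy hz, ?_, qel_fix hf hv _⟩
    rw [mv_qel hf hv, div_mul_cancel₀ _ hxy, smul_smul, mul_inv_cancel₀ hxy, one_smul, neg_smul]
    abel
  have hctr : ∀ w, radQ hf w ≤ H → ∀ c, stv hf w c ∈ H := fun w hw c => by
    rw [← qel_zero]; exact hw (qel_mem_radQ hf (f_zero_left hf w) c)
  have hnon : ∀ z, f z x ≠ 0 → Ctr hf H z := by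
    intro z hz
    obtain ⟨g, hg, t, ht, hgy, -⟩ := move z hz
    have h1 := ctr_smul hf (ctr_conj hf hg (hH hg) (hctr y hy)) t⁻¹
    rwa [hgy, smul_smul, inv_mul_cancel₀ ht, one_smul] at h1
  refine eq_isom_of_ctr hf hH fun z hz => ?_
  obtain ⟨w, -, hw, hzw⟩ := exists_two hf (nondeg_top hf) Submodule.mem_top Submodule.mem_top hxne hz
  have hwC : Ctr hf H w := hnon w fun h => hw ((f_eq_zero_comm hf).1 h)
  by_cases hzx : f z x = 0
  · -- z + w is a centre as well
    set e := f x w
    have hzw' : Ctr hf H (z + w) := hnon _ (by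
      rw [hf.bilinear.add_left, hzx, zero_add]
      exact fun h => hw ((f_eq_zero_comm hf).1 h))
    have := ctr_line hf hzw' hwC (by rwa [hf.bilinear.add_left, hf.alternating, add_zero]) (-1)
    rwa [neg_one_smul, add_neg_cancel_right] at this
  · exact hnon z hzx

theorem conj_radQ_le {H : Subgroup (GL ι F)} (hH : H ≤ Isom f) {x : ι → F} (hx : radQ hf x ≤ H) {h : GL ι F}
    (hh : h ∈ H) : radQ hf (mv h x) ≤ H := by
  rintro _ ⟨v, c, hv, rfl⟩
  obtain ⟨w, rfl⟩ : ∃ w, v = mv h w := ⟨mv h⁻¹ v, (mv_mv_inv h v).symm⟩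
  have hw : f w x = 0 := (hH hh w x).symm.trans hv
  rw [← qel_conj hf (hH hh) hw]
  exact H.mul_mem (H.mul_mem hh (hx (qel_mem_radQ hf hw c))) (H.inv_mem hh)

theorem lines_le_of_full (h4 : 4 ≤ Fintype.card ι) {H : Subgroup (GL ι F)} (hH : H ≤ Isom f)
    (hne : H ≠ Isom f) {x : ι → F} (hx : x ≠ 0) (hfull : radQ hf x ≤ H) :
    Nat.card (ℙ F (ι → F)) ≤ H.relIndex (Isom f) := by
  by_contra hi
  obtain ⟨h, hh, hxy⟩ := exists_nonperp_orbit hf h4 hx hH (not_le.1 hi)
  exact hne (eq_isom_of_two_full hf hH (fun e => hxy ((f_eq_zero_comm hf).1 e)) hfull (conj_radQ_le hf hH hfull hh))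

theorem ctr_of_zIdx {H : Subgroup (GL ι F)} {x : ι → F} (hz : zIdx hf H x = 1) : Ctr hf H x := fun c =>
  (mem_sPar hf).1 (by rw [AddSubgroup.index_eq_one.1 hz]; trivial)

theorem zIdx_of_ctr {H : Subgroup (GL ι F)} {x : ι → F} (hx : Ctr hf H x) : zIdx hf H x = 1 :=
  AddSubgroup.index_eq_one.2 (eq_top_iff.2 fun c _ => hx c)

theorem mem_kPar_of_sIdx {H : Subgroup (GL ι F)} {x : ι → F} (hs : sIdx hf H x = 1) {v : ι → F}
    (hv : f v x = 0) : ∃ c, qel hf x v c ∈ H :=
  ((AddSubgroup.relIndex_eq_one.1 hs) (show v ∈ (perp hf x).toAddSubgroup from hv)).2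

theorem full_of_idx {H : Subgroup (GL ι F)} {x : ι → F} (hz : zIdx hf H x = 1) (hs : sIdx hf H x = 1) :
    radQ hf x ≤ H := by
  rintro _ ⟨v, c, hv, rfl⟩
  obtain ⟨d, hd⟩ := mem_kPar_of_sIdx hf hs hv
  have := H.mul_mem hd (show qel hf x 0 (c - d) ∈ H by rw [qel_zero]; exact ctr_of_zIdx hf hz _)
  rwa [qel_mul hf hv (f_zero_left hf x), add_zero, f_zero_left hf, add_zero, add_sub_cancel] at this

/-- For odd characteristic a point with the whole radical modulo the centre has the whole centre. -/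
theorem zIdx_one_of_odd (h4 : 4 ≤ Fintype.card ι) (h2 : (2 : F) ≠ 0) {H : Subgroup (GL ι F)} {x : ι → F}
    (hx : x ≠ 0) (hs : sIdx hf H x = 1) : zIdx hf H x = 1 := by
  refine zIdx_of_ctr hf fun a => ?_
  obtain ⟨u, hu, hu'⟩ := exists_indep_perp hf h4 hx
  obtain ⟨z, hz, huz, -⟩ := exists_common hf hx hu' hu'
  have hzx : f z x = 0 := hz
  set v := (a / (2 * f u z)) • z
  have hv : f v x = 0 := by rw [hf.bilinear.smul_left, hzx, mul_zero]
  obtain ⟨c, hc⟩ := mem_kPar_of_sIdx hf hs hv
  obtain ⟨d, hd⟩ := mem_kPar_of_sIdx hf hs hu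
  have := H.mul_mem (H.mul_mem (H.mul_mem hc hd) (H.inv_mem hc)) (H.inv_mem hd)
  rw [qel_conj_qel hf hv hu, qel_inv hf hu, qel_mul hf hu (by rw [f_neg_left hf, hu, neg_zero]), add_neg_cancel,
    qel_zero, f_neg_left hf, hf.alternating, neg_zero, add_zero, hf.bilinear.smul_right] at this
  have e : d + 2 * (a / (2 * f u z) * f u z) + -d = a := by field_simp; ring
  rwa [e] at this

theorem two_le_sIdx (h4 : 4 ≤ Fintype.card ι) {H : Subgroup (GL ι F)} {x : ι → F} (hx : x ≠ 0)
    (h : sIdx hf H x ≠ 1) : 2 ≤ sIdx hf H x := by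
  have := sIdx_pos hf h4 hx H
  omega

theorem exists_avoid₃ (hq : 3 ≤ Nat.card F) {W U₁ U₂ U₃ : Submodule F (ι → F)} (h1 : ¬ W ≤ U₁)
    (h2 : ¬ W ≤ U₂) (h3 : ¬ W ≤ U₃) : ∃ w ∈ W, w ∉ U₁ ∧ w ∉ U₂ ∧ w ∉ U₃ := by
  obtain ⟨w, hw, hw1, hw2⟩ := exists_avoid₂ hf h1 h2
  by_cases hw3 : w ∈ U₃
  swap
  · exact ⟨w, hw, hw1, hw2, hw3⟩
  obtain ⟨v, hv, hv3⟩ := SetLike.not_le_iff_exists.1 h3
  have huniq : ∀ U : Submodule F (ι → F), w ∉ U → ∀ s t : F, v + s • w ∈ U → v + t • w ∈ U → s = t := by
    intro U hU s t hs ht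
    by_contra hst
    have h := U.sub_mem hs ht
    rw [show v + s • w - (v + t • w) = (s - t) • w by module, U.smul_mem_iff (sub_ne_zero.2 hst)] at h
    exact hU h
  obtain ⟨t, ht1, ht2⟩ : ∃ t : F, v + t • w ∉ U₁ ∧ v + t • w ∉ U₂ := by
    by_contra hcon
    push Not at hcon
    classical
    haveI := Fintype.ofFinite F
    let g : F → Bool := fun t => decide (v + t • w ∈ U₁)
    have hg : Function.Injective g := by
      intro s t hst
      simp only [g, decide_eq_decide] at hst
      by_cases hs : v + s • w ∈ U₁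
      · exact huniq U₁ hw1 s t hs (hst.1 hs)
      · exact huniq U₂ hw2 s t (hcon s hs) (hcon t fun h => hs (hst.2 h))
    have := Fintype.card_le_of_injective g hg
    rw [Fintype.card_bool, ← Nat.card_eq_fintype_card] at this
    omega
  exact ⟨v + t • w, W.add_mem hv (W.smul_mem t hw), ht1, ht2,
    fun h => hv3 ((U₃.add_mem_iff_left (U₃.smul_mem t hw3)).1 h)⟩

theorem not_le_perp {W : Submodule F (ι → F)} {v : ι → F} (hv : ∃ w ∈ W, f v w ≠ 0) : ¬ W ≤ perp hf v := by
  obtain ⟨w, hw, h⟩ := hv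
  exact fun hle => h ((f_eq_zero_comm hf).1 (hle hw))

theorem exists_of_not_mem_orth {W : Submodule F (ι → F)} {v : ι → F} (hv : v ∉ orth hf W) :
    ∃ w ∈ W, f v w ≠ 0 := by
  by_contra h
  push Not at h
  exact hv fun u hu => (f_eq_zero_comm hf).1 (h u hu)

theorem card_pair_le {U : Submodule F (ι → F)} {y z : ι → F} (hy : y ∈ U) (hz : z ∈ U) (hyz : f y z = 1) :
    Nat.card F ^ 2 ≤ Nat.card U := by
  rw [sq, ← Nat.card_prod]
  refine Nat.card_le_card_of_injective (fun p : F × F => (⟨p.1 • y + p.2 • z,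
    U.add_mem (U.smul_mem _ hy) (U.smul_mem _ hz)⟩ : U)) fun p p' h => ?_
  have h1 := congrArg (fun v : U => f v.1 z) h
  have h2 := congrArg (fun v : U => f y v.1) h
  simp only [hf.bilinear.add_left, hf.bilinear.add_right, hf.bilinear.smul_left, hf.bilinear.smul_right,
    hf.alternating, hyz, mul_one, mul_zero, add_zero, zero_add] at h1 h2
  exact Prod.ext h1 h2

/-- The points with whole centre give index at least the number of points. -/
theorem lines_le_of_ctr (h4 : 4 ≤ Fintype.card ι) (hq : 3 ≤ Nat.card F) {H : Subgroup (GL ι F)}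
    (hH : H ≤ Isom f) (hne : H ≠ Isom f) {x : ι → F} (hx : x ≠ 0) (hxC : Ctr hf H x) :
    Nat.card (ℙ F (ι → F)) ≤ H.relIndex (Isom f) := by
  by_contra hi
  have hi' := not_le.1 hi
  have hs : 2 ≤ sIdx hf H x := two_le_sIdx hf h4 hx fun h =>
    hi (lines_le_of_full hf h4 hH hne hx (full_of_idx hf (zIdx_of_ctr hf hxC) h))
  have hbig : bigM ι F < Nat.card (lineOrbit hx H) := by
    have := zM_le_omega hf h4 hx H hs
    rw [zIdx_of_ctr hf hxC, one_mul] at this
    exact lt_of_le_of_lt this (omega_lt hf hx hH hi')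
  have hbad : ∀ T : Set (ι → F), (0 : ι → F) ∈ T → (∀ c, Ctr hf H c → c ∈ T) →
      (bigM ι F + 1) * (Nat.card F - 1) + 1 ≤ Nat.card T := by
    intro T h0 hT
    refine le_trans ?_ (lines_bound hf h0 (P := lineOrbit hx H) fun p hp t => ?_)
    · exact Nat.add_le_add_right (Nat.mul_le_mul_right _ hbig) 1
    · obtain ⟨h, hh, s, hs⟩ := orbit_rep hf hx hp
      rw [hs, smul_smul]
      exact hT _ (ctr_smul hf (ctr_conj hf hh (hH hh) hxC) _)
  -- the centres span
  let C : Submodule F (ι → F) := Submodule.span F {c | Ctr hf H c}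
  have hUinv : ∀ h ∈ H, ∀ u ∈ orth hf C, mv h u ∈ orth hf C := by
    intro h hh u hu v hv
    induction hv using Submodule.span_induction with
    | mem c hc =>
      have := hu _ (Submodule.subset_span (ctr_conj hf (H.inv_mem hh) (hH (H.inv_mem hh)) hc))
      rw [← hH hh] at this
      change f (mv h (mv h⁻¹ c)) (mv h u) = 0 at this
      rwa [mv_mv_inv] at this
    | zero => exact f_zero_left hf _
    | add a b _ _ ha hb => rw [hf.bilinear.add_left, ha, hb, add_zero]
    | smul c a _ ha => rw [hf.bilinear.smul_left, ha, mul_zero]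
  have hmem : ∀ {W : Submodule F (ι → F)} {h : GL ι F}, h ∈ Isom f → (∀ w ∈ W, mv h w ∈ W) →
      ∀ v ∈ orth hf W, mv h v ∈ orth hf W := by
    intro W h hh hW v hv u hu
    have hsurj : ∃ w ∈ W, mv h w = u := by
      let e : W → W := fun w => ⟨mv h w.1, hW w.1 w.2⟩
      obtain ⟨w, hw⟩ := (Finite.injective_iff_surjective.1
        (fun a b h' => Subtype.ext (mv_inj h (congrArg Subtype.val h'))) : Function.Surjective e) ⟨u, hu⟩
      exact ⟨w.1, w.2, congrArg Subtype.val hw⟩
    obtain ⟨w, hw, rfl⟩ := hsurj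
    exact (hh w v).trans (hv w hw)
  have hU : orth hf C = ⊥ := by
    have hrad : orth hf C ⊓ orth hf (orth hf C) = ⊥ := by
      by_contra h
      exact hi (lines_le_of_isotropic hf h4 hH h (fun u hu v hv => hv.2 u hu.1)
        fun h hh w hw => ⟨hUinv h hh w hw.1, hmem (hH hh) (hUinv h hh) w hw.2⟩)
    by_contra hne'
    obtain ⟨y, hy, hy0⟩ := Submodule.exists_mem_ne_zero_of_ne_bot hne'
    obtain ⟨z, hz, hyz⟩ := exists_partner hf hrad hy hy0
    have h1 := card_pair_le hf hy hz hyz
    have h2 := card_orth hf h4 (orth hf C)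
    have h3 := hbad (orth hf (orth hf C) : Submodule F (ι → F)) (Submodule.zero_mem _)
      (fun c hc u hu => (f_eq_zero_comm hf).1 (hu c (Submodule.subset_span hc)))
    have h5 : Nat.card (orth hf (orth hf C)) ≤ bigM ι F :=
      Nat.le_of_mul_le_mul_right ((Nat.mul_le_mul_left _ h1).trans (h2.trans (mul_comm _ _)).le) (by positivity)
    have h6 : bigM ι F + 1 ≤ (bigM ι F + 1) * (Nat.card F - 1) := Nat.le_mul_of_pos_right _ (by omega)
    change _ ≤ Nat.card (orth hf (orth hf C)) at h3
    omega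
  -- a maximal subspace all whose non-radical vectors are centres
  let Good : Submodule F (ι → F) → Prop := fun W =>
    (∀ w ∈ W, w ∉ orth hf W → Ctr hf H w) ∧ ∃ w ∈ W, w ∉ orth hf W
  obtain ⟨x', hx'C, hxx'⟩ : ∃ x', Ctr hf H x' ∧ f x x' ≠ 0 := by
    by_contra h
    push Not at h
    have : x ∈ orth hf C := fun u hu => by
      induction hu using Submodule.span_induction with
      | mem c hc => exact (f_eq_zero_comm hf).1 (h c hc)
      | zero => exact f_zero_left hf _
      | add a b _ _ ha hb => rw [hf.bilinear.add_left, ha, hb, add_zero]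
      | smul c a _ ha => rw [hf.bilinear.smul_left, ha, mul_zero]
    rw [hU, Submodule.mem_bot] at this
    exact hx this
  have hstart : Good (Submodule.span F {x, x'}) := by
    refine ⟨fun w hw _ => ?_, x, Submodule.subset_span (Set.mem_insert _ _), fun h => ?_⟩
    · obtain ⟨a, b, rfl⟩ := Submodule.mem_span_pair.1 hw
      by_cases ha : a = 0
      · rw [ha, zero_smul, zero_add]; exact ctr_smul hf hx'C b
      · rw [show a • x + b • x' = a • (x + (a⁻¹ * b) • x') by
          rw [smul_add, smul_smul, mul_inv_cancel_left₀ ha]]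
        exact ctr_smul hf (ctr_line hf hxC hx'C hxx' _) a
    · exact hxx' ((f_eq_zero_comm hf).1 (h x' (Submodule.subset_span (Set.mem_insert_of_mem _ rfl))))
  haveI : Finite (Submodule F (ι → F)) := Finite.of_injective _ SetLike.coe_injective
  obtain ⟨W, ⟨hWC, hWne⟩, hmax⟩ := Set.exists_max_image {W : Submodule F (ι → F) | Good W}
    (fun W => Nat.card W) (Set.toFinite _) ⟨_, hstart⟩
  have hdich : ∀ z, Ctr hf H z → z ∈ W ∨ z ∈ orth hf W := by
    intro z hzC
    by_contra hcon
    push Not at hcon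
    obtain ⟨hzW, hzO⟩ := hcon
    set R := W ⊓ orth hf W
    have hR : ¬ W ≤ R := by
      obtain ⟨w, hw, hw'⟩ := hWne
      exact fun h => hw' (h hw).2
    set W' := W ⊔ Submodule.span F {z}
    have hsum : ∀ w ∈ W, z + w ∉ orth hf W' → Ctr hf H (z + w) := by
      intro w hw hvO
      have key : ∀ w₁ ∈ W, w₁ ∉ R → w - w₁ ∉ R → f z w₁ ≠ 0 → f (z + w₁) (w - w₁) ≠ 0 → Ctr hf H (z + w) := by
        intro w₁ hw₁ h1 h2 h3 h5
        have c1 := ctr_line hf hzC (hWC w₁ hw₁ fun h => h1 ⟨hw₁, h⟩) h3 1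
        rw [one_smul] at c1
        have c2 := ctr_line hf c1 (hWC _ (W.sub_mem hw hw₁) fun h => h2 ⟨W.sub_mem hw hw₁, h⟩) h5 1
        rwa [one_smul, add_assoc, add_sub_cancel] at c2
      by_cases hzw : f z w = 0
      · have hzw' : f w z = 0 := (f_eq_zero_comm hf).1 hzw
        have hv : ∃ u ∈ W, f (z + w) u ≠ 0 := by
          by_contra h
          push Not at h
          refine hvO fun u hu => (f_eq_zero_comm hf).1 ?_
          obtain ⟨a, ha, b, hb, rfl⟩ := Submodule.mem_sup.1 hu
          obtain ⟨t, rfl⟩ := Submodule.mem_span_singleton.1 hb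
          rw [hf.bilinear.add_right, h a ha, zero_add, hf.bilinear.smul_right, hf.bilinear.add_left, hzw',
            hf.alternating, add_zero, mul_zero]
        obtain ⟨U₃, hU₃, hgood⟩ : ∃ U₃ : Submodule F (ι → F), ¬ W ≤ U₃ ∧
            ∀ w₁ ∈ W, w₁ ∉ U₃ → w₁ ∉ R ∧ w - w₁ ∉ R := by
          by_cases hwR : w ∈ R
          · exact ⟨R, hR, fun w₁ _ h => ⟨h, fun h' => h (by simpa using R.sub_mem hwR h')⟩⟩
          · refine ⟨perp hf w, not_le_perp hf (exists_of_not_mem_orth hf fun h => hwR ⟨hw, h⟩), fun w₁ _ h => ?_⟩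
            refine ⟨fun h' => h ((f_eq_zero_comm hf).1 (h'.2 w hw)), fun h' => h ((f_eq_zero_comm hf).1 ?_)⟩
            have := h'.2 w hw
            rw [f_sub_right hf, hf.alternating, zero_sub, neg_eq_zero] at this
            exact this
        obtain ⟨w₁, hw₁, h1, h2, h3⟩ := exists_avoid₃ hf hq (not_le_perp hf (exists_of_not_mem_orth hf hzO))
          (not_le_perp hf hv) hU₃
        obtain ⟨g1, g2⟩ := hgood w₁ hw₁ h3
        refine key w₁ hw₁ g1 g2 (fun h => h1 ((f_eq_zero_comm hf).1 h)) fun h => h2 ?_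
        rw [hf.bilinear.add_left, f_sub_right hf, f_sub_right hf, hzw, hf.alternating] at h
        show f w₁ (z + w) = 0
        rw [hf.bilinear.add_right, hf.skew w₁ z]
        linear_combination h
      · by_cases hwR : w ∈ R
        · obtain ⟨w₁, hw₁, h1, h2⟩ := exists_avoid₂ hf (not_le_perp hf (exists_of_not_mem_orth hf hzO)) hR
          have h1' : f z w₁ ≠ 0 := fun h => h1 ((f_eq_zero_comm hf).1 h)
          obtain ⟨e, he0, he⟩ : ∃ e : F, e ≠ 0 ∧ f z w + e * f z w₁ ≠ 0 := by
            by_contra h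
            push Not at h
            classical
            haveI := Fintype.ofFinite F
            have hg : Function.Injective fun t : F => decide (t = 0) := by
              intro s t hst
              simp only [decide_eq_decide] at hst
              by_cases hs : s = 0
              · rw [hs, hst.1 hs]
              · exact mul_right_cancel₀ h1' (by linear_combination h s hs - h t fun h' => hs (hst.2 h'))
            have := Fintype.card_le_of_injective _ hg
            rw [Fintype.card_bool, ← Nat.card_eq_fintype_card] at this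
            omega
          have hu : w + e • w₁ ∉ R := fun h => h2 ((R.smul_mem_iff he0).1 ((R.add_mem_iff_right hwR).1 h))
          have c1 := ctr_line hf hzC (hWC w₁ hw₁ fun h => h2 ⟨hw₁, h⟩) h1' (-e)
          have c2 := ctr_line hf c1 (hWC _ (W.add_mem hw (W.smul_mem e hw₁))
            fun h => hu ⟨W.add_mem hw (W.smul_mem e hw₁), h⟩) (by
              rw [hf.bilinear.add_left, hf.bilinear.add_right, hf.bilinear.smul_left, hf.bilinear.smul_right,
                hf.bilinear.add_right, hf.bilinear.smul_right, hf.alternating, hwR.2 w₁ hw₁]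
              simpa using he) 1
          rwa [one_smul, show z + (-e) • w₁ + (w + e • w₁) = z + w by module] at c2
        · have := ctr_line hf hzC (hWC w hw fun h => hwR ⟨hw, h⟩) hzw 1
          rwa [one_smul] at this
    have hgood : Good W' := by
      refine ⟨fun v hv hvO => ?_, ?_⟩
      · obtain ⟨w, hw, b, hb, rfl⟩ := Submodule.mem_sup.1 hv
        obtain ⟨t, rfl⟩ := Submodule.mem_span_singleton.1 hb
        by_cases ht : t = 0
        · subst ht
          rw [zero_smul, add_zero] at hvO ⊢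
          by_cases hwO : w ∈ orth hf W
          · have hwz : f w z ≠ 0 := fun h => hvO fun u hu => by
              obtain ⟨a, ha, b, hb, rfl⟩ := Submodule.mem_sup.1 hu
              obtain ⟨t, rfl⟩ := Submodule.mem_span_singleton.1 hb
              rw [hf.bilinear.add_left, hwO a ha, hf.bilinear.smul_left, (f_eq_zero_comm hf).1 h, mul_zero, add_zero]
            have hc := hsum w hw fun h => by
              have := h z (Submodule.mem_sup_right (Submodule.mem_span_singleton_self z))
              rw [hf.bilinear.add_right, hf.alternating, zero_add] at this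
              exact hwz ((f_eq_zero_comm hf).1 this)
            have := ctr_line hf hc hzC (by rwa [hf.bilinear.add_left, hf.alternating, zero_add]) (-1)
            rwa [neg_one_smul, add_neg_cancel_comm] at this
          · exact hWC w hw hwO
        · rw [show w + t • z = t • (z + t⁻¹ • w) by
            rw [smul_add, smul_smul, mul_inv_cancel₀ ht, one_smul, add_comm]] at hvO ⊢
          exact ctr_smul hf (hsum _ (W.smul_mem _ hw) fun h => hvO ((orth hf W').smul_mem t h)) t
      · obtain ⟨w, hw, hwO⟩ := hWne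
        exact ⟨w, Submodule.mem_sup_left hw, fun h => hwO fun u hu => h u (Submodule.mem_sup_left hu)⟩
    have hlt : Nat.card W < Nat.card W' := by
      refine Set.ncard_lt_ncard (s := (W : Set (ι → F))) (t := W')
        ⟨fun a ha => Submodule.mem_sup_left ha,
          fun h => hzW (h (Submodule.mem_sup_right (Submodule.mem_span_singleton_self z)))⟩ (Set.toFinite _)
    exact absurd (hmax W' hgood) (not_le.2 hlt)
  have hnd : Nondeg hf W := by
    rw [Nondeg, Submodule.eq_bot_iff]
    intro r hr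
    have : r ∈ orth hf C := fun u hu => by
      induction hu using Submodule.span_induction with
      | mem c hc =>
        rcases hdich c hc with h | h
        · exact hr.2 c h
        · exact (f_eq_zero_comm hf).1 (h r hr.1)
      | zero => exact f_zero_left hf _
      | add a b _ _ ha hb => rw [hf.bilinear.add_left, ha, hb, add_zero]
      | smul c a _ ha => rw [hf.bilinear.smul_left, ha, mul_zero]
    rwa [hU, Submodule.mem_bot] at this
  by_cases htop : W = ⊤
  · refine hne (eq_isom_of_ctr hf hH fun v hv => hWC v (htop ▸ Submodule.mem_top) fun h => hv ?_)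
    have : v ∈ W ⊓ orth hf W := ⟨htop ▸ Submodule.mem_top, h⟩
    rwa [hnd, Submodule.mem_bot] at this
  have hO : orth hf W ≠ ⊥ := fun h => htop (by have := sup_orth hf hnd; rwa [h, sup_bot_eq] at this)
  obtain ⟨y, hy, hy0⟩ := Submodule.exists_mem_ne_zero_of_ne_bot hO
  obtain ⟨y', hy', hyy'⟩ := exists_partner hf (nondeg_orth hf hnd) hy hy0
  have hO2 := card_pair_le hf hy hy' hyy'
  obtain ⟨w, hw, hwO⟩ := hWne
  obtain ⟨w', hw', hww'⟩ := exists_partner hf hnd hw (fun h => hwO (by rw [h]; exact Submodule.zero_mem _))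
  have hW2 := card_pair_le hf hw hw' hww'
  have hprod := card_orth hf h4 W
  have h3 := hbad ((W : Set (ι → F)) ∪ orth hf W) (Or.inl W.zero_mem) fun c hc => hdich c hc
  have hun : Nat.card ((W : Set (ι → F)) ∪ orth hf W : Set (ι → F)) ≤ Nat.card W + Nat.card (orth hf W) := by
    rw [Nat.card_coe_set_eq]
    exact Set.ncard_union_le _ _
  have hM := bigM_ge hf h4 (F := F)
  obtain ⟨q', hq'⟩ : ∃ q', Nat.card F - 1 = q' + 2 := ⟨Nat.card F - 3, by omega⟩
  rw [hq'] at h3
  have hsumle : Nat.card W + Nat.card (orth hf W) ≤ Nat.card F ^ 2 + bigM ι F := by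
    obtain ⟨a, ha⟩ := Nat.exists_eq_add_of_le hW2
    obtain ⟨b, hb⟩ := Nat.exists_eq_add_of_le hO2
    rw [ha, hb] at hprod ⊢
    refine Nat.le_of_mul_le_mul_left ?_ (show 0 < Nat.card F ^ 2 by positivity)
    calc Nat.card F ^ 2 * (Nat.card F ^ 2 + a + (Nat.card F ^ 2 + b))
        ≤ Nat.card F ^ 2 * Nat.card F ^ 2 + (Nat.card F ^ 2 + b) * (Nat.card F ^ 2 + a) := by
          nlinarith [Nat.zero_le (b * a)]
      _ = _ := by rw [hprod]; ring
  have : (bigM ι F + 1) * (q' + 2) = (bigM ι F + 1) * q' + 2 * bigM ι F + 2 := by ring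
  omega

end Cfsg.Agent.SpMin
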