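/-
Points with trivial centre and whole radical modulo the centre, in characteristic two.
-/
import Cfsg.Agent.Lib.SpMinIndex.Closure

set_option autoImplicit false

namespace Cfsg.Agent.SpMin

open Matrix Cfsg.Agent.Transvec
open scoped LinearAlgebra.Projectivization

variable {ι : Type} [Fintype ι] [DecidableEq ι] {F : Type*} [Field F] [Finite F]
variable {f : (ι → F) → (ι → F) → F} (hf : Geo.IsSymplecticForm f)
include hf

theorem sub_mem_sPar {H : Subgroup (GL ι F)} {x v : ι → F} (hv : f v x = 0) {c d : F}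
    (hc : qel hf x v c ∈ H) (hd : qel hf x v d ∈ H) : c - d ∈ sPar hf H x := by
  have := H.mul_mem hc (H.inv_mem hd)
  rw [qel_inv hf hv, qel_mul hf hv (by rw [f_neg_left hf, hv, neg_zero]), add_neg_cancel, qel_zero,
    f_neg_left hf, hf.alternating, neg_zero, add_zero, ← sub_eq_add_neg] at this
  exact this

theorem card_sPar_of_bot {H : Subgroup (GL ι F)} {x : ι → F} (h0 : sPar hf H x = ⊥) :
    zIdx hf H x = Nat.card F := by
  rw [← card_sPar_mul hf H x, h0, AddSubgroup.card_bot, one_mul]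

theorem eq_of_bot {H : Subgroup (GL ι F)} {x v : ι → F} (h0 : sPar hf H x = ⊥) (hv : f v x = 0) {c d : F}
    (hc : qel hf x v c ∈ H) (hd : qel hf x v d ∈ H) : c = d := by
  have := sub_mem_sPar hf hv hc hd
  rw [h0, AddSubgroup.mem_bot, sub_eq_zero] at this
  exact this

theorem two_eq_zero_of_even (he : Even (Nat.card F)) : (2 : F) = 0 := by
  haveI := Fintype.ofFinite F
  have h := FiniteField.cast_card_eq_zero F
  rw [← Nat.card_eq_fintype_card] at h
  obtain ⟨k, hk⟩ := he
  haveI : Fact (ringChar F).Prime := ⟨CharP.char_is_prime F _⟩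
  obtain ⟨n, hp, hn⟩ := FiniteField.card F (ringChar F)
  rw [← Nat.card_eq_fintype_card] at hn
  have h2 : 2 ∣ (ringChar F) ^ (n : ℕ) := hn ▸ ⟨k, by omega⟩
  have : ringChar F = 2 := ((Nat.prime_dvd_prime_iff_eq Nat.prime_two Fact.out).1 (Nat.prime_two.dvd_of_dvd_pow h2)).symm
  have h0 : ((2 : ℕ) : F) = 0 := this ▸ ringChar.Nat.cast_ringChar
  simpa using h0

variable (h2 : (2 : F) = 0)
include h2

theorem add_self_char {a : F} : a + a = 0 := by rw [← two_mul, h2, zero_mul]

theorem add_self_vec {a : ι → F} : a + a = 0 := by rw [← two_smul F a, h2, zero_smul]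

theorem neg_char {a : F} : -a = a := neg_eq_of_add_eq_zero_left (add_self_char hf h2)

theorem f_symm (a b : ι → F) : f a b = f b a := by rw [hf.skew, neg_char hf h2]

theorem sq_surj (a : F) : ∃ b : F, b ^ 2 = a := by
  have hinj : Function.Injective fun b : F => b ^ 2 := fun b c h => by
    have : (b - c) * (b - c) = 0 := by linear_combination h - (b * c - c * c) * h2
    exact sub_eq_zero.1 (mul_self_eq_zero.1 this)
  exact Finite.injective_iff_surjective.1 hinj a

theorem sq_inj {a b : F} (h : a ^ 2 = b ^ 2) : a = b := by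
  have : (a - b) * (a - b) = 0 := by linear_combination h - (a * b - b * b) * h2
  exact sub_eq_zero.1 (mul_self_eq_zero.1 this)

theorem qel_shift_two {x v : ι → F} (hv : f v x = 0) (c e : F) :
    qel hf x (v + e • x) c = qel hf x v c := by
  rw [qel_shift hf hv, h2, zero_mul, add_zero]

/-- The two radical elements on an isotropic line. -/
theorem qel_mul_qel {x u : ι → F} (hu : f u x = 0) (A B d d' : F) (z : ι → F) :
    mv (qel hf x (d • u) A * qel hf u (d' • x) B) z =
      z + (A * f z x + (d + d') * f z u) • x + ((d + d') * f z x + B * f z u) • u := by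
  have hxu : f x u = 0 := (f_eq_zero_comm hf).1 hu
  rw [mv_mul, mv_qel hf (by rw [hf.bilinear.smul_left, hu, mul_zero]),
    mv_qel hf (by rw [hf.bilinear.smul_left, hxu, mul_zero])]
  simp only [hf.bilinear.add_left, hf.bilinear.smul_right, hf.bilinear.smul_left, hf.alternating, hu, hxu,
    mul_zero, add_zero, smul_smul]
  match_scalars <;> ring

theorem qel_mul_eq_stv {x u : ι → F} (hu : f u x = 0) {A B d d' al be : F} (hA : al ^ 2 = A) (hB : be ^ 2 = B)
    (hd : al * be = d + d') : qel hf x (d • u) A * qel hf u (d' • x) B = stv hf (al • x + be • u) 1 := by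
  refine ext_mv fun z => ?_
  rw [qel_mul_qel hf h2 hu, mv_stv, ← hA, ← hB, ← hd]
  simp only [hf.bilinear.add_right, hf.bilinear.smul_right, one_mul]
  match_scalars <;> ring

/-! ### The map v ↦ c -/

variable {H : Subgroup (GL ι F)} {x : ι → F}

open scoped Classical in
/-- The unique c with qel x v c in H. -/
noncomputable def cFun (H : Subgroup (GL ι F)) (x v : ι → F) : F :=
  if h : ∃ c, qel hf x v c ∈ H then h.choose else 0

theorem cFun_mem (hs : sIdx hf H x = 1) {v : ι → F} (hv : f v x = 0) :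
    qel hf x v (cFun hf H x v) ∈ H := by
  rw [cFun, dif_pos (mem_kPar_of_sIdx hf hs hv)]
  exact (mem_kPar_of_sIdx hf hs hv).choose_spec

theorem cFun_unique (hs : sIdx hf H x = 1) (h0 : sPar hf H x = ⊥) {v : ι → F} (hv : f v x = 0) {c : F}
    (hc : qel hf x v c ∈ H) : cFun hf H x v = c :=
  eq_of_bot hf h0 hv (cFun_mem hf h2 hs hv) hc

theorem cFun_zero (hs : sIdx hf H x = 1) (h0 : sPar hf H x = ⊥) : cFun hf H x 0 = 0 :=
  cFun_unique hf h2 hs h0 (f_zero_left hf x) (by rw [qel_one]; exact H.one_mem)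

theorem cFun_add (hs : sIdx hf H x = 1) (h0 : sPar hf H x = ⊥) {v w : ι → F} (hv : f v x = 0) (hw : f w x = 0) :
    cFun hf H x (v + w) = cFun hf H x v + cFun hf H x w + f w v :=
  cFun_unique hf h2 hs h0 (f_add_line hf hv hw)
    (qel_mul hf hv hw _ _ ▸ H.mul_mem (cFun_mem hf h2 hs hv) (cFun_mem hf h2 hs hw))

theorem cFun_line (hs : sIdx hf H x = 1) (h0 : sPar hf H x = ⊥) {v : ι → F} (hv : f v x = 0) (e : F) :
    cFun hf H x (v + e • x) = cFun hf H x v :=
  cFun_unique hf h2 hs h0 (by rw [hf.bilinear.add_left, hv, hf.bilinear.smul_left, hf.alternating, mul_zero, add_zero])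
    (by rw [qel_shift_two hf h2 hv]; exact cFun_mem hf h2 hs hv)

theorem perp_mv_fix {g : GL ι F} (hg : g ∈ Isom f) (hgx : mv g x = x) {v : ι → F} (hv : f v x = 0) :
    f (mv g v) x = 0 := by
  have h : f (mv g v) (mv g x) = f v x := hg v x
  rwa [hgx, hv] at h

theorem cFun_coset (hs : sIdx hf H x = 1) (h0 : sPar hf H x = ⊥) (hH : H ≤ Isom f) (hx : x ≠ 0)
    {g₁ g₂ : pStab f x} (h1 : mv (g₁ : GL ι F) x = x) (h2' : mv (g₂ : GL ι F) x = x)
    (hcos : (g₁ : pStab f x ⧸ (rq hf hx H).subgroupOf (pStab f x)) = g₂) {v : ι → F} (hv : f v x = 0) :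
    cFun hf H x (mv (g₁ : GL ι F)⁻¹ v) = cFun hf H x (mv (g₂ : GL ι F)⁻¹ v) := by
  have hm := QuotientGroup.eq.1 hcos
  rw [Subgroup.mem_subgroupOf, Subgroup.coe_mul, Subgroup.coe_inv] at hm
  obtain ⟨h, hh, u, hu, he⟩ := hm
  set w := mv (g₁ : GL ι F)⁻¹ v with hw
  have hg1 : mv (g₁ : GL ι F)⁻¹ x = x := by rw [mv_eq_iff, inv_inv, h1]
  have hwx : f w x = 0 := perp_mv_fix hf h2 (inv_mem g₁.2.1) hg1 hv
  have hux : mv u x = x := by obtain ⟨a, b, ha, rfl⟩ := hu; exact qel_fix hf ha b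
  have hhx : mv h x = x := by
    have := congrArg (fun g => mv g x) he
    simp only [mv_mul, hux, h2', hg1] at this
    exact this.symm
  have hhx' : mv h⁻¹ x = x := by rw [mv_eq_iff, inv_inv, hhx]
  have hg2 : (g₂ : GL ι F)⁻¹ = u⁻¹ * h⁻¹ * (g₁ : GL ι F)⁻¹ := by
    rw [show (g₂ : GL ι F) = g₁ * (h * u) by rw [← he, mul_inv_cancel_left]]; group
  have hhw : f (mv h⁻¹ w) x = 0 := perp_mv_fix hf h2 (inv_mem (hH hh.1)) hhx' hwx
  obtain ⟨e, he'⟩ : ∃ e : F, mv u⁻¹ (mv h⁻¹ w) = mv h⁻¹ w + e • x := by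
    obtain ⟨a, b, ha, hab⟩ := inv_mem hu
    refine ⟨f (mv h⁻¹ w) a, ?_⟩
    rw [hab, mv_qel hf ha, hhw, zero_smul, mul_zero, zero_smul, add_zero, add_zero]
  rw [hg2, mv_mul, mv_mul, ← hw, he', cFun_line hf h2 hs h0 hhw]
  refine (cFun_unique hf h2 hs h0 hhw ?_).symm
  have h3 := H.mul_mem (H.mul_mem (H.inv_mem hh.1) (cFun_mem hf h2 hs hwx)) (H.inv_mem (H.inv_mem hh.1))
  rwa [qel_conj hf (inv_mem (hH hh.1)) hwx, hhx'] at h3

theorem stv_fix_pStab (hx : x ≠ 0) {w : ι → F} (hw : f w x = 0) (e : F) : stv hf w e ∈ pStab f x :=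
  (mem_pStab hf hx).2 ⟨stv_mem hf w e, 1, one_ne_zero, by rw [one_smul, stv_fix hf _ _ ((f_eq_zero_comm hf).1 hw)]⟩

theorem stv_inv_two (w : ι → F) (e : F) : (stv hf w e)⁻¹ = stv hf w e := by
  rw [inv_eq_iff_mul_eq_one, stv_add, add_self_char hf h2, stv_zero]

theorem cFun_stv (hs : sIdx hf H x = 1) (h0 : sPar hf H x = ⊥) {v w : ι → F} (hv : f v x = 0) (hw : f w x = 0)
    (e : F) : cFun hf H x (mv (stv hf w e) v) =
      cFun hf H x v + cFun hf H x ((e * f v w) • w) + e * f v w * f v w := by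
  rw [mv_stv, cFun_add hf h2 hs h0 hv (by rw [hf.bilinear.smul_left, hw, mul_zero]), hf.bilinear.smul_left,
    f_symm hf h2 w v]

theorem eq_line_of_perp {r r' : ι → F} (hx : x ≠ 0) (h : ∀ v, f v x = 0 → f v r = f v r') :
    ∃ e : F, r' = r + e • x := by
  obtain ⟨e, he⟩ := Submodule.mem_span_singleton.1 (mem_line_of_perp hf hx (u := r' - r) fun v hv => by
    rw [f_symm hf h2, f_sub_right hf, h v hv, sub_self])
  exact ⟨e, by rw [he]; abel⟩

/-- Either c is homogeneous of degree two, or the index at the point is large. -/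
theorem homogeneous (h4 : 4 ≤ Fintype.card ι) (hq : 3 ≤ Nat.card F) (hH : H ≤ Isom f) (hx : x ≠ 0)
    (hs : sIdx hf H x = 1) (h0 : sPar hf H x = ⊥) (ha : aIdx hf hx H < 2 * (bigM ι F - 1))
    {v₀ : ι → F} (hv₀ : f v₀ x = 0) (t : F) :
    cFun hf H x (t • v₀) = t ^ 2 * cFun hf H x v₀ := by
  classical
  by_contra hne
  obtain ⟨m, hm⟩ : ∃ m : F, psi F (m * (cFun hf H x (t • v₀) + t ^ 2 * cFun hf H x v₀)) ≠ 0 := by
    by_contra h
    push Not at h
    have hA := eq_zero_of_psi h
    exact hne (by linear_combination hA - t ^ 2 * cFun hf H x v₀ * h2)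
  have hadd : ∀ a b, f a x = 0 → f b x = 0 → cFun hf H x (t • (a + b)) + t ^ 2 * cFun hf H x (a + b) =
      (cFun hf H x (t • a) + t ^ 2 * cFun hf H x a) + (cFun hf H x (t • b) + t ^ 2 * cFun hf H x b) := by
    intro a b ha hb
    rw [smul_add, cFun_add hf h2 hs h0 (by rw [hf.bilinear.smul_left, ha, mul_zero])
      (by rw [hf.bilinear.smul_left, hb, mul_zero]), cFun_add hf h2 hs h0 ha hb, hf.bilinear.smul_left,
      hf.bilinear.smul_right]
    linear_combination t ^ 2 * f b a * h2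
  let φ : (perp hf x).toAddSubgroup →+ ZMod (ringChar F) :=
    AddMonoidHom.mk' (fun v => psi F (m * (cFun hf H x (t • (v : ι → F)) + t ^ 2 * cFun hf H x v))) fun a b => by
      rw [← map_add, ← mul_add, AddSubgroup.coe_add, hadd a b a.2 b.2]
  obtain ⟨r, hr⟩ := (dual_main hf _).2 φ
  have hr' : ∀ v, f v x = 0 → psi F (f r v) = psi F (m * (cFun hf H x (t • v) + t ^ 2 * cFun hf H x v)) := fun v hv => hr ⟨v, hv⟩
  have hrx : f r x = 0 := eq_zero_of_psi fun s => by
    have hsx : f (s • x) x = 0 := by rw [hf.bilinear.smul_left, hf.alternating, mul_zero]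
    rw [← hf.bilinear.smul_right, hr' _ hsx, smul_smul, ← zero_add ((t * s) • x), ← zero_add (s • x),
      cFun_line hf h2 hs h0 (f_zero_left hf x), cFun_line hf h2 hs h0 (f_zero_left hf x),
      cFun_zero hf h2 hs h0, mul_zero, add_zero, mul_zero, map_zero]
  have hrline : r ∉ Submodule.span F {x} := fun h => by
    obtain ⟨s, rfl⟩ := Submodule.mem_span_singleton.1 h
    apply hm
    rw [← hr' v₀ hv₀, hf.bilinear.smul_left, (f_eq_zero_comm hf).1 hv₀, mul_zero, map_zero]
  -- an element fixing r which changes c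
  obtain ⟨w, e, v₁, hw, hwr, hv₁, hδ⟩ : ∃ w e v₁, f w x = 0 ∧ f r w = 0 ∧ f v₁ x = 0 ∧
      cFun hf H x (mv (stv hf w e) v₁) ≠ cFun hf H x v₁ := by
    by_contra hcon
    push Not at hcon
    obtain ⟨l, hl0, hl1⟩ : ∃ l : F, l ≠ 0 ∧ l ≠ 1 := by
      letI instF := Fintype.ofFinite F
      obtain ⟨l, hl⟩ := Finset.exists_mem_notMem_of_card_lt_card (s := ({0, 1} : Finset F)) (t := Finset.univ)
        (lt_of_le_of_lt Finset.card_le_two (by rw [Finset.card_univ, ← Nat.card_eq_fintype_card]; omega))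
      simp only [Finset.mem_insert, Finset.mem_singleton, not_or] at hl
      exact ⟨l, hl.2.1, hl.2.2⟩
    have key : ∀ s : F, s ≠ 0 → ∀ e : F, cFun hf H x ((e * s) • r) = e := by
      intro s hs' e
      obtain ⟨z, hz, hzr, -⟩ := exists_common hf hx hrline hrline
      have hz' : f z x = 0 := hz
      have hsr : f z (s • r) ≠ 0 := by
        rw [hf.bilinear.smul_right]; exact mul_ne_zero hs' fun h => hzr ((f_eq_zero_comm hf).1 h)
      have hwx : f (s • r) x = 0 := by rw [hf.bilinear.smul_left, hrx, mul_zero]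
      have hzx : f ((f z (s • r))⁻¹ • z) x = 0 := by rw [hf.bilinear.smul_left, hz', mul_zero]
      have hB := hcon (s • r) e _ hwx (by rw [hf.bilinear.smul_right, hf.alternating, mul_zero]) hzx
      rw [cFun_stv hf h2 hs h0 hzx hwx, hf.bilinear.smul_left (f z (s • r))⁻¹, inv_mul_cancel₀ hsr, mul_one,
        mul_one, smul_smul] at hB
      linear_combination hB - e * h2
    have a1 := key 1 one_ne_zero l
    have a2 := key l hl0 1
    rw [one_mul] at a2
    rw [mul_one] at a1
    exact hl1 (a1 ▸ a2)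
  let τ : pStab f x := ⟨stv hf w e, stv_fix_pStab hf h2 hx hw e⟩
  have hτx : mv (τ : GL ι F) x = x := stv_fix hf _ _ ((f_eq_zero_comm hf).1 hw)
  let X : Set (ι → F) := {v | f v x = 0 ∧ v ∉ Submodule.span F {x}}
  let cls : (ι → F) → (ι → F) := fun v => (Submodule.Quotient.mk (p := Submodule.span F {x}) v).out
  have hcls : ∀ v, cls v - v ∈ Submodule.span F {x} := fun v =>
    (Submodule.Quotient.eq _).1 (Submodule.Quotient.mk_out _)
  have hX : ∀ v : X, f (cls v.1) x = 0 ∧ cls v.1 ∉ Submodule.span F {x} := by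
    rintro ⟨v, hv, hv'⟩
    obtain ⟨k, hk⟩ := Submodule.mem_span_singleton.1 (hcls v)
    have hcv : cls v = v + k • x := by rw [hk]; abel
    refine ⟨by rw [hcv, hf.bilinear.add_left, hv, hf.bilinear.smul_left, hf.alternating, mul_zero, add_zero],
      fun h => hv' ?_⟩
    have hC := Submodule.sub_mem _ h (hcls v)
    rwa [sub_sub_cancel] at hC
  have hsig : ∀ u : ι → F, ∃ g : pStab f x, mv (g : GL ι F) x = x ∧
      (f u x = 0 → u ∉ Submodule.span F {x} → mv (g : GL ι F) r = u) := by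
    intro u
    by_cases hu : f u x = 0 ∧ u ∉ Submodule.span F {x}
    · obtain ⟨g, hg, hgx, hgr⟩ := exists_fix_move hf hx hrx hrline hu.1 hu.2
      exact ⟨⟨g, (mem_pStab hf hx).2 ⟨hg, 1, one_ne_zero, by rw [hgx, one_smul]⟩⟩, hgx, fun _ _ => hgr⟩
    · exact ⟨1, mv_one x, fun a b => absurd ⟨a, b⟩ hu⟩
  choose σ hσx hσr using hsig
  let g : X × Bool → pStab f x := fun p => if p.2 then σ (cls p.1.1) * τ else σ (cls p.1.1)
  have hgx : ∀ p, mv (g p : GL ι F) x = x := by
    rintro ⟨v, b⟩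
    cases b <;> simp [g, mv_mul, hσx, hτx]
  have hgr : ∀ p : X × Bool, mv (g p : GL ι F) r = cls p.1.1 := by
    rintro ⟨v, b⟩
    cases b <;> simp [g, mv_mul, hσr _ (hX v).1 (hX v).2, τ, stv_fix hf _ _ hwr]
  let Φ : X × Bool → pStab f x ⧸ (rq hf hx H).subgroupOf (pStab f x) := fun p => (g p : _)
  have hkey : ∀ p p' : X × Bool, Φ p = Φ p' → cls p.1.1 = cls p'.1.1 ∧ p.2 = p'.2 := by
    rintro ⟨v, b⟩ ⟨v', b'⟩ h
    have hc := fun u hu => cFun_coset hf h2 hs h0 hH hx (hgx (v, b)) (hgx (v', b')) h (v := u) hu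
    have hsame : ∃ k : F, cls v'.1 = cls v.1 + k • x := by
      refine eq_line_of_perp hf h2 hx fun u hu => ?_
      rw [f_symm hf h2 u, f_symm hf h2 u]
      refine sub_eq_zero.1 (eq_zero_of_psi fun s => ?_)
      have hsu : f (s • u) x = 0 := by rw [hf.bilinear.smul_left, hu, mul_zero]
      have hval : ∀ p : X × Bool, psi F (s * f (cls p.1.1) u) =
          psi F (m * (cFun hf H x (mv (g p : GL ι F)⁻¹ (t • (s • u))) + t ^ 2 * cFun hf H x (mv (g p : GL ι F)⁻¹ (s • u)))) := by
        intro p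
        rw [mv_smul _ t (s • u), ← hr' _ (perp_mv_fix hf h2 (inv_mem (g p).2.1)
          (by rw [mv_eq_iff, inv_inv, hgx]) hsu), ← hgr p, ← hf.bilinear.smul_right]
        congr 1
        conv_lhs => rw [← mv_mv_inv (g p : GL ι F) (s • u)]
        exact ((g p).2.1 _ _)
      rw [mul_sub, map_sub, hval (v, b), hval (v', b'), hc _ hsu, hc _ (by rw [hf.bilinear.smul_left, hsu, mul_zero]),
        sub_self]
    obtain ⟨k, hk⟩ := hsame
    have hcl : cls v.1 = cls v'.1 := by
      apply congrArg Quotient.out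
      refine (Submodule.Quotient.eq _).2 ?_
      have h3 := Submodule.sub_mem _ (hcls v'.1) (hcls v.1)
      rw [hk, show cls v.1 + k • x - v'.1 - (cls v.1 - v.1) = k • x + (v.1 - v'.1) by abel] at h3
      exact (Submodule.add_mem_iff_right _ (Submodule.smul_mem _ k (Submodule.mem_span_singleton_self x))).1 h3
    refine ⟨hcl, ?_⟩
    have hbad : ∀ s : pStab f x, mv (s : GL ι F) x = x →
        ((s * τ : pStab f x) : pStab f x ⧸ (rq hf hx H).subgroupOf (pStab f x)) ≠ (s : _) := by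
      intro s hsx h'
      apply hδ
      have hu : f (mv (s : GL ι F) v₁) x = 0 := perp_mv_fix hf h2 s.2.1 hsx hv₁
      have hτinv : ((τ : GL ι F))⁻¹ = stv hf w e := stv_inv_two hf h2 w e
      have hsτ : mv ((s * τ : pStab f x) : GL ι F) x = x := by
        rw [Subgroup.coe_mul, mv_mul, hτx, hsx]
      have hD := cFun_coset hf h2 hs h0 hH hx hsτ hsx h' hu
      rwa [mv_inv_mv, Subgroup.coe_mul, _root_.mul_inv_rev, mv_mul, mv_inv_mv, hτinv] at hD
    cases b <;> cases b'
    · rfl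
    · exact (hbad (σ (cls v'.1)) (hσx _) (by simpa [Φ, g, hcl] using h.symm)).elim
    · exact (hbad (σ (cls v.1)) (hσx _) (by simpa [Φ, g, hcl] using h)).elim
    · rfl
  haveI hE : Fintype (pStab f x ⧸ (rq hf hx H).subgroupOf (pStab f x)) := Fintype.ofFinite _
  have hcount : Nat.card (X × Bool) ≤ aIdx hf hx H * Nat.card F := by
    rw [Nat.card_congr (Equiv.sigmaFiberEquiv Φ).symm, Nat.card_sigma,
      show aIdx hf hx H = Nat.card (pStab f x ⧸ (rq hf hx H).subgroupOf (pStab f x)) from rfl,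
      Nat.card_eq_fintype_card (α := _ ⧸ _), ← Finset.card_univ, ← smul_eq_mul, ← Finset.sum_const]
    refine Finset.sum_le_sum fun y _ => ?_
    rcases isEmpty_or_nonempty {p : X × Bool // Φ p = y} with h | ⟨⟨p₀, hp₀⟩⟩
    · simp
    have hk : ∀ p : {p : X × Bool // Φ p = y}, ∃ k : F, p.1.1.1 = cls p₀.1.1 + k • x := fun p => by
      obtain ⟨k, hk⟩ := Submodule.mem_span_singleton.1 (hcls p.1.1.1)
      exact ⟨-k, by rw [← (hkey _ _ (p.2.trans hp₀.symm)).1, neg_smul, hk]; abel⟩
    choose k hk using hk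
    refine Nat.card_le_card_of_injective k fun p p' h => Subtype.ext ?_
    refine Prod.ext (Subtype.ext (by rw [hk p, hk p', h])) ?_
    exact (hkey _ _ (p.2.trans hp₀.symm)).2.trans (hkey _ _ (p'.2.trans hp₀.symm)).2.symm
  have hXc : Nat.card X = Nat.card F * bigM ι F - Nat.card F := by
    rw [← card_perp hf h4 hx, ← card_span_singleton hf hx]
    have h3 := Set.ncard_sdiff (show (Submodule.span F {x} : Set (ι → F)) ⊆ perp hf x from fun v hv => by
      obtain ⟨k, rfl⟩ := Submodule.mem_span_singleton.1 hv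
      exact (perp hf x).smul_mem k (self_mem_perp hf x)) (Set.toFinite _)
    rw [← Nat.card_coe_set_eq, ← Nat.card_coe_set_eq, ← Nat.card_coe_set_eq] at h3
    exact h3
  rw [Nat.card_prod, hXc, Nat.card_eq_fintype_card (α := Bool), Fintype.card_bool] at hcount
  have hlt := Nat.mul_lt_mul_of_pos_right ha (show 0 < Nat.card F from Nat.card_pos)
  rw [Nat.mul_sub, Nat.sub_mul, mul_one] at hlt
  rw [Nat.sub_mul, mul_right_comm, mul_comm (Nat.card F * 2)] at hcount
  rw [show 2 * bigM ι F * Nat.card F = bigM ι F * (Nat.card F * 2) by ring] at hlt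
  omega

/-- The vectors r for which a transvection adds f(·,r)^2 to c. -/
def gSet (H : Subgroup (GL ι F)) (x : ι → F) : Set (ι → F) :=
  {r | f r x = 0 ∧ ∃ e, e ^ 2 * cFun hf H x r + e = 1}

theorem card_gSet_le (hH : H ≤ Isom f) (hx : x ≠ 0) (hs : sIdx hf H x = 1) (h0 : sPar hf H x = ⊥)
    (hom : ∀ v, f v x = 0 → ∀ t : F, cFun hf H x (t • v) = t ^ 2 * cFun hf H x v) :
    Nat.card (gSet hf H x) ≤ aIdx hf hx H * Nat.card F := by
  classical
  choose e he using fun r : gSet hf H x => r.2.2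
  let τ : gSet hf H x → pStab f x := fun r => ⟨stv hf r.1 (e r), stv_fix_pStab hf h2 hx r.2.1 _⟩
  let Φ : gSet hf H x → pStab f x ⧸ (rq hf hx H).subgroupOf (pStab f x) := fun r => (τ r : _)
  have hτ : ∀ r v, f v x = 0 → cFun hf H x (mv (τ r : GL ι F)⁻¹ v) = cFun hf H x v + f v r.1 ^ 2 := by
    intro r v hv
    rw [show (τ r : GL ι F)⁻¹ = stv hf r.1 (e r) from stv_inv_two hf h2 _ _, cFun_stv hf h2 hs h0 hv r.2.1,
      hom _ r.2.1]
    linear_combination f v r.1 ^ 2 * he r
  have hkey : ∀ r r', Φ r = Φ r' → ∃ k : F, r'.1 = r.1 + k • x := by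
    intro r r' h
    refine eq_line_of_perp hf h2 hx fun v hv => sq_inj hf h2 ?_
    have := cFun_coset hf h2 hs h0 hH hx (stv_fix hf _ _ ((f_eq_zero_comm hf).1 r.2.1))
      (stv_fix hf _ _ ((f_eq_zero_comm hf).1 r'.2.1)) h hv
    rw [hτ r v hv, hτ r' v hv] at this
    exact add_left_cancel this
  haveI : Fintype (pStab f x ⧸ (rq hf hx H).subgroupOf (pStab f x)) := Fintype.ofFinite _
  rw [Nat.card_congr (Equiv.sigmaFiberEquiv Φ).symm, Nat.card_sigma,
    show aIdx hf hx H = Nat.card (pStab f x ⧸ (rq hf hx H).subgroupOf (pStab f x)) from rfl,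
    Nat.card_eq_fintype_card (α := _ ⧸ _), ← Finset.card_univ, ← smul_eq_mul, ← Finset.sum_const]
  refine Finset.sum_le_sum fun y _ => ?_
  rcases isEmpty_or_nonempty {r : gSet hf H x // Φ r = y} with h | ⟨⟨r₀, hr₀⟩⟩
  · simp
  choose k hk using fun r : {r : gSet hf H x // Φ r = y} => hkey r₀ r.1 (hr₀.trans r.2.symm)
  exact Nat.card_le_card_of_injective k fun r r' h => Subtype.ext (Subtype.ext (by rw [hk r, hk r', h]))

/-- Lower bound for the index at a semiregular point with whole radical. -/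
theorem bigM_le_aIdx (h4 : 4 ≤ Fintype.card ι) (hq : 4 ≤ Nat.card F) (hH : H ≤ Isom f) (hx : x ≠ 0)
    (hs : sIdx hf H x = 1) (h0 : sPar hf H x = ⊥) : bigM ι F ≤ (Nat.card F - 1) * aIdx hf hx H := by
  classical
  have hM1 := bigM_ge hf h4 (F := F)
  by_cases ha : aIdx hf hx H < 2 * (bigM ι F - 1)
  swap
  · have : (2 : ℕ) ≤ bigM ι F := one_lt_bigM hf h4
    exact le_trans (by omega) ((Nat.mul_le_mul_left _ (not_lt.1 ha)).trans' (Nat.le_mul_of_pos_left _ (by omega)))
  have hom := fun v hv t => homogeneous hf h2 h4 (by omega) hH hx hs h0 ha (v₀ := v) hv t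
  haveI := Fintype.ofFinite F
  let X : Set (ι → F) := {v | f v x = 0 ∧ v ∉ Submodule.span F {x}}
  let E : Set F := {e | e ≠ 0 ∧ e ≠ 1}
  have hsc : ∀ p : X × E, ∃ t : F, t ≠ 0 ∧ ((cFun hf H x p.1.1 = 0 → t = p.2.1) ∧
      (cFun hf H x p.1.1 ≠ 0 → (p.2.1 * t) ^ 2 * cFun hf H x p.1.1 + p.2.1 = 1)) := by
    rintro ⟨⟨v, hv⟩, ⟨e, he0, he1⟩⟩
    by_cases hc : cFun hf H x v = 0
    · exact ⟨e, he0, fun _ => rfl, fun h => absurd hc h⟩
    · obtain ⟨s, hs'⟩ := sq_surj hf h2 ((1 - e) / cFun hf H x v)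
      refine ⟨s / e, div_ne_zero (fun h => he1 ?_) he0, fun h => absurd h hc, fun _ => ?_⟩
      · rw [h, zero_pow two_ne_zero, eq_comm, div_eq_zero_iff, or_iff_left hc, sub_eq_zero] at hs'
        exact hs'.symm
      · rw [mul_div_cancel₀ _ he0, hs', div_mul_cancel₀ _ hc]; ring
  choose t ht0 htz htn using hsc
  have hg : ∀ p : X × E, t p • p.1.1 ∈ gSet hf H x \ (Submodule.span F {x} : Set (ι → F)) := by
    intro p
    refine ⟨⟨by rw [hf.bilinear.smul_left, p.1.2.1, mul_zero], ?_⟩,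
      fun h => p.1.2.2 (((Submodule.span F {x}).smul_mem_iff (ht0 p)).1 h)⟩
    by_cases hc : cFun hf H x p.1.1 = 0
    · exact ⟨1, by rw [hom _ p.1.2.1, hc]; ring⟩
    · exact ⟨p.2.1, by rw [hom _ p.1.2.1]; linear_combination htn p hc⟩
  let Φ : X × E → (gSet hf H x \ (Submodule.span F {x} : Set (ι → F)) : Set (ι → F)) := fun p => ⟨_, hg p⟩
  haveI : Fintype (gSet hf H x \ (Submodule.span F {x} : Set (ι → F)) : Set (ι → F)) := Fintype.ofFinite _
  have hcount : Nat.card (X × E) ≤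
      Nat.card (gSet hf H x \ (Submodule.span F {x} : Set (ι → F)) : Set (ι → F)) * (2 * (Nat.card F - 1)) := by
    rw [Nat.card_congr (Equiv.sigmaFiberEquiv Φ).symm, Nat.card_sigma,
      Nat.card_eq_fintype_card (α := (gSet hf H x \ _ : Set (ι → F))), ← Finset.card_univ, ← smul_eq_mul,
      ← Finset.sum_const]
    refine Finset.sum_le_sum fun y _ => ?_
    have hval : ∀ p : {p : X × E // Φ p = y}, (t p.1)⁻¹ • y.1 = p.1.1.1 := fun p => by
      rw [← congrArg Subtype.val p.2, smul_smul, inv_mul_cancel₀ (ht0 _), one_smul]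
    have hcy : ∀ p : {p : X × E // Φ p = y}, cFun hf H x y.1 = t p.1 ^ 2 * cFun hf H x p.1.1.1 := fun p => by
      rw [← congrArg Subtype.val p.2, hom _ p.1.1.2.1]
    by_cases hy : cFun hf H x y.1 = 0
    · refine le_trans (Nat.card_le_card_of_injective (fun p : {p : X × E // Φ p = y} => p.1.2.1) ?_) ?_
      · intro p p' h
        simp only [] at h
        have hz : ∀ q : {p : X × E // Φ p = y}, t q.1 = q.1.2.1 := fun q => htz _ (by
          have := hcy q
          rw [hy, eq_comm, mul_eq_zero] at this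
          exact this.resolve_left (pow_ne_zero 2 (ht0 _)))
        refine Subtype.ext (Prod.ext (Subtype.ext ?_) (Subtype.ext h))
        rw [← hval p, ← hval p', hz p, hz p', h]
      · omega
    · rcases isEmpty_or_nonempty {p : X × E // Φ p = y} with h | h
      · simp
      obtain ⟨p₀⟩ := h
      have hroot : ∀ p : {p : X × E // Φ p = y}, p.1.2.1 ^ 2 * cFun hf H x y.1 + p.1.2.1 = 1 := fun p => by
        rw [hcy p]
        linear_combination htn p.1 (fun h => hy (by rw [hcy p, h, mul_zero]))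
      refine le_trans (Nat.card_le_card_of_injective (fun p : {p : X × E // Φ p = y} =>
        (decide (p.1.2.1 = p₀.1.2.1), Units.mk0 (t p.1) (ht0 _))) ?_) ?_
      · intro p p' h
        simp only [Prod.mk.injEq, decide_eq_decide, Units.mk0_inj] at h
        refine Subtype.ext (Prod.ext (Subtype.ext ?_) (Subtype.ext ?_))
        · rw [← hval p, ← hval p', h.2]
        · by_cases hp : p.1.2.1 = p₀.1.2.1
          · rw [hp, h.1.1 hp]
          · have hp' : p'.1.2.1 ≠ p₀.1.2.1 := fun hh => hp (h.1.2 hh)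
            have key : ∀ q : {p : X × E // Φ p = y}, q.1.2.1 ≠ p₀.1.2.1 →
                cFun hf H x y.1 * (q.1.2.1 + p₀.1.2.1) + 1 = 0 := fun q hq => by
              refine (mul_eq_zero.1 (?_ : (q.1.2.1 - p₀.1.2.1) * (cFun hf H x y.1 * (q.1.2.1 + p₀.1.2.1) + 1) = 0)).resolve_left
                (sub_ne_zero.2 hq)
              linear_combination hroot q - hroot p₀
            exact mul_left_cancel₀ hy (by linear_combination key p hp - key p' hp')
      · rw [Nat.card_prod, Nat.card_units, Nat.card_eq_fintype_card (α := Bool), Fintype.card_bool]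
  have hsub : (Submodule.span F {x} : Set (ι → F)) ⊆ gSet hf H x := fun v hv => by
    obtain ⟨k, rfl⟩ := Submodule.mem_span_singleton.1 hv
    refine ⟨by rw [hf.bilinear.smul_left, hf.alternating, mul_zero], 1, ?_⟩
    rw [← zero_add (k • x), cFun_line hf h2 hs h0 (f_zero_left hf x), cFun_zero hf h2 hs h0]
    ring
  have hG := card_gSet_le hf h2 hH hx hs h0 hom
  have h3 := Set.ncard_sdiff hsub (Set.toFinite _)
  rw [← Nat.card_coe_set_eq, ← Nat.card_coe_set_eq, ← Nat.card_coe_set_eq] at h3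
  have hXc : Nat.card X = Nat.card F * bigM ι F - Nat.card F := by
    rw [← card_perp hf h4 hx, ← card_span_singleton hf hx]
    have h3 := Set.ncard_sdiff (show (Submodule.span F {x} : Set (ι → F)) ⊆ perp hf x from fun v hv => by
      obtain ⟨k, rfl⟩ := Submodule.mem_span_singleton.1 hv
      exact (perp hf x).smul_mem k (self_mem_perp hf x)) (Set.toFinite _)
    rw [← Nat.card_coe_set_eq, ← Nat.card_coe_set_eq, ← Nat.card_coe_set_eq] at h3
    exact h3
  have hEc : Nat.card E = Nat.card F - 2 := by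
    rw [Nat.card_coe_set_eq, show E = ({0, 1} : Set F)ᶜ by ext; simp [E], Set.ncard_compl,
      Set.ncard_pair zero_ne_one]
  rw [Nat.card_prod, hXc, hEc, h3,
    show Nat.card (Submodule.span F {x} : Set (ι → F)) = Nat.card F from card_span_singleton hf hx] at hcount
  have hGq : Nat.card (gSet hf H x) - Nat.card F ≤ (aIdx hf hx H - 1) * Nat.card F := by
    rw [Nat.sub_mul, one_mul]; omega
  obtain ⟨a, hae⟩ : ∃ a, aIdx hf hx H = a + 1 := ⟨_, (Nat.succ_pred_eq_of_pos (aIdx_pos hf hx H)).symm⟩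
  obtain ⟨k, hk⟩ : ∃ k, Nat.card F = k + 4 := ⟨_, (Nat.sub_add_cancel hq).symm⟩
  obtain ⟨M', hM⟩ : ∃ M', bigM ι F = M' + 1 := ⟨_, (Nat.succ_pred_eq_of_pos (by positivity)).symm⟩
  have h5 := hcount.trans (Nat.mul_le_mul_right _ hGq)
  rw [hae, hk, hM] at h5 ⊢
  simp only [Nat.add_sub_cancel, Nat.mul_sub, Nat.mul_one, show k + 4 - 2 = k + 2 by omega,
    show k + 4 - 1 = k + 3 by omega] at h5 ⊢
  rw [show (k + 4) * (M' + 1) - (k + 4) = (k + 4) * M' by rw [Nat.mul_succ, Nat.add_sub_cancel]] at h5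
  have h6 : M' * (k + 2) ≤ a * (2 * (k + 3)) := by
    rw [mul_assoc, mul_assoc, mul_left_comm a] at h5
    exact Nat.le_of_mul_le_mul_left h5 (by omega)
  nlinarith [Nat.zero_le (M' * k)]

theorem exists_move_line (hs : sIdx hf H x = 1) (hx : x ≠ 0) {u : ι → F} (hu : f u x = 0)
    (hu' : u ∉ Submodule.span F {x}) : ∃ h ∈ H, mv h u = u + x := by
  obtain ⟨v, hv, hv1, -⟩ := exists_common hf hx hu' hu'
  have hv' : f v x = 0 := hv
  have hw : f ((f u v)⁻¹ • v) x = 0 := by rw [hf.bilinear.smul_left, hv', mul_zero]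
  obtain ⟨c, hc⟩ := mem_kPar_of_sIdx hf hs hw
  refine ⟨_, hc, ?_⟩
  rw [mv_qel hf hw, hu, zero_smul, mul_zero, zero_smul, add_zero, add_zero, hf.bilinear.smul_right,
    inv_mul_cancel₀ hv1, one_smul]

theorem exists_perp_pair (h4 : 4 ≤ Fintype.card ι) {u : ι → F} (hx : x ≠ 0) :
    ∃ w, w ≠ 0 ∧ f w x = 0 ∧ f w u = 0 := by
  by_contra h
  push Not at h
  have hinj : Function.Injective fun v : perp hf x => f v.1 u := by
    intro a b hab
    by_contra hne
    exact h (a.1 - b.1) (fun e => hne (Subtype.ext (sub_eq_zero.1 e)))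
      (by rw [f_sub_left hf, (mem_perp hf).1 a.2, (mem_perp hf).1 b.2, sub_self]) (by rw [f_sub_left hf]; exact sub_eq_zero.2 hab)
  have := Nat.card_le_card_of_injective _ hinj
  rw [card_perp hf h4 hx] at this
  have h1 := one_lt_bigM hf h4 (F := F)
  have h3 : 0 < Nat.card F := Nat.card_pos
  have := (Nat.lt_mul_iff_one_lt_right h3).2 h1
  omega

/-- Not every point has whole radical modulo the centre. -/
theorem not_all_sIdx_one (h4 : 4 ≤ Fintype.card ι) (hq : 4 ≤ Nat.card F) (hH : H ≤ Isom f) (hne : H ≠ Isom f)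
    (hi : H.relIndex (Isom f) < Nat.card (ℙ F (ι → F))) :
    ¬ ∀ x, x ≠ 0 → sIdx hf H x = 1 := by
  intro hall
  have step : ∀ x u, x ≠ 0 → f u x = 0 → u ∉ Submodule.span F {x} → ∃ h ∈ H, mv h x = u := by
    intro x u hx hu hu'
    have hu0 : u ≠ 0 := fun e => hu' (by rw [e]; exact Submodule.zero_mem _)
    have hx' : x ∉ Submodule.span F {u} := fun h => by
      obtain ⟨k, rfl⟩ := Submodule.mem_span_singleton.1 h
      refine hu' (Submodule.mem_span_singleton.2 ⟨k⁻¹, ?_⟩)
      rw [smul_smul, inv_mul_cancel₀ fun e => hx (by rw [e, zero_smul]), one_smul]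
    obtain ⟨g, hg, hgu⟩ := exists_move_line hf h2 (hall x hx) hx hu hu'
    obtain ⟨g', hg', hgx⟩ := exists_move_line hf h2 (hall u hu0) hu0 ((f_eq_zero_comm hf).1 hu) hx'
    refine ⟨g⁻¹ * g', H.mul_mem (H.inv_mem hg) hg', ?_⟩
    rw [mv_mul, hgx, add_comm, ← hgu, mv_inv_mv]
  have trans' : ∀ x u, x ≠ 0 → u ≠ 0 → ∃ h ∈ H, mv h x = u := by
    intro x u hx hu
    obtain ⟨w, hw0, hwx, hwu, hw1, hw2⟩ : ∃ w, w ≠ 0 ∧ f w x = 0 ∧ f w u = 0 ∧
        w ∉ Submodule.span F {x} ∧ u ∉ Submodule.span F {w} := by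
      by_cases hp : u ∈ Submodule.span F {x}
      · obtain ⟨w, hw, hw'⟩ := exists_indep_perp hf h4 hx
        obtain ⟨k, rfl⟩ := Submodule.mem_span_singleton.1 hp
        refine ⟨w, fun e => hw' (by rw [e]; exact Submodule.zero_mem _), hw,
          by rw [hf.bilinear.smul_right, hw, mul_zero], hw', fun h => hw' ?_⟩
        obtain ⟨l, hl⟩ := Submodule.mem_span_singleton.1 h
        refine Submodule.mem_span_singleton.2 ⟨l⁻¹ * k, ?_⟩
        rw [mul_smul, ← hl, smul_smul, inv_mul_cancel₀ fun e => hu (by rw [← hl, e, zero_smul]), one_smul]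
      · by_cases hxu : f u x = 0
        · -- u itself is orthogonal to x
          obtain ⟨g, hg, hgx⟩ := step x u hx hxu hp
          obtain ⟨w, hw, hw'⟩ := exists_avoid₂ hf (W := perp hf x ⊓ perp hf u)
            (U₁ := Submodule.span F {x}) (U₂ := Submodule.span F {u})
            (fun h => hp (h ⟨hxu, self_mem_perp hf u⟩))
            (fun h => by
              obtain ⟨k, hk⟩ := Submodule.mem_span_singleton.1
                (h ⟨self_mem_perp hf x, (f_eq_zero_comm hf).1 hxu⟩)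
              refine hp (Submodule.mem_span_singleton.2 ⟨k⁻¹, ?_⟩)
              rw [← hk, smul_smul, inv_mul_cancel₀ fun e => hx (by rw [← hk, e, zero_smul]), one_smul])
          refine ⟨w, fun e => hw'.1 (by rw [e]; exact Submodule.zero_mem _), hw.1, hw.2, hw'.1, fun h => hw'.2 ?_⟩
          obtain ⟨l, hl⟩ := Submodule.mem_span_singleton.1 h
          refine Submodule.mem_span_singleton.2 ⟨l⁻¹, ?_⟩
          rw [← hl, smul_smul, inv_mul_cancel₀ fun e => hu (by rw [← hl, e, zero_smul]), one_smul]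
        · obtain ⟨w, hw0, hwx, hwu⟩ := exists_perp_pair hf h2 h4 (u := u) hx
          refine ⟨w, hw0, hwx, hwu, fun h => ?_, fun h => ?_⟩
          · obtain ⟨k, rfl⟩ := Submodule.mem_span_singleton.1 h
            rw [hf.bilinear.smul_left] at hwu
            rcases mul_eq_zero.1 hwu with e | e
            · exact hw0 (by rw [e, zero_smul])
            · exact hxu ((f_eq_zero_comm hf).1 e)
          · obtain ⟨k, rfl⟩ := Submodule.mem_span_singleton.1 h
            exact hxu (by rw [hf.bilinear.smul_left, hwx, mul_zero])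
    obtain ⟨g, hg, hgx⟩ := step x w hx hwx hw1
    obtain ⟨g', hg', hgw⟩ := step w u hw0 ((f_eq_zero_comm hf).1 hwu) hw2
    exact ⟨g' * g, H.mul_mem hg' hg, by rw [mv_mul, hgx, hgw]⟩
  have hbot : ∀ x, x ≠ 0 → sPar hf H x = ⊥ := by
    intro x hx
    rw [AddSubgroup.eq_bot_iff_forall]
    intro a ha
    by_contra ha0
    refine absurd (lines_le_of_ctr hf h4 (by omega) hH hne hx fun b => ?_) (not_le.2 hi)
    obtain ⟨s, hs⟩ := sq_surj hf h2 (b / a)
    by_cases hs0 : s = 0
    · rw [hs0, zero_pow two_ne_zero, eq_comm, div_eq_zero_iff, or_iff_left ha0] at hs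
      rw [hs, stv_zero]; exact H.one_mem
    · obtain ⟨g, hg, hgx⟩ := trans' x (s • x) hx (smul_ne_zero hs0 hx)
      have := H.mul_mem (H.mul_mem hg ((mem_sPar hf).1 ha)) (H.inv_mem hg)
      rw [stv_conj hf one_ne_zero (fun a b => by rw [one_mul]; exact hH hg a b), div_one, hgx, stv_smul] at this
      rwa [← pow_two, hs, div_mul_cancel₀ _ ha0] at this
  have homx : ∀ x, x ≠ 0 → ∀ v, f v x = 0 → ∀ t : F, cFun hf H x (t • v) = t ^ 2 * cFun hf H x v := by
    intro x hx v hv t
    refine homogeneous hf h2 h4 (by omega) hH hx (hall x hx) (hbot x hx) ?_ hv t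
    have h := omega_le hf hx hH
    rw [omega_eq hf h4 hx, hall x hx, card_sPar_of_bot hf (hbot x hx), mul_one] at h
    have hN := card_lines hf h4 (F := F)
    have hM := bigM_ge hf h4 (F := F)
    obtain ⟨k, hk⟩ : ∃ k, Nat.card F = k + 4 := ⟨_, (Nat.sub_add_cancel hq).symm⟩
    by_contra hcon
    have h1 := Nat.mul_le_mul_right (Nat.card F) (not_lt.1 hcon)
    have h3 := Nat.mul_le_mul_right (Nat.card F - 1) (h1.trans h)
    have h5 := Nat.mul_lt_mul_of_pos_right hi (show 0 < Nat.card F - 1 by omega)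
    rw [hk, show k + 4 - 1 = k + 3 by omega] at h3 h5 hN
    rw [hk] at hM
    obtain ⟨M', hM'⟩ : ∃ M', bigM ι F = M' + 1 := ⟨_, (Nat.succ_pred_eq_of_pos (by positivity)).symm⟩
    rw [hM', Nat.add_sub_cancel] at h3
    rw [hM'] at hM hN
    nlinarith [Nat.mul_le_mul_right ((k + 4) * (k + 2)) hM, Nat.mul_le_mul_left ((k + 4) ^ 2)
      (show 3 ≤ (k + 4) * (k + 2) by nlinarith), Nat.mul_le_mul_left (k + 4) (show k + 2 ≤ k + 4 by omega)]
  -- all values of c vanish
  have hzero : ∀ x u, x ≠ 0 → f u x = 0 → u ∉ Submodule.span F {x} → cFun hf H x u = 0 := by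
    intro x u hx hu hu'
    have hu0 : u ≠ 0 := fun e => hu' (by rw [e]; exact Submodule.zero_mem _)
    have hxu : f x u = 0 := (f_eq_zero_comm hf).1 hu
    obtain ⟨al, hal⟩ := sq_surj hf h2 (cFun hf H x u)
    obtain ⟨be, hbe⟩ := sq_surj hf h2 (cFun hf H u x)
    by_contra hne'
    have hal0 : al ≠ 0 := fun e => hne' (by rw [← hal, e]; ring)
    obtain ⟨d, d', hd0, hdd⟩ : ∃ d d' : F, d ≠ 0 ∧ d * al * (d' * be) = d + d' := by
      by_cases hk : al * be = 0
      · exact ⟨1, 1, one_ne_zero, by rw [add_self_char hf h2]; linear_combination hk⟩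
      · classical
        haveI := Fintype.ofFinite F
        obtain ⟨d, hd⟩ := Finset.exists_mem_notMem_of_card_lt_card (s := ({0, (al * be)⁻¹} : Finset F))
          (t := Finset.univ) (lt_of_le_of_lt Finset.card_le_two (by
            rw [Finset.card_univ, ← Nat.card_eq_fintype_card]; omega))
        simp only [Finset.mem_insert, Finset.mem_singleton, not_or] at hd
        have hk1 : al * be * d - 1 ≠ 0 := fun e => hd.2.2 (eq_inv_of_mul_eq_one_right (sub_eq_zero.1 e))
        refine ⟨d, d * (al * be * d - 1)⁻¹, hd.2.1, ?_⟩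
        linear_combination d * mul_inv_cancel₀ hk1
    have hA := cFun_mem hf h2 (hall x hx) (v := d • u) (by rw [hf.bilinear.smul_left, hu, mul_zero])
    have hB := cFun_mem hf h2 (hall u hu0) (v := d' • x) (by rw [hf.bilinear.smul_left, hxu, mul_zero])
    rw [homx x hx u hu] at hA
    rw [homx u hu0 x hxu] at hB
    have hmem := H.mul_mem hA hB
    rw [qel_mul_eq_stv hf h2 hu (al := d * al) (be := d' * be) (by rw [← hal]; ring) (by rw [← hbe]; ring) hdd] at hmem
    have hv0 : (d * al) • x + (d' * be) • u ≠ 0 := by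
      intro e
      by_cases hbe' : d' * be = 0
      · rw [hbe', zero_smul, add_zero] at e
        exact smul_ne_zero (mul_ne_zero hd0 hal0) hx e
      · refine hu' (Submodule.mem_span_singleton.2 ⟨-((d' * be)⁻¹ * (d * al)), ?_⟩)
        have := congrArg ((d' * be)⁻¹ • ·) e
        simp only [smul_add, smul_smul, inv_mul_cancel₀ hbe', one_smul, smul_zero] at this
        rw [neg_smul]
        exact neg_eq_of_add_eq_zero_right this
    have := (hbot _ hv0).le ((mem_sPar hf).2 hmem)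
    exact one_ne_zero (AddSubgroup.mem_bot.1 this)
  obtain ⟨i₀⟩ : Nonempty ι := Fintype.card_pos_iff.1 (by omega)
  have hx : (Pi.single i₀ 1 : ι → F) ≠ 0 := by simp
  obtain ⟨u, hu, hu'⟩ := exists_indep_perp hf h4 hx
  obtain ⟨z, hz, huz, -⟩ := exists_common hf hx hu' hu'
  have hz' : z ∉ Submodule.span F {(Pi.single i₀ 1 : ι → F)} := fun h => by
    obtain ⟨k, rfl⟩ := Submodule.mem_span_singleton.1 h
    exact huz (by rw [hf.bilinear.smul_right, hu, mul_zero])
  have hzu : u + z ∉ Submodule.span F {(Pi.single i₀ 1 : ι → F)} := fun h => by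
    obtain ⟨k, hk⟩ := Submodule.mem_span_singleton.1 h
    have := congrArg (f u) hk
    rw [hf.bilinear.smul_right, hu, mul_zero, hf.bilinear.add_right, hf.alternating, zero_add] at this
    exact huz this.symm
  have := cFun_add hf h2 (hall _ hx) (hbot _ hx) hu hz
  rw [hzero _ _ hx (f_add_line hf hu hz) hzu, hzero _ _ hx hu hu', hzero _ _ hx hz hz', zero_add, zero_add] at this
  exact huz (by rw [f_symm hf h2]; exact this.symm)

end Cfsg.Agent.SpMin
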