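/-
The torus of a hyperbolic pair, double orthogonals, and prime power arithmetic.
-/
import Cfsg.Agent.Lib.SpMinIndex.Closure

set_option autoImplicit false

namespace Cfsg.Agent.SpMin

open Matrix Cfsg.Agent.Transvec

variable {ι : Type} [Fintype ι] [DecidableEq ι] {F : Type*} [Field F] [Finite F]
variable {f : (ι → F) → (ι → F) → F} (hf : Geo.IsSymplecticForm f)
include hf

omit [Finite F] in
/-- The map scaling x by a and y by b, and fixing the orthogonal of the pair. -/
def torLin (x y : ι → F) (a b : F) : (ι → F) →ₗ[F] (ι → F) :=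
  LinearMap.id + ((a - 1) • formR hf y).smulRight x + (-(b - 1) • formR hf x).smulRight y

theorem torLin_apply (x y : ι → F) (a b : F) (z : ι → F) :
    torLin hf x y a b z = z + ((a - 1) * f z y) • x + (-(b - 1) * f z x) • y := rfl

theorem torLin_comp {x y : ι → F} (hxy : f x y = 1) (a b a' b' : F) (z : ι → F) :
    torLin hf x y a b (torLin hf x y a' b' z) = torLin hf x y (a * a') (b * b') z := by
  have hyx : f y x = -1 := by rw [hf.skew, hxy]
  simp only [torLin_apply, hf.bilinear.add_left, hf.bilinear.smul_left, hf.alternating, hxy, hyx]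
  match_scalars <;> ring

open scoped Classical in
/-- The torus element of a hyperbolic pair. -/
noncomputable def tor (x y : ι → F) (a : F) : GL ι F :=
  if h : f x y = 1 ∧ a ≠ 0 then
    { val := LinearMap.toMatrix' (torLin hf x y a a⁻¹)
      inv := LinearMap.toMatrix' (torLin hf x y a⁻¹ a)
      val_inv := by
        rw [← LinearMap.toMatrix'_comp, ← LinearMap.toMatrix'_id]
        congr 1
        refine LinearMap.ext fun z => ?_
        rw [LinearMap.comp_apply, torLin_comp hf h.1, mul_inv_cancel₀ h.2, inv_mul_cancel₀ h.2]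
        simp [torLin_apply]
      inv_val := by
        rw [← LinearMap.toMatrix'_comp, ← LinearMap.toMatrix'_id]
        congr 1
        refine LinearMap.ext fun z => ?_
        rw [LinearMap.comp_apply, torLin_comp hf h.1, mul_inv_cancel₀ h.2, inv_mul_cancel₀ h.2]
        simp [torLin_apply] }
  else 1

variable {x y : ι → F} (hxy : f x y = 1) {a : F} (ha : a ≠ 0)
include hxy ha

theorem mv_tor (z : ι → F) :
    mv (tor hf x y a) z = z + ((a - 1) * f z y) • x + (-(a⁻¹ - 1) * f z x) • y := by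
  simp only [tor, dif_pos (And.intro hxy ha), mv, LinearMap.toMatrix'_mulVec, torLin_apply]

theorem tor_left : mv (tor hf x y a) x = a • x := by
  rw [mv_tor hf hxy ha, hxy, hf.alternating]; module

theorem tor_fix {v : ι → F} (h1 : f v x = 0) (h2 : f v y = 0) : mv (tor hf x y a) v = v := by
  rw [mv_tor hf hxy ha, h1, h2]; simp

theorem tor_mem : tor hf x y a ∈ Isom f := by
  show ∀ u v, f (mv (tor hf x y a) u) (mv (tor hf x y a) v) = f u v
  intro u v
  have hyx : f y x = -1 := by rw [hf.skew, hxy]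
  simp only [mv_tor hf hxy ha, hf.bilinear.add_left, hf.bilinear.add_right, hf.bilinear.smul_left,
    hf.bilinear.smul_right, hf.alternating, hxy, hyx, hf.skew x v, hf.skew y v]
  field_simp
  ring

theorem tor_comm {g : GL ι F} (hg : g ∈ Isom f) (hgx : mv g x = x) (hgy : mv g y = y) :
    g * tor hf x y a = tor hf x y a * g := by
  refine ext_mv fun z => ?_
  have e1 : f (mv g z) x = f z x := by
    have h : f (mv g z) (mv g x) = f z x := hg z x
    rwa [hgx] at h
  have e2 : f (mv g z) y = f z y := by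
    have h : f (mv g z) (mv g y) = f z y := hg z y
    rwa [hgy] at h
  rw [mv_mul, mv_mul, mv_tor hf hxy ha, mv_tor hf hxy ha, mv_add, mv_add, mv_smul, mv_smul, hgx, hgy, e1, e2]

theorem tor_conj_qel {v : ι → F} (hv : f v x = 0) (hvy : f v y = 0) (c : F) :
    tor hf x y a * qel hf x v c * (tor hf x y a)⁻¹ = qel hf x (a • v) (a ^ 2 * c) := by
  rw [qel_conj hf (tor_mem hf hxy ha) hv, tor_left hf hxy ha, tor_fix hf hxy ha hv hvy, qel_scale hf hv]

omit hxy ha

theorem exists_qel_normal {x y : ι → F} (hxy : f x y = 1) {u : GL ι F} (hu : u ∈ radQ hf x) :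
    ∃ v c, f v x = 0 ∧ f v y = 0 ∧ u = qel hf x v c := by
  obtain ⟨v, c, hv, rfl⟩ := hu
  refine ⟨v + (-f v y) • x, c + 2 * f v y, ?_, ?_, ?_⟩
  · rw [hf.bilinear.add_left, hv, hf.bilinear.smul_left, hf.alternating, mul_zero, add_zero]
  · rw [hf.bilinear.add_left, hf.bilinear.smul_left, hxy]; ring
  · rw [qel_shift hf hv]; congr 1; ring

theorem orth_orth (h4 : 4 ≤ Fintype.card ι) (U : Submodule F (ι → F)) : orth hf (orth hf U) = U := by
  have hle : U ≤ orth hf (orth hf U) := fun u hu v hv => (f_eq_zero_comm hf).1 (hv u hu)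
  refine (SetLike.coe_injective ?_).symm
  refine Set.eq_of_subset_of_ncard_le hle ?_ (Set.toFinite _)
  rw [← Nat.card_coe_set_eq, ← Nat.card_coe_set_eq]
  exact (Nat.eq_of_mul_eq_mul_right Nat.card_pos
    ((card_orth hf h4 (orth hf U)).trans ((card_orth hf h4 U).symm.trans (mul_comm _ _)))).le

theorem mem_orth_pair {x r v : ι → F} : v ∈ orth hf (Submodule.span F {x, r}) ↔ f v x = 0 ∧ f v r = 0 := by
  refine ⟨fun h => ⟨(f_eq_zero_comm hf).1 (h x (Submodule.subset_span (Set.mem_insert _ _))),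
    (f_eq_zero_comm hf).1 (h r (Submodule.subset_span (Set.mem_insert_of_mem _ rfl)))⟩, fun h u hu => ?_⟩
  obtain ⟨s, t, rfl⟩ := Submodule.mem_span_pair.1 hu
  rw [hf.bilinear.add_left, hf.bilinear.smul_left, hf.bilinear.smul_left, (f_eq_zero_comm hf).1 h.1,
    (f_eq_zero_comm hf).1 h.2, mul_zero, mul_zero, add_zero]

theorem card_span_pair {x r : ι → F} (hx : x ≠ 0) (hr : r ∉ Submodule.span F {x}) :
    Nat.card (Submodule.span F {x, r}) = Nat.card F ^ 2 := by
  rw [sq, ← Nat.card_prod]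
  refine (Nat.card_eq_of_bijective (fun p : F × F => (⟨p.1 • x + p.2 • r,
    Submodule.mem_span_pair.2 ⟨p.1, p.2, rfl⟩⟩ : Submodule.span F {x, r})) ⟨fun p p' h => ?_, ?_⟩).symm
  · have h' := congrArg Subtype.val h
    simp only [] at h'
    have h2 : p.2 = p'.2 := by
      by_contra hne
      refine hr (Submodule.mem_span_singleton.2 ⟨(p.2 - p'.2)⁻¹ * (p'.1 - p.1), ?_⟩)
      rw [mul_smul, show (p'.1 - p.1) • x = (p.2 - p'.2) • r by
        linear_combination (norm := module) -h', smul_smul, inv_mul_cancel₀ (sub_ne_zero.2 hne), one_smul]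
    rw [h2, add_left_inj] at h'
    exact Prod.ext (smul_left_injective _ hx h') h2
  · rintro ⟨z, hz⟩
    obtain ⟨s, t, hst⟩ := Submodule.mem_span_pair.1 hz
    exact ⟨(s, t), Subtype.ext hst⟩

theorem exists_pair_perp {x r : ι → F} (hx : x ≠ 0) (hr : r ∉ Submodule.span F {x}) (hrx : f r x = 0) :
    ∃ y, f x y = 1 ∧ f r y = 0 := by
  obtain ⟨y, hy⟩ := exists_pair hf hx
  obtain ⟨z, hz, hrz, -⟩ := exists_common hf hx hr hr
  refine ⟨y + (-(f r y) / f r z) • z, ?_, ?_⟩
  · rw [hf.bilinear.add_right, hy, hf.bilinear.smul_right, (f_eq_zero_comm hf).1 hz, mul_zero, add_zero]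
  · rw [hf.bilinear.add_right, hf.bilinear.smul_right, div_mul_cancel₀ _ hrz, add_neg_cancel]

theorem dvd_of_idx (h4 : 4 ≤ Fintype.card ι) (H : Subgroup (GL ι F)) (hx : x ≠ 0) :
    (sIdx hf H x ≤ bigM ι F → sIdx hf H x ∣ bigM ι F) ∧
      (sIdx hf H x < Nat.card F → 2 * sIdx hf H x ≤ Nat.card F) := by
  haveI := Fintype.ofFinite F
  obtain ⟨n, hp, hn⟩ := FiniteField.card F (ringChar F)
  rw [← Nat.card_eq_fintype_card] at hn
  have hs : sIdx hf H x ∣ Nat.card F * bigM ι F := ⟨_, (mul_comm _ _).trans (card_kPar_mul hf h4 hx H) |>.symm⟩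
  rw [bigM, hn, ← pow_mul, ← pow_add] at hs
  obtain ⟨j, -, hj⟩ := (Nat.dvd_prime_pow hp).1 hs
  refine ⟨fun hle => ?_, fun hlt => ?_⟩
  · rw [hj, bigM, hn, ← pow_mul] at hle ⊢
    exact pow_dvd_pow _ ((Nat.pow_le_pow_iff_right hp.one_lt).1 hle)
  · rw [hj, hn] at hlt ⊢
    have hlt' := (Nat.pow_lt_pow_iff_right hp.one_lt).1 hlt
    calc 2 * ringChar F ^ j ≤ ringChar F * ringChar F ^ j := Nat.mul_le_mul_right _ hp.two_le
      _ = ringChar F ^ (j + 1) := (pow_succ' _ _).symm
      _ ≤ _ := Nat.pow_le_pow_right hp.pos hlt'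

end Cfsg.Agent.SpMin
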