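/-
A semiregular point with proper radical part is impossible.
-/
import Cfsg.Agent.Lib.SpMinIndex.Torus
import Cfsg.Agent.Lib.SpMinIndex.SemiOne

set_option autoImplicit false

namespace Cfsg.Agent.SpMin

open Matrix Cfsg.Agent.Transvec
open scoped LinearAlgebra.Projectivization

variable {ι : Type} [Fintype ι] [DecidableEq ι] {F : Type*} [Field F] [Finite F]
variable {f : (ι → F) → (ι → F) → F} (hf : Geo.IsSymplecticForm f)
include hf

/-- The numbers at a point, when the index is less than the number of points. -/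
theorem omega_bound (h4 : 4 ≤ Fintype.card ι) {H : Subgroup (GL ι F)} (hH : H ≤ Isom f) {x : ι → F} (hx : x ≠ 0)
    (hi : H.relIndex (Isom f) < Nat.card (ℙ F (ι → F))) :
    aIdx hf hx H * (zIdx hf H x * sIdx hf H x) * (Nat.card F - 1) + 1 < Nat.card F ^ 2 * bigM ι F := by
  rw [← card_lines hf h4, ← omega_eq hf h4 hx]
  have : 0 < Nat.card F - 1 := by have := Finite.one_lt_card (α := F); omega
  exact Nat.add_lt_add_right (Nat.mul_lt_mul_of_pos_right (lt_of_le_of_lt (omega_le hf hx hH) hi) this) 1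

theorem stv_back {H : Subgroup (GL ι F)} (hH : H ≤ Isom f) {h : GL ι F} (hh : h ∈ H) {x y : ι → F} {t : F}
    (ht : t ≠ 0) (hxy : mv h x = t • y) {c : F} (hc : stv hf y c ∈ H) : stv hf x (t⁻¹ * t⁻¹ * c) ∈ H := by
  have h1 := H.mul_mem (H.mul_mem (H.inv_mem hh) hc) (H.inv_mem (H.inv_mem hh))
  rw [stv_conj hf one_ne_zero (fun a b => by rw [one_mul]; exact hH (H.inv_mem hh) a b), div_one] at h1
  have : mv h⁻¹ y = t⁻¹ • x := by
    rw [eq_comm, ← mv_inv_mv h (t⁻¹ • x), mv_smul h, hxy, smul_smul, inv_mul_cancel₀ ht, one_smul]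
  rwa [this, stv_smul] at h1

/-- All points lie in one orbit, and are semiregular. -/
theorem all_semiregular (h4 : 4 ≤ Fintype.card ι) (hq : 3 ≤ Nat.card F) {H : Subgroup (GL ι F)}
    (hH : H ≤ Isom f) (hne : H ≠ Isom f) (hi : H.relIndex (Isom f) < Nat.card (ℙ F (ι → F)))
    {x : ι → F} (hx : x ≠ 0) (h0 : sPar hf H x = ⊥) (hs : 2 ≤ sIdx hf H x) :
    ∀ y, y ≠ 0 → sPar hf H y = ⊥ := by
  intro y hy
  by_contra hy0
  have hne' : ¬ ∃ h ∈ H, ∃ t : F, t ≠ 0 ∧ mv h x = t • y := by
    rintro ⟨h, hh, t, ht, hxy⟩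
    refine hy0 ((AddSubgroup.eq_bot_iff_forall _).2 fun c hc => ?_)
    have h1 : t⁻¹ * t⁻¹ * c ∈ sPar hf H x := stv_back hf hH hh ht hxy hc
    rw [h0, AddSubgroup.mem_bot, mul_eq_zero] at h1
    exact h1.resolve_left (mul_ne_zero (inv_ne_zero ht) (inv_ne_zero ht))
  have hzy : 2 ≤ zIdx hf H y := by
    have h1 := zIdx_pos hf H y
    by_contra h
    exact absurd (lines_le_of_ctr hf h4 hq hH hne hy (ctr_of_zIdx hf (by omega))) (not_le.2 hi)
  have hx1 : Nat.card F * bigM ι F ≤ H.relIndex (pStab f x) := by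
    have := zM_le_omega hf h4 hx H hs
    rwa [card_sPar_of_bot hf h0] at this
  have hN := card_lines hf h4 (F := F)
  have hM := bigM_ge hf h4 (F := F)
  obtain ⟨k, hk⟩ : ∃ k, Nat.card F = k + 3 := ⟨_, (Nat.sub_add_cancel hq).symm⟩
  rw [hk, show k + 3 - 1 = k + 2 by omega] at hN
  rcases (Nat.lt_or_ge 1 (sIdx hf H y)) with hsy | hsy
  · have h1 := omega_add hf hx hy hH hne'
    have h2 := (Nat.mul_le_mul_right _ hzy).trans (zM_le_omega hf h4 hy H hsy)
    rw [hk] at hx1
    nlinarith [Nat.mul_le_mul_right (k + 2) (h1.trans_lt hi).le, Nat.mul_le_mul_right (k + 2) hx1,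
      Nat.mul_le_mul_right (k + 2) h2]
  · have hsy' : sIdx hf H y = 1 := le_antisymm hsy (sIdx_pos hf h4 hy H)
    have h2 : (2 : F) = 0 := by
      by_contra h2
      have := zIdx_one_of_odd hf h4 h2 hy hsy'
      omega
    -- many images of y
    have hcard : 2 * bigM ι F ≤ Nat.card (lineOrbit hy H) := by
      obtain ⟨h, hh, hhy⟩ := exists_nonperp_orbit hf h4 hy hH hi
      set y' := mv h y with hy'
      have hy'y : f y' y ≠ 0 := fun e => hhy ((f_eq_zero_comm hf).1 e)
      let φ : (H ⊓ radQ hf y : Subgroup (GL ι F)) → lineOrbit hy H := fun g =>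
        ⟨linePt hy ((g : GL ι F) * h), ⟨⟨_, H.mul_mem g.2.1 hh⟩, rfl⟩⟩
      have hinj : Function.Injective φ := by
        intro a b hab
        obtain ⟨t, ht, he⟩ := (linePt_eq_iff hf hy).1 (congrArg Subtype.val hab)
        rw [_root_.mul_inv_rev, mv_mul, mv_mul, mv_mul, ← hy', ← mv_mul _ (b : GL ι F)] at he
        set u := (a : GL ι F)⁻¹ * b with hu
        have hu' : u ∈ radQ hf y := mul_mem (inv_mem a.2.2) b.2.2
        have he' : mv u y' = t • y' := by
          have := congrArg (mv h) he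
          rwa [mv_mv_inv, mv_smul] at this
        obtain ⟨v, c, hv, huv⟩ := hu'
        rw [huv, mv_qel hf hv] at he'
        have ht1 : t = 1 := by
          have h3 := congrArg (fun z => f z y) he'
          simp only [hf.bilinear.add_left, hf.bilinear.smul_left, hv, hf.alternating, mul_zero, add_zero] at h3
          exact (mul_right_cancel₀ hy'y ((one_mul _).trans h3)).symm
        rw [ht1, one_smul] at he'
        obtain ⟨e, hvy, h3⟩ : ∃ e : F, v = e • y ∧ e * f y' y = -(f y' v + c * f y' y) := by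
          refine ⟨(f y' y)⁻¹ * -(f y' v + c * f y' y), ?_, by
            rw [mul_comm _ (f y' y), ← mul_assoc, mul_inv_cancel₀ hy'y, one_mul]⟩
          rw [mul_smul, eq_inv_smul_iff₀ hy'y]
          linear_combination (norm := module) he'
        have hvy' : f y' v = e * f y' y := by rw [hvy, hf.bilinear.smul_right]
        have hc : c + 2 * e = 0 :=
          (mul_eq_zero.1 (by linear_combination h3 - hvy' : (c + 2 * e) * f y' y = 0)).resolve_right hy'y
        rw [hvy, ← zero_add (e • y), qel_shift hf (f_zero_left hf y), hc, qel_one] at huv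
        exact Subtype.ext (inv_mul_eq_one.1 huv)
      have h1 := Nat.card_le_card_of_injective φ hinj
      have h3 := card_inf_radQ hf hy H
      have h5 := card_kPar_mul hf h4 hy H
      rw [hsy', mul_one] at h5
      rw [h5] at h3
      have hS : 2 ≤ Nat.card (sPar hf H y) := by
        by_contra h
        exact hy0 (AddSubgroup.eq_bot_of_card_eq _ (by have := Nat.card_pos (α := sPar hf H y); omega))
      have h6 : Nat.card (H ⊓ radQ hf y : Subgroup (GL ι F)) = bigM ι F * Nat.card (sPar hf H y) :=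
        Nat.eq_of_mul_eq_mul_right (Nat.card_pos (α := F)) (by rw [h3]; ring)
      rw [h6] at h1
      calc 2 * bigM ι F ≤ bigM ι F * Nat.card (sPar hf H y) := by rw [mul_comm]; exact Nat.mul_le_mul_left _ hS
        _ ≤ _ := h1
    have h1 := orbit_add hf hx hy hne'
    have h3 := omega_lt hf hx hH hi
    rw [hk] at hx1 hM
    nlinarith [Nat.mul_le_mul_right (k + 2) h1, Nat.mul_le_mul_right (k + 2) (hx1.trans_lt h3).le,
      Nat.mul_le_mul_right (k + 2) hcard]

set_option maxHeartbeats 2000000 in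
/-- A point with trivial centre and proper radical part does not exist. -/
theorem semi_false (h4 : 4 ≤ Fintype.card ι) (hq : 3 ≤ Nat.card F) (hexc : 4 ≤ Nat.card F ∨ 6 ≤ Fintype.card ι)
    {H : Subgroup (GL ι F)} (hH : H ≤ Isom f) (hne : H ≠ Isom f)
    (hi : H.relIndex (Isom f) < Nat.card (ℙ F (ι → F)))
    {x : ι → F} (hx : x ≠ 0) (h0 : sPar hf H x = ⊥) (hs : 2 ≤ sIdx hf H x) : False := by
  classical
  haveI := Fintype.ofFinite F
  have hall := all_semiregular hf h4 hq hH hne hi hx h0 hs
  have hb0 := omega_bound hf h4 hH hx hi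
  rw [card_sPar_of_bot hf h0] at hb0
  have hA := card_aSet hf h4 hx H
  have hMq := bigM_ge hf h4 (F := F)
  obtain ⟨r, hrA, hr'⟩ : ∃ r ∈ aSet hf H x, r ∉ Submodule.span F {x} := by
    by_contra h
    push Not at h
    have := Set.ncard_le_ncard (show (aSet hf H x : Set (ι → F)) ⊆ Submodule.span F {x} from h) (Set.toFinite _)
    rw [← Nat.card_coe_set_eq, ← Nat.card_coe_set_eq] at this
    change Nat.card (aSet hf H x) ≤ Nat.card (Submodule.span F {x}) at this
    rw [hA, card_span_singleton hf hx] at this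
    have hq0 : 0 < Nat.card F := Nat.card_pos
    nlinarith [Nat.mul_le_mul_left (Nat.card F) hs]
  have hr : f r x = 0 := aSet_le_perp hf hrA
  have hcnt := count_eq hf h4 hx H hr hr'
  have ha := aIdx_pos hf hx H
  set s := sIdx hf H x with hsdef
  set q := Nat.card F with hqdef
  set M := bigM ι F with hMdef
  set A := aIdx hf hx H with hAdef
  have hb1 : Nat.card (bSet hf hx H r) = 1 := by
    have hpos : 0 < Nat.card (bSet hf hx H r) := by
      rcases Nat.eq_zero_or_pos (Nat.card (bSet hf hx H r)) with h | h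
      · rw [h, mul_zero, Nat.mul_eq_zero] at hcnt
        omega
      · exact h
    by_contra hb
    have h1 : 2 * (M - 1) + A ≤ A * s := by
      have : (M - 1) * 2 ≤ A * (s - 1) := hcnt ▸ Nat.mul_le_mul_left _ (by omega)
      rw [Nat.mul_sub, mul_one] at this
      have : A ≤ A * s := Nat.le_mul_of_pos_right _ (by omega)
      omega
    obtain ⟨k, hk⟩ : ∃ k, q = k + 3 := ⟨_, (Nat.sub_add_cancel hq).symm⟩
    obtain ⟨M', hM'⟩ : ∃ M', M = M' + 1 := ⟨_, (Nat.succ_pred_eq_of_pos (by positivity)).symm⟩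
    rw [hk, hM', show k + 3 - 1 = k + 2 by omega] at hb0
    rw [hM', Nat.add_sub_cancel] at h1
    rw [hk, hM'] at hMq
    nlinarith [Nat.mul_le_mul_left ((k + 3) * (k + 2)) h1, Nat.mul_le_mul_left ((k + 3) * (k + 1)) hMq,
      Nat.mul_le_mul_left ((k + 3) * (k + 2)) ha, Nat.mul_le_mul_left ((k + 3) ^ 2) (show 2 ≤ (k + 3) * (k + 1) by nlinarith)]
  have hmul : A * s = M - 1 + A := by
    rw [hb1, mul_one, Nat.mul_sub, mul_one] at hcnt
    have : A ≤ A * s := Nat.le_mul_of_pos_right _ (by omega)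
    omega
  have hasub : (q - 1) * (A - 1) < M := by
    rw [show A * (q * s) = q * (A * s) by ring, hmul] at hb0
    obtain ⟨k, hk⟩ : ∃ k, q = k + 3 := ⟨_, (Nat.sub_add_cancel hq).symm⟩
    obtain ⟨M', hM'⟩ : ∃ M', M = M' + 1 := ⟨_, (Nat.succ_pred_eq_of_pos (by positivity)).symm⟩
    obtain ⟨A', hA'⟩ : ∃ A', A = A' + 1 := ⟨_, (Nat.succ_pred_eq_of_pos ha).symm⟩
    rw [hk, hM', hA', show k + 3 - 1 = k + 2 by omega, Nat.add_sub_cancel] at hb0
    rw [hk, hM', hA', show k + 3 - 1 = k + 2 by omega, Nat.add_sub_cancel]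
    nlinarith
  -- elements fixing the line of r modulo the dual lie in (H ∩ P) Q
  have hsub : ∀ g : pStab f x, r ∈ aSet hf (cjg (g : GL ι F) H) x → (g : GL ι F) ∈ rq hf hx H := by
    intro g hg
    have h1 : ((1 : pStab f x) : pStab f x ⧸ (rq hf hx H).subgroupOf (pStab f x)) ∈ bSet hf hx H r :=
      (mk_mem_bSet hf hx 1).2 (by rw [Subgroup.coe_one, cjg_one hf]; exact hrA)
    have h2 := (mk_mem_bSet hf hx g).2 hg
    obtain ⟨hsub', -⟩ := Nat.card_eq_one_iff_unique.1 hb1
    have h3 := QuotientGroup.eq.1 (congrArg Subtype.val (@Subsingleton.elim _ hsub' ⟨_, h1⟩ ⟨_, h2⟩))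
    rwa [inv_one, one_mul, Subgroup.mem_subgroupOf] at h3
  have hfix : ∀ g ∈ Isom f, mv g x = x → mv g r = r → g ∈ rq hf hx H ∧ ∀ w ∈ aSet hf H x, mv g w ∈ aSet hf H x := by
    intro g hg hgx hgr
    have hP : g ∈ pStab f x := (mem_pStab hf hx).2 ⟨hg, 1, one_ne_zero, by rw [hgx, one_smul]⟩
    have hmap : ∀ w ∈ aSet hf H x, mv g w ∈ aSet hf (cjg g H) x := fun w hw => by
      have := aSet_cjg hf hg one_ne_zero (show mv g x = (1 : F) • x by rw [hgx, one_smul]) hw
      rwa [inv_one, one_smul] at this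
    have hgrq : g ∈ rq hf hx H := hsub ⟨g, hP⟩ (by rw [← hgr]; exact hmap r hrA)
    refine ⟨hgrq, fun w hw => ?_⟩
    have := hmap w hw
    rwa [aSet, kPar_rq hf hx hgrq] at this
  -- multiples of r lie in the dual
  have hscal : ∀ t : F, t • r ∈ aSet hf H x := by
    set D := orth hf (Submodule.span F {x, r}) with hD
    have hDc : Nat.card D = M := by
      have := card_orth hf h4 (Submodule.span F {x, r})
      rw [card_span_pair hf hx hr', mul_comm (q ^ 2)] at this
      exact Nat.eq_of_mul_eq_mul_right (by positivity) this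
    by_cases hcase : ∀ w ∈ aSet hf H x, w ∈ Submodule.span F {x, r}
    · have hle : Nat.card (aSet hf H x) ≤ Nat.card (Submodule.span F {x, r}) :=
        Nat.card_le_card_of_injective (fun w => (⟨w.1, hcase _ w.2⟩ : Submodule.span F {x, r}))
          fun a b h => Subtype.ext (congrArg Subtype.val h :)
      rw [hA, card_span_pair hf hx hr', sq] at hle
      have hsq : s ≤ q := Nat.le_of_mul_le_mul_left hle Nat.card_pos
      rcases lt_or_eq_of_le hsq with hlt | heq
      · exfalso
        have h2s := (dvd_of_idx hf h4 H hx).2 hlt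
        obtain ⟨k, hk⟩ : ∃ k, q = k + 3 := ⟨_, (Nat.sub_add_cancel hq).symm⟩
        obtain ⟨M', hM'⟩ : ∃ M', M = M' + 1 := ⟨_, (Nat.succ_pred_eq_of_pos (by positivity)).symm⟩
        obtain ⟨A', hA'⟩ : ∃ A', A = A' + 1 := ⟨_, (Nat.succ_pred_eq_of_pos ha).symm⟩
        rw [hM', hA', Nat.add_sub_cancel] at hmul
        rw [hk, hM', hA', show k + 3 - 1 = k + 2 by omega, Nat.add_sub_cancel] at hasub
        rw [hk, hM'] at hMq
        rw [← hqdef, ← hsdef, hk] at h2s
        nlinarith [Nat.mul_le_mul_left (A' + 1) h2s]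
      · intro t
        have heq' : (aSet hf H x : Set (ι → F)) = Submodule.span F {x, r} := by
          refine Set.eq_of_subset_of_ncard_le hcase ?_ (Set.toFinite _)
          rw [← Nat.card_coe_set_eq, ← Nat.card_coe_set_eq]
          change Nat.card (Submodule.span F {x, r}) ≤ Nat.card (aSet hf H x)
          rw [hA, card_span_pair hf hx hr', heq, sq]
        rw [← SetLike.mem_coe, heq']
        exact (Submodule.span F {x, r}).smul_mem t (Submodule.subset_span (Set.mem_insert_of_mem _ rfl))
    · push Not at hcase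
      obtain ⟨w, hw, hw'⟩ := hcase
      have hv1 : ∀ v ∈ D, f w v ≠ 0 → v ∈ aSet hf H x := by
        intro v hv hwv
        obtain ⟨hvx, hvr⟩ := (mem_orth_pair hf).1 hv
        have hm := (hfix _ (stv_mem hf v (f w v)⁻¹) (stv_fix hf _ _ ((f_eq_zero_comm hf).1 hvx))
          (stv_fix hf _ _ ((f_eq_zero_comm hf).1 hvr))).2 w hw
        rw [mv_stv, inv_mul_cancel₀ hwv, one_smul] at hm
        simpa using sub_mem hm hw
      obtain ⟨v₀, hv₀, hwv₀⟩ : ∃ v₀ ∈ D, f w v₀ ≠ 0 := by
        by_contra h
        push Not at h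
        refine hw' ?_
        rw [← orth_orth hf h4 (Submodule.span F {x, r})]
        exact fun u hu => (f_eq_zero_comm hf).1 (h u hu)
      have hDA : (D : Set (ι → F)) ⊆ aSet hf H x := by
        intro v hv
        by_cases hwv : f w v = 0
        · have h1 := hv1 (v + v₀) (D.add_mem hv hv₀) (by rwa [hf.bilinear.add_right, hwv, zero_add])
          simpa using sub_mem h1 (hv1 v₀ hv₀ hwv₀)
        · exact hv1 v hv hwv
      have hMle : M ≤ q * s := by
        rw [← hA, ← hDc]
        exact Nat.card_le_card_of_injective (fun v : D => (⟨v.1, hDA v.2⟩ : aSet hf H x))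
          fun a b h => Subtype.ext (congrArg Subtype.val h :)
      have hperp : ∀ v ∈ aSet hf H x, v ∈ perp hf x := fun v hv => aSet_le_perp hf hv
      have hsM : s ≤ M := by
        have h1 : Nat.card (aSet hf H x) ≤ Nat.card (perp hf x) :=
          Nat.card_le_card_of_injective (fun v => (⟨v.1, hperp _ v.2⟩ : perp hf x))
            fun a b h => Subtype.ext (congrArg Subtype.val h :)
        rw [hA, card_perp hf h4 hx] at h1
        exact Nat.le_of_mul_le_mul_left h1 Nat.card_pos
      rcases lt_or_eq_of_le hsM with hlt | heq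
      · exfalso
        obtain ⟨t, ht⟩ := (dvd_of_idx hf h4 H hx).1 hsM
        rw [← hsdef, ← hMdef] at ht
        have ht2 : 2 ≤ t := by
          by_contra h
          interval_cases t <;> omega
        have hss : s * s ≤ M := by
          rw [ht]
          refine Nat.mul_le_mul_left s ?_
          -- s - 1 divides t - 1
          have h1 : A * s + 1 = s * t + A := by
            rw [← ht]; omega
          have hAt : t < A := by
            by_contra h
            obtain ⟨d, hd⟩ := Nat.exists_eq_add_of_le (not_lt.1 h)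
            rw [hd, Nat.mul_add, mul_comm s A] at h1
            rcases Nat.eq_zero_or_pos d with hd0 | hd0
            · subst hd0; omega
            · have : s ≤ s * d := Nat.le_mul_of_pos_right _ hd0
              omega
          obtain ⟨d, hd⟩ := Nat.exists_eq_add_of_le hAt
          rw [hd] at h1
          have e' : (t.succ + d) * s = s * t + s + d * s := by rw [Nat.succ_eq_add_one]; ring
          have : d ≤ d * s := Nat.le_mul_of_pos_right _ (by omega)
          omega
        have hsq : s ≤ q := Nat.le_of_mul_le_mul_right (hss.trans hMle) (by omega)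
        have hqs : q = s := by
          refine le_antisymm (Nat.le_of_mul_le_mul_left ?_ (Nat.card_pos (α := F))) hsq
          calc q * q = q ^ 2 := (sq _).symm
            _ ≤ M := hMq
            _ ≤ _ := hMle
        have hMeq : M = q ^ 2 := le_antisymm (by rw [sq]; exact hMle.trans (Nat.mul_le_mul_left _ hsq)) hMq
        have hDeq : (D : Set (ι → F)) = aSet hf H x := by
          refine Set.eq_of_subset_of_ncard_le hDA ?_ (Set.toFinite _)
          rw [← Nat.card_coe_set_eq, ← Nat.card_coe_set_eq]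
          change Nat.card (aSet hf H x) ≤ Nat.card D
          rw [hA, hDc, hMeq, sq, ← hqs]
        have hspan : (Submodule.span F {x, r} : Set (ι → F)) = D := by
          refine Set.eq_of_subset_of_ncard_le (fun v hv => (mem_orth_pair hf).2 ?_) ?_ (Set.toFinite _)
          · obtain ⟨s', t', rfl⟩ := Submodule.mem_span_pair.1 hv
            simp only [hf.bilinear.add_left, hf.bilinear.smul_left, hf.alternating, hr,
              (f_eq_zero_comm hf).1 hr, mul_zero, add_zero, and_self]
          · rw [← Nat.card_coe_set_eq, ← Nat.card_coe_set_eq]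
            change Nat.card D ≤ Nat.card (Submodule.span F {x, r})
            rw [hDc, card_span_pair hf hx hr', hMeq]
        refine hw' ?_
        rw [← SetLike.mem_coe, hspan, hDeq]
        exact hw
      · intro t
        have heq' : (aSet hf H x : Set (ι → F)) = perp hf x := by
          refine Set.eq_of_subset_of_ncard_le hperp ?_ (Set.toFinite _)
          rw [← Nat.card_coe_set_eq, ← Nat.card_coe_set_eq]
          change Nat.card (perp hf x) ≤ Nat.card (aSet hf H x)
          rw [hA, card_perp hf h4 hx, heq]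
        rw [← SetLike.mem_coe, heq']
        exact (perp hf x).smul_mem t hr
  -- the torus
  obtain ⟨y, hy, hry⟩ := exists_pair_perp hf hx hr' hr
  obtain ⟨l, hl0, hl1, hl2⟩ : ∃ l : F, l ≠ 0 ∧ l ≠ 1 ∧ (4 ≤ q → l * l ≠ 1) := by
    by_cases h4q : 4 ≤ q
    · obtain ⟨l, hl⟩ := Finset.exists_mem_notMem_of_card_lt_card (s := ({0, 1, -1} : Finset F)) (t := Finset.univ)
        (lt_of_le_of_lt Finset.card_le_three (by rw [Finset.card_univ, ← Nat.card_eq_fintype_card]; omega))
      simp only [Finset.mem_insert, Finset.mem_singleton, not_or] at hl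
      exact ⟨l, hl.2.1, hl.2.2.1, fun _ h => (mul_self_eq_one_iff.1 h).elim hl.2.2.1 hl.2.2.2⟩
    · obtain ⟨l, hl⟩ := Finset.exists_mem_notMem_of_card_lt_card (s := ({0, 1} : Finset F)) (t := Finset.univ)
        (lt_of_le_of_lt Finset.card_le_two (by rw [Finset.card_univ, ← Nat.card_eq_fintype_card]; omega))
      simp only [Finset.mem_insert, Finset.mem_singleton, not_or] at hl
      exact ⟨l, hl.2.1, hl.2.2, fun h => absurd h h4q⟩
  have hq3 : q ≤ 3 → l = -1 ∧ (2 : F) ≠ 0 := by
    intro h3
    have hc : Fintype.card F = 3 := by rw [← Nat.card_eq_fintype_card]; omega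
    have h3F : ((3 : ℕ) : F) = 0 := hc ▸ FiniteField.cast_card_eq_zero F
    have hp : l ^ 2 = 1 := by
      have := FiniteField.pow_card_sub_one_eq_one l hl0
      rwa [hc] at this
    refine ⟨(mul_self_eq_one_iff.1 (by rw [← sq]; exact hp)).resolve_left hl1, fun h2 => ?_⟩
    push_cast at h3F
    exact one_ne_zero (show (1 : F) = 0 by linear_combination h3F - h2)
  set T := tor hf x y l with hT
  have hTr : mv T r = r := tor_fix hf hy hl0 hr hry
  have hTrq : T ∈ rq hf hx H := by
    refine hsub ⟨T, (mem_pStab hf hx).2 ⟨tor_mem hf hy hl0, l, hl0, tor_left hf hy hl0⟩⟩ ?_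
    have := aSet_cjg hf (tor_mem hf hy hl0) hl0 (tor_left hf hy hl0) (hscal l)
    rwa [mv_smul, hTr, smul_smul, inv_mul_cancel₀ hl0, one_smul] at this
  -- a conjugate containing the torus element
  obtain ⟨u, hu, hTu⟩ : ∃ u ∈ radQ hf x, T ∈ cjg u H := by
    obtain ⟨h, hh, w, hw, he⟩ := hTrq
    obtain ⟨v, c, hv, hvy, hwe⟩ := exists_qel_normal hf hy (inv_mem hw)
    have hTH : T * qel hf x v c ∈ H := by
      rw [← hwe, he, mul_inv_cancel_right]; exact hh.1
    set m := l⁻¹
    have hm1 : (1 : F) - m ≠ 0 := sub_ne_zero.2 fun h => hl1 (by rw [← inv_inv l]; simp [m, ← h])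
    obtain ⟨e, hee⟩ : ∃ e : F, e - m ^ 2 * e = c := by
      by_cases hl22 : l * l = 1
      · have h3 : q ≤ 3 := by
          by_contra h
          exact hl2 (by omega) hl22
        refine ⟨0, ?_⟩
        -- the square of the element forces c = 0
        have hTT : T * T = 1 := by
          refine ext_mv fun z => ?_
          have hyx : f y x = -1 := by rw [hf.skew, hy]
          rw [mv_mul, mv_one, hT, mv_tor hf hy hl0, mv_tor hf hy hl0, show l⁻¹ = l from
            inv_eq_of_mul_eq_one_right hl22]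
          simp only [hf.bilinear.add_left, hf.bilinear.smul_left, hf.alternating, hy, hyx]
          match_scalars
          · ring
          · linear_combination f z y * hl22
          · linear_combination -(f z x) * hl22
        have h2' := H.mul_mem hTH hTH
        rw [show T * qel hf x v c * (T * qel hf x v c) = (T * qel hf x v c * T⁻¹) * (T * T) * qel hf x v c by group,
          hTT, mul_one, tor_conj_qel hf hy hl0 hv hvy,
          qel_mul hf (by rw [hf.bilinear.smul_left, hv, mul_zero]) hv] at h2'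
        obtain ⟨hlm, h20⟩ := hq3 h3
        rw [hlm, neg_one_smul, neg_add_cancel, neg_one_sq, one_mul, f_neg_right hf, hf.alternating, neg_zero,
          add_zero, qel_zero] at h2'
        have h5 : c + c = 0 := AddSubgroup.mem_bot.1 (h0.le ((mem_sPar hf).2 h2'))
        have : c = 0 := by
          rw [← two_mul] at h5
          exact (mul_eq_zero.1 h5).resolve_left h20
        rw [this]; ring
      · have hne : (1 : F) - m ^ 2 ≠ 0 := sub_ne_zero.2 fun h => hl22 <| by
          calc l * l = l * l * m ^ 2 := by rw [← h, mul_one]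
            _ = (l * l⁻¹) ^ 2 := by ring
            _ = 1 := by rw [mul_inv_cancel₀ hl0, one_pow]
        exact ⟨c / (1 - m ^ 2), by linear_combination mul_div_cancel₀ c hne⟩
    set a := (1 - m)⁻¹ • v with ha'
    have hax : f a x = 0 := by rw [hf.bilinear.smul_left, hv, mul_zero]
    have hay : f a y = 0 := by rw [hf.bilinear.smul_left, hvy, mul_zero]
    refine ⟨qel hf x a e, qel_mem_radQ hf hax e, (mem_cjg hf).2 ?_⟩
    have hva : v = (1 - m) • a := by rw [ha', smul_smul, mul_inv_cancel₀ hm1, one_smul]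
    have key : T * qel hf x v c = (qel hf x a e)⁻¹ * T * qel hf x a e := by
      rw [show (qel hf x a e)⁻¹ * T * qel hf x a e =
          T * ((T⁻¹ * (qel hf x a e)⁻¹ * T) * qel hf x a e) by group]
      congr 1
      have hconj : T⁻¹ * (qel hf x a e)⁻¹ * T = qel hf x (m • -a) (m ^ 2 * -e) := by
        rw [qel_inv hf hax]
        have hma : f (m • -a) x = 0 := by rw [hf.bilinear.smul_left, f_neg_left hf, hax, neg_zero, mul_zero]
        have hmay : f (m • -a) y = 0 := by rw [hf.bilinear.smul_left, f_neg_left hf, hay, neg_zero, mul_zero]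
        have h1 := tor_conj_qel hf hy hl0 hma hmay (m ^ 2 * -e)
        rw [smul_smul, show l * m = 1 from mul_inv_cancel₀ hl0, one_smul, ← mul_assoc, ← mul_pow,
          show l * m = 1 from mul_inv_cancel₀ hl0, one_pow, one_mul, ← hT] at h1
        rw [← h1]; group
      rw [hconj, qel_mul hf (by rw [hf.bilinear.smul_left, f_neg_left hf, hax, neg_zero, mul_zero]) hax,
        hva, ← hee, hf.bilinear.smul_right, f_neg_right hf, hf.alternating, neg_zero, mul_zero, add_zero]
      congr 1
      · module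
      · ring
    rw [← key]; exact hTH
  set H' := cjg u H with hH'
  have hu' : mv u x = x := by obtain ⟨v, c, hv, rfl⟩ := hu; exact qel_fix hf hv c
  have hS' : ∀ c, stv hf x c ∈ H' → c = 0 := fun c hc => by
    have h1 := sPar_cjg hf (inv_mem (radQ_le hf x hu)) (t := (1 : F))
      (show mv u⁻¹ x = (1 : F) • x by rw [one_smul, mv_eq_iff, inv_inv, hu']) (H := H') ((mem_sPar hf).2 hc)
    rw [hH', ← cjg_mul hf, inv_mul_cancel, cjg_one hf, one_mul, one_mul, h0, AddSubgroup.mem_bot] at h1
    exact h1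
  have hrne : mv u⁻¹ r ≠ 0 := fun h => hr' (by
    rw [show r = 0 from mv_inj u⁻¹ (h.trans (mv_zero _).symm)]; exact Submodule.zero_mem _)
  have hgnot : stv hf r 1 ∉ H' := fun hg => by
    rw [hH', mem_cjg hf] at hg
    have h1 := stv_conj hf (g := u⁻¹) one_ne_zero (fun a b => by
      rw [one_mul]; exact inv_mem (radQ_le hf x hu) a b) r 1
    rw [div_one, inv_inv] at h1
    rw [h1] at hg
    exact one_ne_zero (AddSubgroup.mem_bot.1 ((hall _ hrne).le ((mem_sPar hf).2 hg)))
  -- lifting elements which fix x, y and r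
  have hlift : ∀ g ∈ Isom f, mv g x = x → mv g y = y → mv g r = r → ∃ C, g * stv hf x C ∈ H' := by
    intro g hg hgx hgy hgr
    obtain ⟨h, hh, w, hw, he⟩ := (hfix g hg hgx hgr).1
    have hP : g ∈ pStab f x := (mem_pStab hf hx).2 ⟨hg, 1, one_ne_zero, by rw [hgx, one_smul]⟩
    obtain ⟨v, c, hv, hvy, hve⟩ := exists_qel_normal hf hy
      (mul_mem (mul_mem (conj_inv_mem_radQ hf hx hP hu) (inv_mem hw)) (inv_mem hu))
    have hgH : g * qel hf x v c ∈ H' := by
      rw [← hve, hH', mem_cjg hf,
        show u⁻¹ * (g * (g⁻¹ * u * g * w⁻¹ * u⁻¹)) * u = g * w⁻¹ by group, he, mul_inv_cancel_right]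
      exact hh.1
    have hconj := H'.mul_mem (H'.mul_mem hTu hgH) (H'.inv_mem hTu)
    rw [show T * (g * qel hf x v c) * T⁻¹ = (T * g) * qel hf x v c * T⁻¹ by group,
      ← tor_comm hf hy hl0 hg hgx hgy, show g * T * qel hf x v c * T⁻¹ = g * (T * qel hf x v c * T⁻¹) by group,
      tor_conj_qel hf hy hl0 hv hvy] at hconj
    have hq' := H'.mul_mem (H'.inv_mem hgH) hconj
    rw [show (g * qel hf x v c)⁻¹ * (g * qel hf x (l • v) (l ^ 2 * c)) =
      (qel hf x v c)⁻¹ * qel hf x (l • v) (l ^ 2 * c) by group, qel_inv hf hv,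
      qel_mul hf (by rw [f_neg_left hf, hv, neg_zero]) (by rw [hf.bilinear.smul_left, hv, mul_zero])] at hq'
    -- the vectors of the radical part orthogonal to y are stable under l
    have hK : ∀ n : ℕ, (l - 1) ^ (n + 1) • v ∈ kPar hf H' x := by
      intro n
      induction n with
      | zero =>
        have : -v + l • v ∈ kPar hf H' x :=
          ⟨by rw [hf.bilinear.add_left, f_neg_left hf, hv, hf.bilinear.smul_left, hv, neg_zero, mul_zero, add_zero],
            _, hq'⟩
        rwa [zero_add, pow_one, show (l - 1) • v = -v + l • v by module]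
      | succ n ih =>
        obtain ⟨hn1, c', hc'⟩ := ih
        have h5 := H'.mul_mem (H'.mul_mem hTu hc') (H'.inv_mem hTu)
        have hny : f ((l - 1) ^ (n + 1) • v) y = 0 := by rw [hf.bilinear.smul_left, hvy, mul_zero]
        rw [tor_conj_qel hf hy hl0 hn1 hny] at h5
        have h6 : l • (l - 1) ^ (n + 1) • v ∈ kPar hf H' x :=
          ⟨by rw [hf.bilinear.smul_left, hn1, mul_zero], _, h5⟩
        have h7 := sub_mem h6 (show (l - 1) ^ (n + 1) • v ∈ kPar hf H' x from ⟨hn1, c', hc'⟩)
        rwa [show l • (l - 1) ^ (n + 1) • v - (l - 1) ^ (n + 1) • v = (l - 1) ^ (n + 1 + 1) • v by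
          rw [pow_succ _ (n + 1)]; module] at h7
    have hvK : v ∈ kPar hf H' x := by
      have h8 := hK (Fintype.card F - 2)
      rwa [show Fintype.card F - 2 + 1 = Fintype.card F - 1 by
          rw [← Nat.card_eq_fintype_card]; omega,
        FiniteField.pow_card_sub_one_eq_one _ (sub_ne_zero.2 hl1), one_smul] at h8
    obtain ⟨-, c', hc'⟩ := hvK
    refine ⟨c + -c', ?_⟩
    have h9 := H'.mul_mem hgH (H'.inv_mem hc')
    rwa [qel_inv hf hv, mul_assoc, qel_mul hf hv (by rw [f_neg_left hf, hv, neg_zero]), add_neg_cancel,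
      f_neg_left hf, hf.alternating, neg_zero, add_zero, qel_zero] at h9
  by_cases h4q : 4 ≤ q
  · obtain ⟨C, hC⟩ := hlift _ (stv_mem hf r 1) (stv_fix hf _ _ ((f_eq_zero_comm hf).1 hr))
      (stv_fix hf _ _ ((f_eq_zero_comm hf).1 hry)) (stv_fix hf _ _ (hf.alternating r))
    have hconj := H'.mul_mem (H'.mul_mem hTu hC) (H'.inv_mem hTu)
    rw [show T * (stv hf r 1 * stv hf x C) * T⁻¹ = T * stv hf r 1 * stv hf x C * T⁻¹ by group,
      ← tor_comm hf hy hl0 (stv_mem hf r 1) (stv_fix hf _ _ ((f_eq_zero_comm hf).1 hr))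
        (stv_fix hf _ _ ((f_eq_zero_comm hf).1 hry)),
      show stv hf r 1 * T * stv hf x C * T⁻¹ = stv hf r 1 * (T * stv hf x C * T⁻¹) by group,
      stv_conj hf one_ne_zero (fun a b => by rw [one_mul]; exact tor_mem hf hy hl0 a b), div_one, hT,
      tor_left hf hy hl0, stv_smul] at hconj
    have h10 := H'.mul_mem (H'.inv_mem hC) hconj
    rw [show (stv hf r 1 * stv hf x C)⁻¹ * (stv hf r 1 * stv hf x (l * l * C)) =
      (stv hf x C)⁻¹ * stv hf x (l * l * C) by group,
      show (stv hf x C)⁻¹ = stv hf x (-C) from inv_eq_of_mul_eq_one_right (by rw [stv_add, add_neg_cancel, stv_zero]),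
      stv_add] at h10
    have h11 := hS' _ h10
    have hC0 : C = 0 := (mul_eq_zero.1 (by linear_combination h11 : (l * l - 1) * C = 0)).resolve_left
      (sub_ne_zero.2 (hl2 h4q))
    rw [hC0, stv_zero, mul_one] at hC
    exact hgnot hC
  · have h6 : 6 ≤ Fintype.card ι := hexc.resolve_left h4q
    have h20 : (2 : F) ≠ 0 := (hq3 (by omega)).2
    let Lfix : GL ι F → Prop := fun g => g ∈ Isom f ∧ mv g x = x ∧ mv g y = y ∧ mv g r = r
    have hLmul : ∀ g k, Lfix g → Lfix k → Lfix (g * k) := fun g k hg hk =>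
      ⟨mul_mem hg.1 hk.1, by rw [mv_mul, hk.2.1, hg.2.1], by rw [mv_mul, hk.2.2.1, hg.2.2.1],
        by rw [mv_mul, hk.2.2.2, hg.2.2.2]⟩
    choose C hC using fun g : {g // Lfix g} => hlift g.1 g.2.1 g.2.2.1 g.2.2.2.1 g.2.2.2.2
    have hcomm : ∀ g, Lfix g → ∀ c, g * stv hf x c = stv hf x c * g := fun g hg c => by
      have h1 := stv_conj hf (g := g) one_ne_zero (fun a b => by rw [one_mul]; exact hg.1 a b) x c
      rw [div_one, hg.2.1] at h1
      exact mul_inv_eq_iff_eq_mul.1 h1
    have huniq : ∀ (g : {g // Lfix g}) d, g.1 * stv hf x d ∈ H' → C g = d := fun g d hd => by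
      have h1 := H'.mul_mem (H'.inv_mem (hC g)) hd
      rw [show (g.1 * stv hf x (C g))⁻¹ * (g.1 * stv hf x d) = (stv hf x (C g))⁻¹ * stv hf x d by group,
        show (stv hf x (C g))⁻¹ = stv hf x (-C g) from
          inv_eq_of_mul_eq_one_right (by rw [stv_add, add_neg_cancel, stv_zero]), stv_add] at h1
      linear_combination -(hS' _ h1)
    have hadd : ∀ g k : {g // Lfix g}, C ⟨g.1 * k.1, hLmul _ _ g.2 k.2⟩ = C g + C k := fun g k =>
      huniq _ _ (by
        have h1 := H'.mul_mem (hC g) (hC k)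
        rwa [show g.1 * stv hf x (C g) * (k.1 * stv hf x (C k)) =
          g.1 * (stv hf x (C g) * k.1) * stv hf x (C k) by group, ← hcomm k.1 k.2,
          show g.1 * (k.1 * stv hf x (C g)) * stv hf x (C k) = g.1 * k.1 * (stv hf x (C g) * stv hf x (C k)) by group,
          stv_add] at h1)
    have hconjC : ∀ g k m : {g // Lfix g}, g.1 * k.1 = m.1 * g.1 → C k = C m := fun g k m h => by
      have h1 := hadd g k
      have h2 := hadd m g
      rw [show (⟨g.1 * k.1, hLmul _ _ g.2 k.2⟩ : {g // Lfix g}) = ⟨m.1 * g.1, hLmul _ _ m.2 g.2⟩ from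
        Subtype.ext h, h2] at h1
      linear_combination -h1
    -- two non-orthogonal vectors orthogonal to x, y and r
    obtain ⟨w, p, hw, hp, hwp⟩ : ∃ w p, (f w x = 0 ∧ f w y = 0 ∧ f w r = 0) ∧
        (f p x = 0 ∧ f p y = 0 ∧ f p r = 0) ∧ f w p = 1 := by
      by_contra hcon
      let U := Submodule.span F ({x, y, r} : Set (ι → F))
      have hmem : ∀ v, v ∈ orth hf U → f v x = 0 ∧ f v y = 0 ∧ f v r = 0 := fun v hv =>
        ⟨(f_eq_zero_comm hf).1 (hv _ (Submodule.subset_span (by simp))),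
          (f_eq_zero_comm hf).1 (hv _ (Submodule.subset_span (by simp))),
          (f_eq_zero_comm hf).1 (hv _ (Submodule.subset_span (by simp)))⟩
      have hiso : orth hf U ≤ orth hf (orth hf U) := by
        intro a ha b hb
        by_contra hne
        refine hcon ⟨b, (f b a)⁻¹ • a, hmem b hb, hmem _ ((orth hf U).smul_mem _ ha), ?_⟩
        rw [hf.bilinear.smul_right, inv_mul_cancel₀ hne]
      have hlt : Nat.card (orth hf U) < Nat.card (orth hf (orth hf U)) := by
        refine Set.ncard_lt_ncard (s := (orth hf U : Set (ι → F))) (t := orth hf (orth hf U))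
          ⟨hiso, fun h => ?_⟩ (Set.toFinite _)
        have hxm : x ∈ orth hf (orth hf U) := fun v hv => (hmem v hv).1
        have := (hmem x (h hxm)).2.1
        rw [hy] at this
        exact one_ne_zero this
      have hU : Nat.card U ≤ q ^ 3 := by
        have hsur : Function.Surjective fun c : F × F × F => (⟨c.1 • x + c.2.1 • y + c.2.2 • r,
            U.add_mem (U.add_mem (U.smul_mem _ (Submodule.subset_span (by simp)))
              (U.smul_mem _ (Submodule.subset_span (by simp)))) (U.smul_mem _ (Submodule.subset_span (by simp)))⟩ : U) := by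
          rintro ⟨v, hv⟩
          obtain ⟨a, z, hz, rfl⟩ := Submodule.mem_span_insert.1 hv
          obtain ⟨b, c, rfl⟩ := Submodule.mem_span_pair.1 hz
          exact ⟨(a, b, c), Subtype.ext (add_assoc _ _ _)⟩
        have := Nat.card_le_card_of_surjective _ hsur
        rw [Nat.card_prod, Nat.card_prod] at this
        calc Nat.card U ≤ q * (q * q) := this
          _ = q ^ 3 := by ring
      have h1 := card_orth hf h4 U
      have h2 := card_orth hf h4 (orth hf U)
      have hpow : q ^ 6 ≤ q ^ 2 * M := by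
        rw [hMdef, bigM, ← pow_add]
        exact Nat.pow_le_pow_right Nat.card_pos (by omega)
      have h3 : q ^ 3 ≤ Nat.card (orth hf U) := by
        refine Nat.le_of_mul_le_mul_right ?_ (show 0 < q ^ 3 by positivity)
        calc q ^ 3 * q ^ 3 = q ^ 6 := by ring
          _ ≤ q ^ 2 * M := hpow
          _ = Nat.card (orth hf U) * Nat.card U := h1.symm
          _ ≤ _ := Nat.mul_le_mul_left _ hU
      nlinarith [Nat.mul_le_mul h3 h3, Nat.mul_le_mul_left (Nat.card (orth hf U)) hU]
    have hSt : ∀ v c, f v x = 0 → f v y = 0 → f v r = 0 → Lfix (stv hf v c) := fun v c h1 h2 h3 =>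
      ⟨stv_mem hf v c, stv_fix hf _ _ ((f_eq_zero_comm hf).1 h1), stv_fix hf _ _ ((f_eq_zero_comm hf).1 h2),
        stv_fix hf _ _ ((f_eq_zero_comm hf).1 h3)⟩
    have hrr : f r r = 0 := hf.alternating r
    have hpl : f (w + r) x = 0 ∧ f (w + r) y = 0 ∧ f (w + r) r = 0 := by
      simp [hf.bilinear.add_left, hw.1, hw.2.1, hw.2.2, hr, hry, hrr]
    have hmi : f (w - r) x = 0 ∧ f (w - r) y = 0 ∧ f (w - r) r = 0 := by
      simp [f_sub_left hf, hw.1, hw.2.1, hw.2.2, hr, hry, hrr]
    let tw : {g // Lfix g} := ⟨stv hf w 1, hSt w 1 hw.1 hw.2.1 hw.2.2⟩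
    let tpl : {g // Lfix g} := ⟨stv hf (w + r) 1, hSt _ 1 hpl.1 hpl.2.1 hpl.2.2⟩
    let tmi : {g // Lfix g} := ⟨stv hf (w - r) 1, hSt _ 1 hmi.1 hmi.2.1 hmi.2.2⟩
    let tr : {g // Lfix g} := ⟨stv hf r 1, hSt r 1 hr hry hrr⟩
    have hmoveL : ∀ e : F, ∃ g : {g // Lfix g}, mv g.1 w = w + e • r := by
      intro e
      have hpr : f (e • p) r = 0 := by rw [hf.bilinear.smul_left, hp.2.2, mul_zero]
      refine ⟨⟨qel hf r (e • p) 0, qel_mem hf hpr 0, ?_, ?_, qel_fix hf hpr 0⟩, ?_⟩
      · rw [mv_qel hf hpr, (f_eq_zero_comm hf).1 hr, hf.bilinear.smul_right, (f_eq_zero_comm hf).1 hp.1]; simp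
      · rw [mv_qel hf hpr, (f_eq_zero_comm hf).1 hry, hf.bilinear.smul_right, (f_eq_zero_comm hf).1 hp.2.1]; simp
      · rw [mv_qel hf hpr, hw.2.2, hf.bilinear.smul_right, hwp]; simp
    have hCw : ∀ (e : F) (m : {g // Lfix g}), m.1 = stv hf (w + e • r) 1 → C tw = C m := by
      intro e m hm
      obtain ⟨g, hg⟩ := hmoveL e
      refine hconjC g tw m ?_
      have h1 := stv_conj hf (g := g.1) one_ne_zero (fun a b => by rw [one_mul]; exact g.2.1 a b) w 1
      rw [div_one, hg] at h1
      rw [hm, ← h1]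
      show g.1 * stv hf w 1 = _
      group
    have e1 := hCw 1 tpl (by rw [one_smul])
    have e2 := hCw (-1) tmi (by rw [neg_one_smul, ← sub_eq_add_neg])
    have hprod : tpl.1 * tmi.1 = tr.1 * tr.1 * (tw.1 * tw.1) := by
      show stv hf (w + r) 1 * stv hf (w - r) 1 = stv hf r 1 * stv hf r 1 * (stv hf w 1 * stv hf w 1)
      rw [stv_add, stv_add]
      refine ext_mv fun z => ?_
      have hrw : f r w = 0 := (f_eq_zero_comm hf).1 hw.2.2
      simp only [mv_mul, mv_stv, hf.bilinear.add_left, hf.bilinear.add_right, hf.bilinear.smul_left,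
        f_sub_left hf, f_sub_right hf, hf.alternating, hrr, hw.2.2, hrw, one_mul, mul_zero, add_zero, sub_zero]
      match_scalars <;> ring
    have h5 := hadd tpl tmi
    rw [show (⟨tpl.1 * tmi.1, hLmul _ _ tpl.2 tmi.2⟩ : {g // Lfix g}) =
      ⟨(⟨tr.1 * tr.1, hLmul _ _ tr.2 tr.2⟩ : {g // Lfix g}).1 * (⟨tw.1 * tw.1, hLmul _ _ tw.2 tw.2⟩ : {g // Lfix g}).1,
        hLmul _ _ (hLmul _ _ tr.2 tr.2) (hLmul _ _ tw.2 tw.2)⟩ from Subtype.ext hprod,
      hadd ⟨tr.1 * tr.1, hLmul _ _ tr.2 tr.2⟩ ⟨tw.1 * tw.1, hLmul _ _ tw.2 tw.2⟩, hadd tr tr, hadd tw tw,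
      ← e1, ← e2] at h5
    have hC0 : C tr = 0 := by
      have : (2 : F) * C tr = 0 := by linear_combination h5
      exact (mul_eq_zero.1 this).resolve_left h20
    have hfin := hC tr
    rw [hC0, stv_zero, mul_one] at hfin
    exact hgnot hfin

end Cfsg.Agent.SpMin
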