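/-
The bound for fields with at least three elements.
-/
import Cfsg.Agent.Lib.SpMinIndex.Semi

set_option autoImplicit false

namespace Cfsg.Agent.SpMin

open Matrix Cfsg.Agent.Transvec
open scoped LinearAlgebra.Projectivization

variable {ι : Type} [Fintype ι] [DecidableEq ι] {F : Type*} [Field F] [Finite F]
variable {f : (ι → F) → (ι → F) → F} (hf : Geo.IsSymplecticForm f)
include hf

/-- A set of vectors meeting every line of the perp of x modulo x is large. -/
theorem lines_meet (h4 : 4 ≤ Fintype.card ι) {x : ι → F} (hx : x ≠ 0) (K : AddSubgroup (ι → F))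
    (hKx : ∀ e : F, e • x ∈ K)
    (hmeet : ∀ u, f u x = 0 → u ∉ Submodule.span F {x} → ∃ t : F, t ≠ 0 ∧ t • u ∈ K) :
    Nat.card F * bigM ι F - Nat.card F ≤ (Nat.card F - 1) * (Nat.card K - Nat.card F) := by
  classical
  let X : Set (ι → F) := {v | f v x = 0 ∧ v ∉ Submodule.span F {x}}
  choose t ht htK using fun u : X => hmeet u.1 u.2.1 u.2.2
  let φ : X → Fˣ × ((K : Set (ι → F)) \ Submodule.span F {x} : Set (ι → F)) := fun u =>
    (Units.mk0 (t u) (ht u), ⟨t u • u.1, htK u, fun h => u.2.2 (((Submodule.span F {x}).smul_mem_iff (ht u)).1 h)⟩)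
  have hinj : Function.Injective φ := fun a b h => by
    simp only [φ, Prod.mk.injEq, Units.mk0_inj, Subtype.mk.injEq] at h
    exact Subtype.ext (smul_right_injective _ (ht b) ((congrArg (· • a.1) h.1.symm).trans (congrArg Subtype.val h.2)))
  have h := Nat.card_le_card_of_injective φ hinj
  have hsub : (Submodule.span F {x} : Set (ι → F)) ⊆ K := fun v hv => by
    obtain ⟨k, rfl⟩ := Submodule.mem_span_singleton.1 hv
    exact hKx k
  have hsub' : (Submodule.span F {x} : Set (ι → F)) ⊆ perp hf x := fun v hv => by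
    obtain ⟨k, rfl⟩ := Submodule.mem_span_singleton.1 hv
    exact (perp hf x).smul_mem k (self_mem_perp hf x)
  have hX : X = (perp hf x : Set (ι → F)) \ Submodule.span F {x} := rfl
  rw [Nat.card_prod, Nat.card_units, hX, Nat.card_coe_set_eq, Nat.card_coe_set_eq,
    Set.ncard_sdiff hsub (Set.toFinite _), Set.ncard_sdiff hsub' (Set.toFinite _),
    ← Nat.card_coe_set_eq, ← Nat.card_coe_set_eq, ← Nat.card_coe_set_eq] at h
  rw [show Nat.card (Submodule.span F {x} : Set (ι → F)) = Nat.card F from card_span_singleton hf hx,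
    show Nat.card (perp hf x : Set (ι → F)) = Nat.card F * bigM ι F from card_perp hf h4 hx] at h
  exact h

/-- If every point orthogonal to x is a centre, then the radical part at x is whole. -/
theorem sIdx_one_of_neighbours (h4 : 4 ≤ Fintype.card ι) {H : Subgroup (GL ι F)} (hH : H ≤ Isom f)
    {x : ι → F} (hx : x ≠ 0) (hall : ∀ u, f u x = 0 → u ∉ Submodule.span F {x} → sPar hf H u ≠ ⊥) :
    sIdx hf H x = 1 := by
  classical
  by_contra hne
  have hs2 := two_le_sIdx hf h4 hx hne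
  have hv : ∀ u, f u x = 0 → u ∉ Submodule.span F {x} → ∀ e : F,
      ∃ a : F, a ≠ 0 ∧ stv hf (u + e • x) a ∈ H := by
    intro u hu hu' e
    have h1 : u + e • x ∉ Submodule.span F {x} := fun h => hu'
      ((Submodule.add_mem_iff_left _ (Submodule.smul_mem _ e (Submodule.mem_span_singleton_self x))).1 h)
    have h2 : f (u + e • x) x = 0 := by
      rw [hf.bilinear.add_left, hu, hf.bilinear.smul_left, hf.alternating, mul_zero, add_zero]
    by_contra h
    push Not at h
    exact hall _ h2 h1 ((AddSubgroup.eq_bot_iff_forall _).2 fun a ha => by_contra fun h0 => h a h0 ((mem_sPar hf).1 ha))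
  have hK : ∀ u, f u x = 0 → u ∉ Submodule.span F {x} → ∃ t : F, t ≠ 0 ∧ t • u ∈ kPar hf H x := by
    intro u hu hu'
    choose a ha haH using hv u hu hu'
    haveI := Fintype.ofFinite F
    obtain ⟨e₁, e₂, he, hae⟩ : ∃ e₁ e₂ : F, e₁ ≠ e₂ ∧ a e₁ = a e₂ := by
      obtain ⟨e₁, -, e₂, -, he, hae⟩ := Finset.exists_ne_map_eq_of_card_lt_of_maps_to
        (s := (Finset.univ : Finset F)) (t := Finset.univ.erase (0 : F)) (f := a)
        (Finset.card_erase_lt_of_mem (Finset.mem_univ _)) (fun e _ => Finset.mem_erase.2 ⟨ha e, Finset.mem_univ _⟩)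
      exact ⟨e₁, e₂, he, hae⟩
    have h1 := H.mul_mem (haH e₁) (H.inv_mem (haH e₂))
    rw [show (stv hf (u + e₂ • x) (a e₂))⁻¹ = stv hf (u + e₂ • x) (-a e₂) from
      inv_eq_of_mul_eq_one_right (by rw [stv_add, add_neg_cancel, stv_zero]), ← hae, stv_mul_stv hf hu] at h1
    exact ⟨a e₁ * (e₁ - e₂), mul_ne_zero (ha _) (sub_ne_zero.2 he),
      by rw [hf.bilinear.smul_left, hu, mul_zero], _, h1⟩
  have hAinv : ∀ u, f u x = 0 → u ∉ Submodule.span F {x} → ∀ r ∈ aSet hf H x, f r u ≠ 0 →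
      ∃ t : F, t ≠ 0 ∧ t • u ∈ aSet hf H x := by
    intro u hu hu' r hr hru
    obtain ⟨a, ha, haH⟩ := hv u hu hu' 0
    rw [zero_smul, add_zero] at haH
    have hfix : mv (stv hf u a) x = (1 : F) • x := by rw [one_smul, stv_fix hf _ _ ((f_eq_zero_comm hf).1 hu)]
    have h1 := aSet_cjg hf (stv_mem hf u a) one_ne_zero hfix hr
    rw [cjg_self hf haH, inv_one, one_smul, mv_stv] at h1
    exact ⟨a * f r u, mul_ne_zero ha hru, by simpa using sub_mem h1 hr⟩
  obtain ⟨r₀, hr₀, hr₀'⟩ : ∃ r ∈ aSet hf H x, r ∉ Submodule.span F {x} := by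
    by_contra h
    push Not at h
    have h1 : Nat.card (aSet hf H x) ≤ Nat.card (Submodule.span F {x}) :=
      Nat.card_le_card_of_injective (fun w => (⟨w.1, h _ w.2⟩ : Submodule.span F {x}))
        fun a b e => Subtype.ext (congrArg Subtype.val e :)
    rw [card_aSet hf h4 hx, card_span_singleton hf hx] at h1
    have hq0 : 0 < Nat.card F := Nat.card_pos
    nlinarith [Nat.mul_le_mul_left (Nat.card F) hs2]
  have hA : ∀ u, f u x = 0 → u ∉ Submodule.span F {x} → ∃ t : F, t ≠ 0 ∧ t • u ∈ aSet hf H x := by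
    intro u hu hu'
    by_cases hru : f r₀ u = 0
    · obtain ⟨u₀, hu₀, h1, h2⟩ := exists_common hf hx hr₀' hu'
      have hu₀' : u₀ ∉ Submodule.span F {x} := fun h => by
        obtain ⟨k, rfl⟩ := Submodule.mem_span_singleton.1 h
        exact h1 (by rw [hf.bilinear.smul_right, aSet_le_perp hf hr₀, mul_zero])
      obtain ⟨t, ht, htA⟩ := hAinv u₀ hu₀ hu₀' r₀ hr₀ h1
      refine hAinv u hu hu' _ htA ?_
      rw [hf.bilinear.smul_left]
      exact mul_ne_zero ht fun h => h2 ((f_eq_zero_comm hf).1 h)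
    · exact hAinv u hu hu' r₀ hr₀ hru
  have hk1 := lines_meet hf h4 hx (kPar hf H x) (smul_self_mem_kPar hf H x) hK
  have hk2 := lines_meet hf h4 hx (aSet hf H x) (smul_self_mem_aSet hf H x) hA
  rw [card_aSet hf h4 hx] at hk2
  have hKs := card_kPar_mul hf h4 hx H
  set s := sIdx hf H x
  set q := Nat.card F
  set M := bigM ι F
  set K := Nat.card (kPar hf H x)
  have hMq : q ^ 2 ≤ M := bigM_ge hf h4
  obtain ⟨k, hk⟩ : ∃ k, q = k + 2 := ⟨_, (Nat.sub_add_cancel (Finite.one_lt_card (α := F))).symm⟩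
  obtain ⟨M', hM'⟩ : ∃ M', M = M' + 1 := ⟨_, (Nat.succ_pred_eq_of_pos (lt_trans Nat.zero_lt_one (one_lt_bigM hf h4))).symm⟩
  obtain ⟨s', hs'⟩ : ∃ s', s = s' + 1 := ⟨_, (Nat.succ_pred_eq_of_pos (by omega)).symm⟩
  have hKq : q ≤ K := by
    by_contra h
    rw [Nat.sub_eq_zero_of_le (le_of_lt (not_le.1 h)), mul_zero, Nat.le_zero, Nat.sub_eq_zero_iff_le] at hk1
    have h1 : 2 * q ≤ M * q := Nat.mul_le_mul_right _ (by rw [hM']; nlinarith)
    rw [mul_comm M] at h1
    have : 0 < q := Nat.card_pos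
    omega
  obtain ⟨d, hd⟩ := Nat.exists_eq_add_of_le hKq
  rw [hd] at hk1 hKs
  rw [hk, hM', Nat.add_sub_cancel_left, show k + 2 - 1 = k + 1 by omega,
    show (k + 2) * (M' + 1) - (k + 2) = (k + 2) * M' by rw [Nat.mul_succ, Nat.add_sub_cancel]] at hk1
  rw [hk, hM', hs', show k + 2 - 1 = k + 1 by omega,
    show (k + 2) * (M' + 1) - (k + 2) = (k + 2) * M' by rw [Nat.mul_succ, Nat.add_sub_cancel],
    show (k + 2) * (s' + 1) - (k + 2) = (k + 2) * s' by rw [Nat.mul_succ, Nat.add_sub_cancel]] at hk2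
  rw [hk, hM', hs'] at hKs
  rw [hk, hM'] at hMq
  have h1 : M' ≤ (k + 1) * s' := Nat.le_of_mul_le_mul_left (show (k + 2) * M' ≤ (k + 2) * ((k + 1) * s') by rw [mul_left_comm]; exact hk2) (by omega)
  -- d (s' + 1) = (k + 2)(M' - s')
  have h2 : (k + 2) * M' * (s' + 1) ≤ (k + 1) * (d * (s' + 1)) := by
    rw [← mul_assoc]; exact Nat.mul_le_mul_right _ hk1
  have h3 : d * (s' + 1) + (k + 2) * s' = (k + 2) * M' := by nlinarith
  have h5 : (k + 2) * (M' * (s' + 1) + (k + 1) * s') ≤ (k + 2) * ((k + 1) * M') := by nlinarith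
  have h6 : M' * (s' + 1) + (k + 1) * s' ≤ (k + 1) * M' := Nat.le_of_mul_le_mul_left h5 (by omega)
  nlinarith

/-- Every proper subgroup has index at least the number of points. -/
theorem lines_le_relIndex (h4 : 4 ≤ Fintype.card ι) (hq : 3 ≤ Nat.card F)
    (hexc : 4 ≤ Nat.card F ∨ 6 ≤ Fintype.card ι) {H : Subgroup (GL ι F)} (hH : H ≤ Isom f) (hne : H ≠ Isom f) :
    Nat.card (ℙ F (ι → F)) ≤ H.relIndex (Isom f) := by
  classical
  haveI := Fintype.ofFinite F
  by_contra hi'
  have hi := not_le.1 hi'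
  have hnoctr : ∀ x, x ≠ 0 → 2 ≤ zIdx hf H x := by
    intro x hx
    have := zIdx_pos hf H x
    by_contra h
    exact hi' (lines_le_of_ctr hf h4 hq hH hne hx (ctr_of_zIdx hf (by omega)))
  have hsemi : ∀ x, x ≠ 0 → sPar hf H x = ⊥ → sIdx hf H x = 1 := fun x hx h0 => by
    by_contra h
    exact semi_false hf h4 hq hexc hH hne hi hx h0 (two_le_sIdx hf h4 hx h)
  obtain ⟨x, hx, hs⟩ : ∃ x, x ≠ 0 ∧ sIdx hf H x ≠ 1 := by
    by_contra h
    push Not at h
    by_cases h2 : (2 : F) = 0
    · refine not_all_sIdx_one hf h2 h4 ?_ hH hne hi h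
      by_contra h3
      have hc : Fintype.card F = 3 := by rw [← Nat.card_eq_fintype_card]; omega
      have h3F : ((3 : ℕ) : F) = 0 := hc ▸ FiniteField.cast_card_eq_zero F
      push_cast at h3F
      exact one_ne_zero (show (1 : F) = 0 by linear_combination h3F - h2)
    · obtain ⟨i₀⟩ : Nonempty ι := Fintype.card_pos_iff.1 (by omega)
      have hx : (Pi.single i₀ 1 : ι → F) ≠ 0 := by simp
      have := zIdx_one_of_odd hf h4 h2 hx (h _ hx)
      have := hnoctr _ hx
      omega
  have hs2 := two_le_sIdx hf h4 hx hs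
  have hS : sPar hf H x ≠ ⊥ := fun h => hs (hsemi x hx h)
  obtain ⟨u, hu, hu', hu0⟩ : ∃ u, f u x = 0 ∧ u ∉ Submodule.span F {x} ∧ sPar hf H u = ⊥ := by
    by_contra h
    push Not at h
    exact hs (sIdx_one_of_neighbours hf h4 hH hx fun v hv hv' => h v hv hv')
  have hune : u ≠ 0 := fun e => hu' (by rw [e]; exact Submodule.zero_mem _)
  have hsu := hsemi u hune hu0
  have h2 : (2 : F) = 0 := by
    by_contra h2
    have := zIdx_one_of_odd hf h4 h2 hune hsu
    have := hnoctr u hune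
    omega
  -- the centre at x has two elements
  have hxu : f x u = 0 := (f_eq_zero_comm hf).1 hu
  have hxline : x ∉ Submodule.span F {u} := fun h => by
    obtain ⟨k, hk⟩ := Submodule.mem_span_singleton.1 h
    refine hu' (Submodule.mem_span_singleton.2 ⟨k⁻¹, ?_⟩)
    rw [← hk, smul_smul, inv_mul_cancel₀ (fun e => hx (by rw [← hk, e, zero_smul])), one_smul]
  obtain ⟨a, haS, ha0⟩ : ∃ a ∈ sPar hf H x, a ≠ 0 := by
    by_contra h
    push Not at h
    exact hS ((AddSubgroup.eq_bot_iff_forall _).2 h)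
  obtain ⟨z, hzu, hxz, -⟩ := exists_common hf hune hxline hxline
  have hzu' : f z u = 0 := hzu
  have hform : ∀ b ∈ sPar hf H x, ∀ φ : F, qel hf u ((b * φ) • x) (b * φ * φ) ∈ H := by
    intro b hb φ
    set v := (φ / f z x) • z
    have hzx : f z x ≠ 0 := fun e => hxz ((f_eq_zero_comm hf).1 e)
    have hvx : f v x = φ := by rw [hf.bilinear.smul_left, div_mul_cancel₀ _ hzx]
    have hvu : f v u = 0 := by rw [hf.bilinear.smul_left, hzu', mul_zero]
    obtain ⟨c, hc⟩ := mem_kPar_of_sIdx hf hsu hvu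
    have hb' := (mem_sPar hf).1 hb
    have h1 := H.mul_mem (H.inv_mem hc) (H.mul_mem (H.mul_mem hb' hc) (H.inv_mem hb'))
    rw [qel_conj hf (stv_mem hf x b) hvu, stv_fix hf _ _ hu, mv_stv, hvx, qel_inv hf hvu,
      qel_mul hf (by rw [f_neg_left hf, hvu, neg_zero])
        (by rw [hf.bilinear.add_left, hvu, hf.bilinear.smul_left, hxu, mul_zero, add_zero]),
      neg_add_cancel_left, neg_add_cancel, zero_add, hf.bilinear.add_left, f_neg_right hf, hf.alternating,
      hf.bilinear.smul_left, f_neg_right hf, hf.skew x v, hvx, neg_zero, zero_add, neg_neg] at h1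
    exact h1
  have hSa : ∀ b ∈ sPar hf H x, b = 0 ∨ b = a := by
    intro b hb
    by_contra hcon
    push Not at hcon
    have h1 := hform a haS 1
    have h3 := hform b hb (a / b)
    rw [mul_one, mul_one] at h1
    rw [mul_div_cancel₀ _ hcon.1] at h3
    have := eq_of_bot hf hu0 (by rw [hf.bilinear.smul_left, hxu, mul_zero]) h1 h3
    refine hcon.2 ?_
    have h5 : a * (a / b - 1) = 0 := by linear_combination -this
    rcases mul_eq_zero.1 h5 with h | h
    · exact absurd h ha0
    · rw [sub_eq_zero, div_eq_one_iff_eq hcon.1] at h; exact h.symm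
  have hcardS : Nat.card (sPar hf H x) = 2 := by
    refine le_antisymm ?_ ?_
    · rw [← Fintype.card_bool, ← Nat.card_eq_fintype_card (α := Bool)]
      refine Nat.card_le_card_of_injective (fun b : sPar hf H x => decide (b.1 = 0)) fun b c h => ?_
      simp only [decide_eq_decide] at h
      refine Subtype.ext ?_
      rcases hSa b.1 b.2 with hb | hb <;> rcases hSa c.1 c.2 with hc | hc
      · rw [hb, hc]
      · exact absurd (h.1 hb) (by rw [hc]; exact ha0)
      · exact absurd (h.2 hc) (by rw [hb]; exact ha0)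
      · rw [hb, hc]
    · by_contra h
      exact hS (AddSubgroup.eq_bot_of_card_eq _ (by have := Nat.card_pos (α := sPar hf H x); omega))
  have hz : 2 * zIdx hf H x = Nat.card F := by rw [← hcardS]; exact card_sPar_mul hf H x
  -- many cosets through every vector
  obtain ⟨r, hr, hr'⟩ := exists_indep_perp hf h4 hx
  obtain ⟨r', hr'x, hrr', -⟩ := exists_common hf hx hr' hr'
  set r'' := (f r r')⁻¹ • r' with hr''
  have hr1 : f r r'' = 1 := by rw [hf.bilinear.smul_right, inv_mul_cancel₀ hrr']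
  have hr''x : f r'' x = 0 := by
    rw [hf.bilinear.smul_left, (mem_perp hf).1 hr'x, mul_zero]
  obtain ⟨y, hy, hry⟩ := exists_pair_perp hf hx hr' hr
  have hcnt := count_eq hf h4 hx H hr hr'
  obtain ⟨⟨c₀, hc₀⟩⟩ : Nonempty (bSet hf hx H r) := by
    rcases isEmpty_or_nonempty (bSet hf hx H r) with h | h
    · rw [Nat.card_of_isEmpty, mul_zero, Nat.mul_eq_zero] at hcnt
      rcases hcnt with h | h
      · exact absurd h (aIdx_pos hf hx H).ne'
      · omega
    · exact h
  let σ : Fˣ → pStab f x := fun l => ⟨tor hf r r'' (l : F) * tor hf x y (l : F),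
    (mem_pStab hf hx).2 ⟨mul_mem (tor_mem hf hr1 l.ne_zero) (tor_mem hf hy l.ne_zero), (l : F), l.ne_zero, by
      rw [mv_mul, tor_left hf hy l.ne_zero, mv_smul, tor_fix hf hr1 l.ne_zero ((f_eq_zero_comm hf).1 hr)
        ((f_eq_zero_comm hf).1 hr''x)]⟩⟩
  have hσx : ∀ l, mv (σ l : GL ι F) x = (l : F) • x := fun l => by
    show mv (tor hf r r'' (l : F) * tor hf x y (l : F)) x = _
    rw [mv_mul, tor_left hf hy l.ne_zero, mv_smul, tor_fix hf hr1 l.ne_zero ((f_eq_zero_comm hf).1 hr)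
      ((f_eq_zero_comm hf).1 hr''x)]
  have hσr : ∀ l, mv (σ l : GL ι F) r = (l : F) • r := fun l => by
    show mv (tor hf r r'' (l : F) * tor hf x y (l : F)) r = _
    rw [mv_mul, tor_fix hf hy l.ne_zero hr hry, tor_left hf hr1 l.ne_zero]
  have hmem : ∀ l, σ l • c₀ ∈ bSet hf hx H r := fun l => by
    have := bSet_move hf hx (σ l) l.ne_zero (hσx l) hc₀
    rwa [hσr, smul_smul, inv_mul_cancel₀ l.ne_zero, one_smul] at this
  have hinj : Function.Injective fun l => (⟨σ l • c₀, hmem l⟩ : bSet hf hx H r) := by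
    intro l l' h
    have h' : σ l • c₀ = σ l' • c₀ := congrArg Subtype.val h
    induction c₀ using QuotientGroup.induction_on with
    | H g =>
      rw [MulAction.Quotient.smul_coe, MulAction.Quotient.smul_coe, smul_eq_mul, smul_eq_mul, QuotientGroup.eq,
        Subgroup.mem_subgroupOf] at h'
      simp only [Subgroup.coe_mul, Subgroup.coe_inv] at h'
      obtain ⟨k, hk, w, hw, he⟩ := h'
      obtain ⟨hgi, t, ht, hgx⟩ := (mem_pStab hf hx).1 g.2
      set m : F := (l : F)⁻¹ * l' with hm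
      have hwx : mv w x = x := by obtain ⟨v, c, hv, rfl⟩ := hw; exact qel_fix hf hv c
      have hkx : mv k x = m • x := by
        have h1 := congrArg (fun a => mv a x) he
        simp only [mv_mul, hwx, _root_.mul_inv_rev] at h1
        rw [← h1, hgx]
        simp only [mv_smul, hσx, inv_pStab hf l.ne_zero (hσx l), inv_pStab hf ht hgx, smul_smul]
        congr 1
        rw [hm]; field_simp
      have hm0 : m ≠ 0 := mul_ne_zero (inv_ne_zero l.ne_zero) l'.ne_zero
      have h1 := H.mul_mem (H.mul_mem hk.1 ((mem_sPar hf).1 haS)) (H.inv_mem hk.1)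
      rw [stv_conj hf one_ne_zero (fun p q => by rw [one_mul]; exact hH hk.1 p q), div_one, hkx, stv_smul] at h1
      rcases hSa _ ((mem_sPar hf).2 h1) with h3 | h3
      · exact absurd h3 (mul_ne_zero (mul_ne_zero hm0 hm0) ha0)
      · have hmm : m = 1 := by
          refine sq_inj hf h2 ?_
          rw [one_pow, sq]
          exact mul_right_cancel₀ ha0 (h3.trans (one_mul a).symm)
        rw [hm, inv_mul_eq_iff_eq_mul₀ l.ne_zero, mul_one] at hmm
        exact Units.ext hmm.symm
  have hb := Nat.card_le_card_of_injective _ hinj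
  rw [Nat.card_units] at hb
  have hba : Nat.card (bSet hf hx H r) ≤ aIdx hf hx H := Finite.card_subtype_le _
  have hom := omega_bound hf h4 hH hx hi
  have ha1 := Nat.mul_le_mul_left (bigM ι F - 1) hb
  rw [← hcnt] at ha1
  have hq2 : 4 ≤ Nat.card F := by
    by_contra h
    have hzq := hnoctr x hx
    omega
  have hM := bigM_ge hf h4 (F := F)
  obtain ⟨k, hk⟩ : ∃ k, Nat.card F = k + 4 := ⟨_, (Nat.sub_add_cancel hq2).symm⟩
  obtain ⟨M', hM'⟩ : ∃ M', bigM ι F = M' + 1 := ⟨_, (Nat.succ_pred_eq_of_pos (by positivity)).symm⟩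
  rw [hk, hM', Nat.add_sub_cancel, show k + 4 - 1 = k + 3 by omega, Nat.mul_sub, mul_one] at ha1
  rw [hk, show k + 4 - 1 = k + 3 by omega] at hb
  rw [hk, hM', show k + 4 - 1 = k + 3 by omega] at hom
  rw [hk, hM'] at hM
  rw [hk] at hz
  have has : (k + 3) * (M' + 1) ≤ aIdx hf hx H * sIdx hf H x := by
    have hA3 : k + 3 ≤ aIdx hf hx H := le_trans hb hba
    have : aIdx hf hx H ≤ aIdx hf hx H * sIdx hf H x := Nat.le_mul_of_pos_right _ (by omega)
    have e : (k + 3) * (M' + 1) = M' * (k + 3) + (k + 3) := by ring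
    omega
  have h7 : (k + 4) * ((k + 3) * (M' + 1)) * (k + 3) ≤
      2 * (aIdx hf hx H * (zIdx hf H x * sIdx hf H x) * (k + 3)) := by
    calc (k + 4) * ((k + 3) * (M' + 1)) * (k + 3) ≤ (2 * zIdx hf H x) * (aIdx hf hx H * sIdx hf H x) * (k + 3) := by
          rw [hz]; exact Nat.mul_le_mul_right _ (Nat.mul_le_mul_left _ has)
      _ = _ := by ring
  nlinarith [Nat.mul_le_mul_left ((k + 4) * (M' + 1)) (show 2 * (k + 4) ≤ (k + 3) * (k + 3) by nlinarith)]

end Cfsg.Agent.SpMin
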