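/-
The field with two elements: quadratic functions, the bound, and the stabiliser of a quadratic function.
-/
import Cfsg.Agent.Lib.SpMinIndex.Main

set_option autoImplicit false

namespace Cfsg.Agent.SpMin

open Matrix Cfsg.Agent.Transvec
open scoped LinearAlgebra.Projectivization

variable {ι : Type} [Fintype ι] [DecidableEq ι] {F : Type*} [Field F] [Finite F]

theorem eq_zero_or_one (h2c : Nat.card F = 2) (a : F) : a = 0 ∨ a = 1 := by
  by_contra h
  push Not at h
  haveI := Fintype.ofFinite F
  classical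
  have := Finset.card_le_univ ({0, 1, a} : Finset F)
  rw [Finset.card_insert_of_notMem (by simp [h.1.symm]), Finset.card_insert_of_notMem (by simp [h.2.symm]),
    Finset.card_singleton, ← Nat.card_eq_fintype_card, h2c] at this
  omega

open scoped Classical in
/-- The sign of an element of the field with two elements. -/
noncomputable def sgn (a : F) : ℤ := if a = 0 then 1 else -1

theorem sgn_sq (a : F) : sgn a * sgn a = 1 := by
  unfold sgn; split <;> norm_num

theorem sgn_add (h2c : Nat.card F = 2) (h2 : (2 : F) = 0) (a b : F) : sgn (a + b) = sgn a * sgn b := by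
  rcases eq_zero_or_one h2c a with rfl | rfl <;> rcases eq_zero_or_one h2c b with rfl | rfl <;>
    simp [sgn, one_add_one_eq_two, h2]

variable {f : (ι → F) → (ι → F) → F} (hf : Geo.IsSymplecticForm f)
include hf

omit [Finite F] in
/-- A function with polar form f. -/
def IsPolar (W : Submodule F (ι → F)) (Q : (ι → F) → F) : Prop :=
  ∀ u ∈ W, ∀ v ∈ W, Q (u + v) = Q u + Q v + f v u

open scoped Classical in
/-- The sum of the signs of Q over W. -/
noncomputable def signSum (W : Submodule F (ι → F)) (Q : (ι → F) → F) : ℤ :=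
  haveI := Fintype.ofFinite W
  ∑ w : W, sgn (Q (w : ι → F))

variable (h2c : Nat.card F = 2)
include h2c

theorem h2_of_card : (2 : F) = 0 := two_eq_zero_of_even (hf := hf) (by rw [h2c]; exact even_two)

theorem signSum_sq {W : Submodule F (ι → F)} (hW : Nondeg hf W) {Q : (ι → F) → F} (hQ : IsPolar (f := f) W Q) :
    signSum W Q * signSum W Q = Nat.card W := by
  classical
  letI : Fintype W := Fintype.ofFinite W
  have h2 := h2_of_card hf h2c
  have h0 : Q 0 = 0 := by
    have := hQ 0 W.zero_mem 0 W.zero_mem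
    rw [add_zero, hf.alternating, add_zero] at this
    exact left_eq_add.1 this
  have hS : signSum W Q = ∑ w : W, sgn (Q (w : ι → F)) := by
    unfold signSum; congr!
  rw [hS, Finset.sum_mul_sum]
  calc ∑ u : W, ∑ v : W, sgn (Q (u : ι → F)) * sgn (Q (v : ι → F))
      = ∑ u : W, ∑ w : W, sgn (Q (w : ι → F)) * sgn (f (w : ι → F) u) := by
        refine Finset.sum_congr rfl fun u _ => ?_
        refine (Fintype.sum_equiv (Equiv.addLeft u) _ _ fun w => ?_).symm
        rw [Equiv.coe_addLeft, Submodule.coe_add, hQ _ u.2 _ w.2, sgn_add h2c h2, sgn_add h2c h2,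
          ← mul_assoc (sgn (Q (u : ι → F))), ← mul_assoc (sgn (Q (u : ι → F))), sgn_sq, one_mul]
    _ = ∑ w : W, sgn (Q (w : ι → F)) * ∑ u : W, sgn (f (w : ι → F) u) := by
        rw [Finset.sum_comm]; simp only [Finset.mul_sum]
    _ = (Nat.card W : ℤ) := by
        rw [Finset.sum_eq_single (0 : W)]
        · simp [h0, sgn, f_zero_left hf, Nat.card_eq_fintype_card]
        · intro w _ hw
          obtain ⟨z, hz, hwz⟩ := exists_partner hf hW w.2 (fun h => hw (Subtype.ext h))
          have key : ∑ u : W, sgn (f (w : ι → F) u) = -∑ u : W, sgn (f (w : ι → F) u) := by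
            rw [← Finset.sum_neg_distrib]
            refine (Fintype.sum_equiv (Equiv.addLeft ⟨z, hz⟩) _ _ fun u => ?_).symm
            rw [Equiv.coe_addLeft, Submodule.coe_add, hf.bilinear.add_right, hwz, sgn_add h2c h2]
            rw [show sgn (1 : F) = -1 from if_neg one_ne_zero]; ring
          rw [show ∑ u : W, sgn (f (w : ι → F) u) = 0 by omega, mul_zero]
        · intro h; exact absurd (Finset.mem_univ _) h

theorem zeros_eq (W : Submodule F (ι → F)) (Q : (ι → F) → F) :
    2 * (Nat.card {w : W // Q (w : ι → F) = 0} : ℤ) = Nat.card W + signSum W Q := by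
  classical
  letI : Fintype W := Fintype.ofFinite W
  have hS : signSum W Q = ∑ w : W, sgn (Q (w : ι → F)) := by
    unfold signSum; congr!
  rw [hS, Nat.card_eq_fintype_card, Nat.card_eq_fintype_card, Fintype.card_subtype, Finset.card_filter,
    ← Finset.card_univ, Finset.card_eq_sum_ones]
  push_cast
  rw [Finset.mul_sum, ← Finset.sum_add_distrib]
  refine Finset.sum_congr rfl fun w _ => ?_
  by_cases h : Q (w : ι → F) = 0 <;> simp [sgn, h]

/-! ### The bound -/

variable {m : ℕ} (hn : Fintype.card ι = 2 * m) (hm : 3 ≤ m)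
include hn hm

theorem bigM_two : bigM ι F = 2 ^ (m - 1) * 2 ^ (m - 1) := by
  rw [bigM, h2c, hn, ← pow_add]; congr 1; omega

theorem lines_two : Nat.card (ℙ F (ι → F)) + 1 = 4 * bigM ι F := by
  have := card_lines hf (by omega : 4 ≤ Fintype.card ι) (F := F)
  rw [h2c] at this
  simpa using this

theorem semi_bound {H : Subgroup (GL ι F)} (hH : H ≤ Isom f) {x : ι → F} (hx : x ≠ 0) (h0 : sPar hf H x = ⊥)
    (hs : sIdx hf H x = 1) : bigM ι F - 2 ^ (m - 1) ≤ H.relIndex (pStab f x) := by
  classical
  have h4 : 4 ≤ Fintype.card ι := by omega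
  have h2 := h2_of_card hf h2c
  rw [omega_eq hf h4 hx, hs, card_sPar_of_bot hf h0, h2c]
  have hhom : ∀ v, f v x = 0 → ∀ t : F, cFun hf H x (t • v) = t ^ 2 * cFun hf H x v := fun v hv t => by
    rcases eq_zero_or_one h2c t with rfl | rfl
    · rw [zero_smul, cFun_zero hf h2 hs h0]; ring
    · rw [one_smul]; ring
  have hG := card_gSet_le hf h2 hH hx hs h0 hhom
  rw [h2c] at hG
  obtain ⟨y, hy⟩ := exists_pair hf hx
  set W := orth hf (Submodule.span F {x, y})
  have hWx : ∀ w ∈ W, f w x = 0 := fun w hw => ((mem_orth_pair hf).1 hw).1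
  have hnd : Nondeg hf W := by
    have h1 := (nondeg_sup_pair hf (nondeg_bot hf) (e := x) (d := y)
      (fun u hu => by rw [(Submodule.mem_bot F).1 hu, f_zero_left hf])
      (fun u hu => by rw [(Submodule.mem_bot F).1 hu, f_zero_left hf]) hy).1
    rw [bot_sup_eq] at h1
    exact nondeg_orth hf h1
  have hyline : y ∉ Submodule.span F {x} := fun h => by
    obtain ⟨k, rfl⟩ := Submodule.mem_span_singleton.1 h
    rw [hf.bilinear.smul_right, hf.alternating, mul_zero] at hy
    exact zero_ne_one hy
  have hWc : Nat.card W = bigM ι F := by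
    have := card_orth hf h4 (Submodule.span F {x, y})
    rw [card_span_pair hf hx hyline, mul_comm (Nat.card F ^ 2)] at this
    exact Nat.eq_of_mul_eq_mul_right (by positivity) this
  have hQ : IsPolar (f := f) W (cFun hf H x) := fun u hu v hv => by
    rw [cFun_add hf h2 hs h0 (hWx u hu) (hWx v hv)]
  have hsq := signSum_sq hf h2c hnd hQ
  have hz := zeros_eq hf h2c W (cFun hf H x)
  -- zeros give cosets
  have hinj : Nat.card ({w : W // cFun hf H x (w : ι → F) = 0} × F) ≤ Nat.card (gSet hf H x) := by
    refine Nat.card_le_card_of_injective (fun p => (⟨p.1.1.1 + p.2 • x, ?_, 1, ?_⟩ : gSet hf H x)) ?_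
    · rw [hf.bilinear.add_left, hWx _ p.1.1.2, hf.bilinear.smul_left, hf.alternating, mul_zero, add_zero]
    · rw [cFun_line hf h2 hs h0 (hWx _ p.1.1.2), p.1.2]; ring
    · rintro ⟨⟨⟨w, hw⟩, hwc⟩, e⟩ ⟨⟨⟨w', hw'⟩, hwc'⟩, e'⟩ h
      have h' : w + e • x = w' + e' • x := congrArg Subtype.val h
      have he : e = e' := by
        have := congrArg (fun z => f z y) h'
        simp only [hf.bilinear.add_left, hf.bilinear.smul_left, hy, mul_one, ((mem_orth_pair hf).1 hw).2,
          ((mem_orth_pair hf).1 hw').2, zero_add] at this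
        exact this
      subst he
      rw [add_left_inj] at h'
      subst h'
      rfl
  rw [Nat.card_prod, h2c] at hinj
  rw [hWc, bigM_two hf h2c hn hm] at hsq hz
  rw [bigM_two hf h2c hn hm]
  set p := 2 ^ (m - 1)
  set Z := Nat.card {w : W // cFun hf H x (w : ι → F) = 0}
  set S := signSum W (cFun hf H x)
  have hS : S = (p : ℤ) ∨ S = -(p : ℤ) := by
    push_cast at hsq
    exact mul_self_eq_mul_self_iff.1 hsq
  have : ((p * p : ℕ) : ℤ) - p ≤ 2 * Z := by
    rw [hz]; push_cast
    rcases hS with h | h <;> rw [h] <;> linarith [Int.natCast_nonneg p]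
  have hZa : Z * 2 ≤ aIdx hf hx H * 2 := hinj.trans hG
  omega

/-- The bound for the field with two elements. -/
theorem bound_two {H : Subgroup (GL ι F)} (hH : H ≤ Isom f) (hne : H ≠ Isom f) :
    2 ^ (m - 1) * (2 ^ m - 1) ≤ H.relIndex (Isom f) := by
  classical
  have h4 : 4 ≤ Fintype.card ι := by omega
  have h2 := h2_of_card hf h2c
  have hB : 2 ^ (m - 1) * (2 ^ m - 1) = 2 * bigM ι F - 2 ^ (m - 1) := by
    rw [Nat.mul_sub, mul_one, bigM_two hf h2c hn hm, show 2 ^ m = 2 * 2 ^ (m - 1) by
      rw [← pow_succ']; congr 1; omega]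
    congr 1; ring
  rw [hB]
  by_contra hi
  have hM := bigM_ge hf h4 (F := F)
  have hN := lines_two hf h2c hn hm
  have hp : 0 < 2 ^ (m - 1) := by positivity
  have hiN : H.relIndex (Isom f) < Nat.card (ℙ F (ι → F)) := by omega
  have hz : ∀ x, Ctr hf H x ∨ sPar hf H x = ⊥ := by
    intro x
    by_cases h : sPar hf H x = ⊥
    · exact Or.inr h
    · refine Or.inl fun c => ?_
      obtain ⟨a, ha, ha0⟩ : ∃ a ∈ sPar hf H x, a ≠ 0 := by
        by_contra h'
        push Not at h'
        exact h ((AddSubgroup.eq_bot_iff_forall _).2 h')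
      rcases eq_zero_or_one h2c c with rfl | rfl
      · rw [stv_zero]; exact H.one_mem
      · exact (mem_sPar hf).1 (by rwa [(eq_zero_or_one h2c a).resolve_left ha0] at ha)
  have hctr : ∀ x, x ≠ 0 → Ctr hf H x → bigM ι F ≤ H.relIndex (pStab f x) := by
    intro x hx hC
    have hs := two_le_sIdx hf h4 hx fun h =>
      absurd (lines_le_of_full hf h4 hH hne hx (full_of_idx hf (zIdx_of_ctr hf hC) h)) (not_le.2 hiN)
    have := zM_le_omega hf h4 hx H hs
    rwa [zIdx_of_ctr hf hC, one_mul] at this
  have hsemi : ∀ x, x ≠ 0 → sPar hf H x = ⊥ → sIdx hf H x = 1 := by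
    intro x hx h0
    by_contra h
    have := zM_le_omega hf h4 hx H (two_le_sIdx hf h4 hx h)
    rw [card_sPar_of_bot hf h0, h2c] at this
    have := this.trans (omega_le hf hx hH)
    omega
  by_cases hboth : ∃ x, x ≠ 0 ∧ Ctr hf H x
  · obtain ⟨x, hx, hxC⟩ := hboth
    obtain ⟨y, hy, hyC⟩ : ∃ y, y ≠ 0 ∧ ¬ Ctr hf H y := by
      by_contra h
      push Not at h
      exact hne (eq_isom_of_ctr hf hH h)
    have hy0 := (hz y).resolve_left hyC
    have hne' : ¬ ∃ h ∈ H, ∃ t : F, t ≠ 0 ∧ mv h x = t • y := by
      rintro ⟨h, hh, t, ht, hxy⟩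
      refine hyC ?_
      have := ctr_smul hf (ctr_conj hf hh (hH hh) hxC) t⁻¹
      rwa [hxy, smul_smul, inv_mul_cancel₀ ht, one_smul] at this
    have h1 := omega_add hf hx hy hH hne'
    have h3 := hctr x hx hxC
    have h5 := semi_bound hf h2c hn hm hH hy hy0 (hsemi y hy hy0)
    omega
  · push Not at hboth
    have hall : ∀ x, x ≠ 0 → sPar hf H x = ⊥ := fun x hx => (hz x).resolve_left (hboth x hx)
    have hs1 := fun x hx => hsemi x hx (hall x hx)
    have hnostv : ∀ v, v ≠ 0 → stv hf v 1 ∉ H := fun v hv h =>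
      one_ne_zero (AddSubgroup.mem_bot.1 ((hall v hv).le ((mem_sPar hf).2 h)))
    have hadd_ne : ∀ {a b : ι → F}, a ≠ 0 → b ∉ Submodule.span F {a} → a + b ≠ 0 := fun {a b} _ hb e =>
      hb (by rw [eq_neg_of_add_eq_zero_right e]
             exact Submodule.neg_mem _ (Submodule.mem_span_singleton_self a))
    -- symmetry
    have hsym : ∀ x u, x ≠ 0 → f u x = 0 → u ∉ Submodule.span F {x} →
        cFun hf H u x = cFun hf H x u := by
      intro x u hx hu hu'
      have hu0 : u ≠ 0 := fun e => hu' (by rw [e]; exact Submodule.zero_mem _)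
      have hxu : f x u = 0 := (f_eq_zero_comm hf).1 hu
      have hA := cFun_mem hf h2 (hs1 x hx) hu
      have hB := cFun_mem hf h2 (hs1 u hu0) hxu
      rcases eq_zero_or_one h2c (cFun hf H x u) with e1 | e1 <;>
        rcases eq_zero_or_one h2c (cFun hf H u x) with e2 | e2 <;> rw [e1, e2]
      · exfalso
        have h := H.mul_mem hA hB
        rw [e1, e2] at h
        have := qel_mul_eq_stv hf h2 hu (A := 0) (B := 1) (d := 1) (d' := 1) (al := 0) (be := 1) (by ring) (by ring)
          (by rw [add_self_char hf h2]; ring)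
        simp only [one_smul, zero_smul, zero_add] at this
        exact hnostv u hu0 (this ▸ h)
      · exfalso
        have h := H.mul_mem hA hB
        rw [e1, e2] at h
        have := qel_mul_eq_stv hf h2 hu (A := 1) (B := 0) (d := 1) (d' := 1) (al := 1) (be := 0) (by ring) (by ring)
          (by rw [add_self_char hf h2]; ring)
        simp only [one_smul, zero_smul, add_zero] at this
        exact hnostv x hx (this ▸ h)
    -- two ones on a totally isotropic plane
    have hpair : ∀ x u v, x ≠ 0 → f u x = 0 → u ∉ Submodule.span F {x} → f v x = 0 →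
        v ∉ Submodule.span F {x} → f v u = 0 → v ∉ Submodule.span F {u} →
        cFun hf H x u = 1 → cFun hf H x v = 1 → cFun hf H u v = 1 := by
      intro x u v hx hu hu' hv hv' hvu hvu' e1 e2
      have hu0 : u ≠ 0 := fun e => hu' (by rw [e]; exact Submodule.zero_mem _)
      have hv0 : v ≠ 0 := fun e => hv' (by rw [e]; exact Submodule.zero_mem _)
      have tt : ∀ w, f w x = 0 → w ∉ Submodule.span F {x} → cFun hf H x w = 1 →
          ∀ z, ∃ g ∈ H, mv g z = z + f z x • x + f z w • w := by
        intro w hw hw' e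
        have hw0 : w ≠ 0 := fun e' => hw' (by rw [e']; exact Submodule.zero_mem _)
        have hA := cFun_mem hf h2 (hs1 x hx) hw
        have hB := cFun_mem hf h2 (hs1 w hw0) ((f_eq_zero_comm hf).1 hw)
        rw [e] at hA
        rw [hsym x w hx hw hw', e] at hB
        intro z
        refine ⟨_, H.mul_mem hA hB, ?_⟩
        have := qel_mul_qel hf h2 hw 1 1 1 1 z
        rw [one_smul, one_smul] at this
        rw [this, add_self_char hf h2, zero_mul, zero_mul, one_mul, one_mul, add_zero, zero_add]
      have hA := cFun_mem hf h2 (hs1 x hx) hu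
      have hB := cFun_mem hf h2 (hs1 u hu0) ((f_eq_zero_comm hf).1 hu)
      have hA' := cFun_mem hf h2 (hs1 x hx) hv
      have hB' := cFun_mem hf h2 (hs1 v hv0) ((f_eq_zero_comm hf).1 hv)
      rw [e1] at hA; rw [hsym x u hx hu hu', e1] at hB
      rw [e2] at hA'; rw [hsym x v hx hv hv', e2] at hB'
      rcases eq_zero_or_one h2c (cFun hf H u v) with e3 | e3
      swap
      · exact e3
      exfalso
      have hC := cFun_mem hf h2 (hs1 u hu0) hvu
      rw [e3] at hC
      have h := H.mul_mem (H.mul_mem (H.mul_mem hA hB) (H.mul_mem hA' hB')) hC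
      refine hnostv (u + v) (hadd_ne hu0 hvu') ?_
      convert h using 1
      refine ext_mv fun z => ?_
      have q1 : ∀ z, mv (qel hf x u 1 * qel hf u x 1) z = z + f z x • x + f z u • u := fun z => by
        have := qel_mul_qel hf h2 hu 1 1 1 1 z
        rw [one_smul, one_smul] at this
        rw [this, add_self_char hf h2, zero_mul, zero_mul, one_mul, one_mul, add_zero, zero_add]
      have q2 : ∀ z, mv (qel hf x v 1 * qel hf v x 1) z = z + f z x • x + f z v • v := fun z => by
        have := qel_mul_qel hf h2 hv 1 1 1 1 z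
        rw [one_smul, one_smul] at this
        rw [this, add_self_char hf h2, zero_mul, zero_mul, one_mul, one_mul, add_zero, zero_add]
      rw [mv_mul _ (qel hf u v 0), mv_mul (qel hf x u 1 * qel hf u x 1), q2, q1, mv_qel hf hvu, mv_stv]
      have hxu : f x u = 0 := (f_eq_zero_comm hf).1 hu
      have hxv : f x v = 0 := (f_eq_zero_comm hf).1 hv
      have huv : f u v = 0 := (f_eq_zero_comm hf).1 hvu
      simp only [hf.bilinear.add_left, hf.bilinear.add_right, hf.bilinear.smul_left, hf.alternating, hu, hv, hxu, hxv,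
        huv, hvu, zero_mul, zero_smul, mul_zero, add_zero, one_mul]
      match_scalars
      all_goals first | linear_combination (0 : F) | linear_combination (f z x) * h2 | linear_combination -(f z x) * h2
    have hzero : ∀ x u, x ≠ 0 → f u x = 0 → u ∉ Submodule.span F {x} → cFun hf H x u = 0 := by
      intro x u hx hu hu'
      by_contra hne1
      have e1 : cFun hf H x u = 1 := (eq_zero_or_one h2c _).resolve_left hne1
      have hu0 : u ≠ 0 := fun e => hu' (by rw [e]; exact Submodule.zero_mem _)
      have hclaim : ∀ v, f v x = 0 → f v u = 0 → v ∉ Submodule.span F {x, u} → cFun hf H x v = 0 := by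
        intro v hv hvu hv'
        by_contra hne2
        have e2 : cFun hf H x v = 1 := (eq_zero_or_one h2c _).resolve_left hne2
        have hvx' : v ∉ Submodule.span F {x} := fun h => hv' (Submodule.span_mono (by simp) h)
        have hvu' : v ∉ Submodule.span F {u} := fun h => hv' (Submodule.span_mono (by simp) h)
        have hxv : x + v ∉ Submodule.span F {u} := fun h => hv' (by
          have h1 : x + v ∈ Submodule.span F {x, u} := Submodule.span_mono (by simp) h
          exact (Submodule.add_mem_iff_right _ (Submodule.subset_span (by simp))).1 h1)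
        have hxv2 : x + v ∉ Submodule.span F {x} := fun h => hvx'
          ((Submodule.add_mem_iff_right _ (Submodule.mem_span_singleton_self x)).1 h)
        have hxvx : f (x + v) x = 0 := by rw [hf.bilinear.add_left, hf.alternating, hv, add_zero]
        have hxvu : f (x + v) u = 0 := by rw [hf.bilinear.add_left, (f_eq_zero_comm hf).1 hu, hvu, add_zero]
        have e3 : cFun hf H x (x + v) = 1 := by
          rw [add_comm, show v + x = v + (1 : F) • x by rw [one_smul], cFun_line hf h2 (hs1 _ hx) (hall _ hx) hv, e2]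
        have a1 := hpair x u v hx hu hu' hv hvx' hvu hvu' e1 e2
        have a2 := hpair x u (x + v) hx hu hu' hxvx hxv2 hxvu hxv e1 e3
        rw [cFun_add hf h2 (hs1 u hu0) (hall u hu0) ((f_eq_zero_comm hf).1 hu) hvu, a1,
          hsym x u hx hu hu', e1, hv, add_zero, add_self_char hf h2] at a2
        exact zero_ne_one a2
      -- a vector orthogonal to both outside their span
      obtain ⟨v, hv, hv'⟩ : ∃ v ∈ orth hf (Submodule.span F {x, u}), v ∉ Submodule.span F {x, u} := by
        by_contra h
        push Not at h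
        have h1 := Nat.card_le_card_of_injective
          (fun v : orth hf (Submodule.span F {x, u}) => (⟨v.1, h _ v.2⟩ : Submodule.span F {x, u}))
          (fun a b e => Subtype.ext (congrArg Subtype.val e :))
        have h3 := card_orth hf h4 (Submodule.span F {x, u})
        rw [card_span_pair hf hx hu'] at h1 h3
        rw [h2c] at h1 h3
        have hM8 : 16 ≤ bigM ι F := by
          rw [bigM, h2c, show 16 = 2 ^ 4 by rfl]
          exact Nat.pow_le_pow_right (by norm_num) (by omega)
        nlinarith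
      obtain ⟨hvx, hvu⟩ := (mem_orth_pair hf).1 hv
      have h3 : cFun hf H x (u + v) = 0 := hclaim _ (f_add_line hf hu hvx)
        (by rw [hf.bilinear.add_left, hf.alternating, hvu, add_zero]) fun h =>
          hv' ((Submodule.add_mem_iff_right _ (Submodule.subset_span (by simp))).1 h)
      rw [cFun_add hf h2 (hs1 x hx) (hall x hx) hu hvx, e1, hclaim v hvx hvu hv', hvu, add_zero, add_zero] at h3
      exact one_ne_zero h3
    obtain ⟨i₀⟩ : Nonempty ι := Fintype.card_pos_iff.1 (by omega)
    have hx : (Pi.single i₀ 1 : ι → F) ≠ 0 := by simp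
    obtain ⟨u, hu, hu'⟩ := exists_indep_perp hf h4 hx
    obtain ⟨z, hzp, huz, -⟩ := exists_common hf hx hu' hu'
    have hz' : z ∉ Submodule.span F {(Pi.single i₀ 1 : ι → F)} := fun h => by
      obtain ⟨k, rfl⟩ := Submodule.mem_span_singleton.1 h
      exact huz (by rw [hf.bilinear.smul_right, hu, mul_zero])
    have hzu : u + z ∉ Submodule.span F {(Pi.single i₀ 1 : ι → F)} := fun h => by
      obtain ⟨k, hk⟩ := Submodule.mem_span_singleton.1 h
      have := congrArg (f u) hk
      rw [hf.bilinear.smul_right, hu, mul_zero, hf.bilinear.add_right, hf.alternating, zero_add] at this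
      exact huz this.symm
    have := cFun_add hf h2 (hs1 _ hx) (hall _ hx) hu hzp
    rw [hzero _ _ hx (f_add_line hf hu hzp) hzu, hzero _ _ hx hu hu', hzero _ _ hx hzp hz', zero_add, zero_add] at this
    exact huz ((f_eq_zero_comm hf).1 this.symm)

/-- A subgroup attaining the bound. -/
theorem attain_two {Q : (ι → F) → F} (hQ : IsPolar (f := f) ⊤ Q) :
    ∃ K : Subgroup (GL ι F), K ≤ Isom f ∧ K.relIndex (Isom f) = 2 ^ (m - 1) * (2 ^ m - 1) := by
  classical
  have h4 : 4 ≤ Fintype.card ι := by omega
  have h2 := h2_of_card hf h2c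
  have hVc : Nat.card (⊤ : Submodule F (ι → F)) = 2 ^ m * 2 ^ m := by
    rw [Nat.card_congr (Submodule.topEquiv (R := F) (M := ι → F)).toEquiv, Nat.card_fun, h2c, Nat.card_eq_fintype_card, hn, ← pow_add]
    congr 1; omega
  have hadd : ∀ Q' : (ι → F) → F, IsPolar (f := f) ⊤ Q' → ∀ u v, Q' (u + v) = Q' u + Q' v + f v u :=
    fun Q' h u v => h u trivial v trivial
  -- shifting
  have hshift : ∀ Q', IsPolar (f := f) ⊤ Q' → ∀ r, IsPolar (f := f) ⊤ (fun v => Q' v + f v r) ∧
      signSum ⊤ (fun v => Q' v + f v r) = sgn (Q' r) * signSum ⊤ Q' := by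
    intro Q' h r
    refine ⟨fun u hu v hv => ?_, ?_⟩
    · show Q' (u + v) + f (u + v) r = _
      rw [h u hu v hv, hf.bilinear.add_left]; ring
    · letI : Fintype (⊤ : Submodule F (ι → F)) := Fintype.ofFinite _
      have e : ∀ Q'' : (ι → F) → F, signSum ⊤ Q'' = ∑ w : (⊤ : Submodule F (ι → F)), sgn (Q'' (w : ι → F)) := by
        intro Q''; unfold signSum; congr!
      rw [e, e, Finset.mul_sum]
      refine Fintype.sum_equiv (Equiv.addLeft ⟨r, trivial⟩) _ _ fun w => ?_
      rw [Equiv.coe_addLeft, Submodule.coe_add, hadd Q' h, ← sgn_add h2c h2]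
      congr 1
      linear_combination -(Q' r) * h2
  obtain ⟨Q₀, hQ₀, hS₀⟩ : ∃ Q₀, IsPolar (f := f) ⊤ Q₀ ∧ signSum ⊤ Q₀ = -(2 : ℤ) ^ m := by
    have hsq := signSum_sq hf h2c (nondeg_top hf) hQ
    rw [hVc] at hsq
    push_cast at hsq
    rcases mul_self_eq_mul_self_iff.1 hsq with h | h
    · obtain ⟨r, hr⟩ : ∃ r, Q r ≠ 0 := by
        by_contra hall
        push Not at hall
        obtain ⟨i₀⟩ : Nonempty ι := Fintype.card_pos_iff.1 (by omega)
        obtain ⟨y, hy⟩ := exists_pair hf (show (Pi.single i₀ 1 : ι → F) ≠ 0 by simp)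
        have := hadd Q hQ y (Pi.single i₀ 1)
        rw [hall, hall, hall, hy, add_zero, zero_add] at this
        exact zero_ne_one this
      refine ⟨_, (hshift Q hQ r).1, ?_⟩
      rw [(hshift Q hQ r).2, h, sgn, if_neg hr, neg_one_mul]
    · exact ⟨Q, hQ, h⟩
  let img : Isom f → ((ι → F) → F) := fun g v => Q₀ (mv (g : GL ι F)⁻¹ v)
  let K : Subgroup (GL ι F) :=
    { carrier := {g | g ∈ Isom f ∧ ∀ v, Q₀ (mv g v) = Q₀ v}
      one_mem' := ⟨one_mem _, fun v => by rw [mv_one]⟩
      mul_mem' := fun {a b} ha hb => ⟨mul_mem ha.1 hb.1, fun v => by rw [mv_mul, ha.2, hb.2]⟩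
      inv_mem' := fun {a} ha => ⟨inv_mem ha.1, fun v => by
        conv_rhs => rw [← mv_mv_inv a v, ha.2]⟩ }
  refine ⟨K, fun g hg => hg.1, ?_⟩
  have hrange : Nat.card (Set.range img) = K.relIndex (Isom f) := by
    refine card_range_eq_index _ img fun a b => ?_
    rw [Subgroup.mem_subgroupOf, Subgroup.coe_mul, Subgroup.coe_inv]
    refine ⟨fun h => ⟨mul_mem (inv_mem a.2) b.2, fun v => ?_⟩, fun h => funext fun v => ?_⟩
    · have := congrFun h (mv (b : GL ι F) v)
      simp only [img, mv_inv_mv] at this
      rw [mv_mul, this]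
    · have := h.2 (mv (b : GL ι F)⁻¹ v)
      rw [mv_mul, mv_mv_inv] at this
      exact this
  have hchar : Set.range img = (fun r v => Q₀ v + f v r) '' {r | Q₀ r = 0} := by
    refine Set.ext fun Q' => ⟨?_, ?_⟩
    · rintro ⟨g, rfl⟩
      have hgi : (g : GL ι F)⁻¹ ∈ Isom f := inv_mem g.2
      have hpol : ∀ u v, img g (u + v) = img g u + img g v + f v u := fun u v => by
        show Q₀ (mv _ (u + v)) = _
        rw [mv_add, hadd Q₀ hQ₀]
        congr 1
        exact hgi v u
      let D : Module.Dual F (ι → F) :=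
        { toFun := fun v => img g v + Q₀ v
          map_add' := fun u v => by
            rw [hpol, hadd Q₀ hQ₀]; linear_combination f v u * h2
          map_smul' := fun t v => by
            rcases eq_zero_or_one h2c t with rfl | rfl
            · have h0 : Q₀ 0 = 0 := by
                have := hadd Q₀ hQ₀ 0 0
                rw [add_zero, hf.alternating, add_zero] at this
                exact left_eq_add.1 this
              simp [img, mv_zero, h0]
            · simp }
      obtain ⟨r, hr⟩ := exists_eq_f hf D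
      have himg : img g = fun v => Q₀ v + f v r := funext fun v => by
        rw [← hr v]
        show img g v = Q₀ v + (img g v + Q₀ v)
        linear_combination -(Q₀ v) * h2
      refine ⟨r, ?_, himg.symm⟩
      -- the sign sum is invariant
      letI : Fintype (⊤ : Submodule F (ι → F)) := Fintype.ofFinite _
      have e : ∀ Q'' : (ι → F) → F, signSum ⊤ Q'' = ∑ w : (⊤ : Submodule F (ι → F)), sgn (Q'' (w : ι → F)) := by
        intro Q''; unfold signSum; congr!
      have h1 : signSum ⊤ (img g) = signSum ⊤ Q₀ := by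
        rw [e, e]
        exact Fintype.sum_equiv
          { toFun := fun w => ⟨mv (g : GL ι F)⁻¹ (w : ι → F), trivial⟩
            invFun := fun w => ⟨mv (g : GL ι F) (w : ι → F), trivial⟩
            left_inv := fun w => Subtype.ext (mv_mv_inv _ _)
            right_inv := fun w => Subtype.ext (mv_inv_mv _ _) } _ _ fun w => rfl
      rw [himg, (hshift Q₀ hQ₀ r).2, hS₀] at h1
      show Q₀ r = 0
      by_contra hr0
      rw [sgn, if_neg hr0] at h1
      have : (0 : ℤ) < 2 ^ m := by positivity
      omega
    · rintro ⟨r, hr, rfl⟩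
      refine ⟨⟨stv hf r 1, stv_mem hf r 1⟩, funext fun v => ?_⟩
      show Q₀ (mv (stv hf r 1)⁻¹ v) = Q₀ v + f v r
      rw [show (stv hf r 1)⁻¹ = stv hf r 1 from stv_inv_two hf h2 r 1, mv_stv, one_mul]
      rcases eq_zero_or_one h2c (f v r) with h | h
      · rw [h, zero_smul, add_zero, add_zero]
      · have hr' : Q₀ r = 0 := hr
        rw [h, one_smul, hadd Q₀ hQ₀, hr', f_symm hf h2 r v, h, add_zero]
  rw [← hrange, hchar, Nat.card_image_of_injective fun r r' h => ?_]
  · have hz := zeros_eq hf h2c ⊤ Q₀
    rw [hVc, hS₀] at hz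
    have e : Nat.card {r | Q₀ r = 0} = Nat.card {w : (⊤ : Submodule F (ι → F)) // Q₀ (w : ι → F) = 0} :=
      Nat.card_congr
        { toFun := fun r => ⟨⟨r.1, trivial⟩, r.2⟩
          invFun := fun w => ⟨w.1.1, w.2⟩
          left_inv := fun _ => rfl
          right_inv := fun _ => rfl }
    rw [e]
    zify [Nat.one_le_two_pow]
    have h3 : (2 : ℤ) ^ m = 2 * 2 ^ (m - 1) := by rw [← pow_succ']; congr 1; omega
    push_cast at hz ⊢
    rw [h3] at hz ⊢
    linarith
  · have h' : ∀ v, f v r = f v r' := fun v => add_left_cancel (congrFun h v)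
    by_contra hne
    obtain ⟨z, hz⟩ := exists_pair hf (sub_ne_zero.2 hne)
    rw [f_symm hf h2, f_sub_right hf, h', sub_self] at hz
    exact zero_ne_one hz

end Cfsg.Agent.SpMin
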