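/-
Minimal index of the projective symplectic groups.
-/
import Cfsg.Agent.Lib.SpMinIndex.Two
import Cfsg.Agent.Lib.Transvec.SympStd
import Cfsg.Agent.Lib.Classical.Symplectic
import Cfsg.Prelude.Def_Classical

set_option autoImplicit false

namespace Cfsg.Agent.SpMin

open Matrix Cfsg.Agent.Transvec
open scoped LinearAlgebra.Projectivization

variable {F : Type*} [Field F] [Finite F] {m : ℕ}

/-- The symplectic group as the isometry group of the standard form. -/
noncomputable def spEquiv (m : ℕ) (F : Type*) [Field F] :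
    Matrix.symplecticGroup (Fin m) F ≃* Isom (Cfsg.sympForm m F) where
  toFun A := ⟨GeneralLinearGroup.mkOfDetNeZero A.1 (SymplecticGroup.symplectic_det A.2).ne_zero,
    fun u v => (ClassicalSp.mem_iff_preserves A.1).1 A.2 u v⟩
  invFun g := ⟨g.1.1, (ClassicalSp.mem_iff_preserves _).2 g.2⟩
  left_inv A := Subtype.ext rfl
  right_inv g := Subtype.ext (Units.ext rfl)
  map_mul' A B := Subtype.ext (Units.ext rfl)

/-- A subgroup of the projective group gives one of the isometry group of the same index. -/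
theorem exists_linear (H : Subgroup (Cfsg.PSp m F)) (hH : H ≠ ⊤) :
    ∃ K : Subgroup (GL (Fin m ⊕ Fin m) F), K ≤ Isom (Cfsg.sympForm m F) ∧ K ≠ Isom (Cfsg.sympForm m F) ∧
      K.relIndex (Isom (Cfsg.sympForm m F)) = H.index := by
  let π : Matrix.symplecticGroup (Fin m) F →* Cfsg.PSp m F := QuotientGroup.mk' _
  let φ : Isom (Cfsg.sympForm m F) →* Cfsg.PSp m F := π.comp (spEquiv m F).symm.toMonoidHom
  have hφ : Function.Surjective φ := (QuotientGroup.mk'_surjective _).comp (spEquiv m F).symm.surjective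
  have hidx : ((H.comap φ).map (Isom (Cfsg.sympForm m F)).subtype).relIndex (Isom (Cfsg.sympForm m F)) = H.index := by
    rw [Subgroup.relIndex, ← Subgroup.comap_subtype, Subgroup.comap_map_eq_self_of_injective Subtype.val_injective,
      Subgroup.index_comap_of_surjective _ hφ]
  refine ⟨_, Subgroup.map_subtype_le _, fun h => hH ?_, hidx⟩
  rw [h, Subgroup.relIndex_self] at hidx
  exact Subgroup.index_eq_one.1 hidx.symm

/-- A subgroup of the isometry group containing the centre gives one of the projective group. -/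
theorem exists_projective (K : Subgroup (GL (Fin m ⊕ Fin m) F))
    (hK : ∀ g ∈ Isom (Cfsg.sympForm m F), (∀ h ∈ Isom (Cfsg.sympForm m F), h * g = g * h) → g ∈ K) :
    ∃ H : Subgroup (Cfsg.PSp m F), H.index = K.relIndex (Isom (Cfsg.sympForm m F)) := by
  let π : Matrix.symplecticGroup (Fin m) F →* Cfsg.PSp m F := QuotientGroup.mk' _
  refine ⟨((K.subgroupOf _).comap (spEquiv m F).toMonoidHom).map π, ?_⟩
  rw [Subgroup.index_map_eq _ (QuotientGroup.mk'_surjective _) ?_,
    Subgroup.index_comap_of_surjective _ (spEquiv m F).surjective, Subgroup.relIndex]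
  rw [QuotientGroup.ker_mk']
  intro A hA
  rw [Subgroup.mem_comap, Subgroup.mem_subgroupOf]
  refine hK _ (spEquiv m F A).2 fun h hh => ?_
  have := Subgroup.mem_center_iff.1 hA ((spEquiv m F).symm ⟨h, hh⟩)
  exact congrArg Subtype.val (show (⟨h, hh⟩ : Isom (Cfsg.sympForm m F)) * spEquiv m F A = spEquiv m F A * ⟨h, hh⟩ by
    rw [← (spEquiv m F).apply_symm_apply ⟨h, hh⟩, ← map_mul, ← map_mul, this])

theorem card_fin_sum (m : ℕ) : Fintype.card (Fin m ⊕ Fin m) = 2 * m := by
  rw [Fintype.card_sum, Fintype.card_fin, two_mul]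

/-- A central isometry fixes every line. -/
theorem central_line {g : GL (Fin m ⊕ Fin m) F} (hg : g ∈ Isom (Cfsg.sympForm m F))
    (hc : ∀ h ∈ Isom (Cfsg.sympForm m F), h * g = g * h) {x : Fin m ⊕ Fin m → F} (hx : x ≠ 0) :
    g ∈ pStab (Cfsg.sympForm m F) x := by
  have hf := sympForm_isSymplectic m F
  refine (mem_pStab hf hx).2 ⟨hg, ?_⟩
  obtain ⟨y, hy⟩ := exists_pair hf (show mv g x ≠ 0 from fun h => hx (mv_inj g (h.trans (mv_zero g).symm)))
  have h1 := congrArg (fun a => mv a y) (stv_conj hf (g := g) one_ne_zero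
    (fun a b => by rw [one_mul]; exact hg a b) x 1)
  rw [show g * stv hf x 1 * g⁻¹ = stv hf x 1 by rw [← hc _ (stv_mem hf x 1), mul_inv_cancel_right]] at h1
  simp only [div_one, mv_stv, one_mul, add_right_inj] at h1
  rw [hf.skew y (mv g x), hy, neg_smul, one_smul] at h1
  refine ⟨-(Cfsg.sympForm m F y x), fun h => ?_, by rw [neg_smul, h1, neg_neg]⟩
  rw [neg_eq_zero] at h
  rw [h, zero_smul, eq_comm, neg_eq_zero] at h1
  exact hx (mv_inj g (h1.trans (mv_zero g).symm))

theorem min_index_psp {q : ℕ} (hF : Nat.card F = q) (hm : 2 ≤ m) (hq : 3 ≤ q) (hexc : ¬(m = 2 ∧ q = 3)) :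
    (∀ H : Subgroup (Cfsg.PSp m F), H ≠ ⊤ → (q ^ (2 * m) - 1) / (q - 1) ≤ H.index) ∧
      ∃ H : Subgroup (Cfsg.PSp m F), H.index = (q ^ (2 * m) - 1) / (q - 1) := by
  have hf := sympForm_isSymplectic m F
  have hn := card_fin_sum m
  have h4 : 4 ≤ Fintype.card (Fin m ⊕ Fin m) := by omega
  have hN : (q ^ (2 * m) - 1) / (q - 1) = Nat.card (ℙ F (Fin m ⊕ Fin m → F)) := by
    rw [← hF, ← card_lines_mul hf _ hn, Nat.add_sub_cancel, Nat.mul_div_cancel _ (by omega)]
  rw [hN]
  refine ⟨fun H hH => ?_, ?_⟩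
  · obtain ⟨K, hK, hKne, hidx⟩ := exists_linear H hH
    rw [← hidx]
    refine lines_le_relIndex hf h4 (hF ▸ hq) ?_ hK hKne
    rcases Nat.lt_or_ge q 4 with h | h
    · exact Or.inr (by omega)
    · exact Or.inl (hF ▸ h)
  · obtain ⟨x, hx⟩ : ∃ x : Fin m ⊕ Fin m → F, x ≠ 0 := ⟨Pi.single (.inl ⟨0, by omega⟩) 1, by simp⟩
    obtain ⟨H, hH⟩ := exists_projective (pStab (Cfsg.sympForm m F) x) fun g hg hc => central_line hg hc hx
    refine ⟨H, ?_⟩
    rw [hH, ← card_lineOrbit hf hx le_rfl, lineOrbit_isom hf hx, Nat.card_congr (Equiv.Set.univ _)]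

theorem min_index_sp_two (hF : Nat.card F = 2) (hm : 3 ≤ m) :
    (∀ H : Subgroup (Cfsg.PSp m F), H ≠ ⊤ → 2 ^ (m - 1) * (2 ^ m - 1) ≤ H.index) ∧
      ∃ H : Subgroup (Cfsg.PSp m F), H.index = 2 ^ (m - 1) * (2 ^ m - 1) := by
  have hf := sympForm_isSymplectic m F
  have hn := card_fin_sum m
  refine ⟨fun H hH => ?_, ?_⟩
  · obtain ⟨K, hK, hKne, hidx⟩ := exists_linear H hH
    rw [← hidx]
    exact bound_two hf hF hn hm hK hKne
  · have h2 := h2_of_card hf hF
    obtain ⟨K, hK, hidx⟩ := attain_two hf hF hn hm (Q := fun v => ∑ i : Fin m, v (.inl i) * v (.inr i))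
      (fun u _ v _ => by
        simp only [sympForm_eq_sum, Pi.add_apply, ← Finset.sum_add_distrib]
        refine Finset.sum_congr rfl fun i _ => ?_
        linear_combination (v (.inl i) * u (.inr i)) * h2)
    obtain ⟨H, hH⟩ := exists_projective K fun g hg hc => by
      have hfix : ∀ v, mv g v = v := fun v => by
        by_cases hv : v = 0
        · rw [hv, mv_zero]
        · obtain ⟨-, t, ht, htv⟩ := (mem_pStab hf hv).1 (central_line hg hc hv)
          rw [htv, (eq_zero_or_one hF t).resolve_left ht, one_smul]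
      rw [show g = 1 from ext_mv fun v => by rw [hfix, mv_one]]
      exact one_mem K
    exact ⟨H, hH.trans hidx⟩

end Cfsg.Agent.SpMin
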